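import Cfsg.Agent.Lib.M23Triples.Wit

/-!
# Certificates of generation, part 0
-/

set_option autoImplicit false

namespace Cfsg.Agent.Lib.M23Triples.Cert0

open Cfsg.Agent.Lib.PermComp Cfsg.Agent.Lib.PermComp.Mathieu.CertM23 Cfsg.Agent.Lib.M23Triples.Wit

def t2_5_11_X : Nat := nat_lit 0xbdaa79c9807b8710a544a184869570
def t2_5_11_Y : Nat := nat_lit 0xba1c5a55ec39171b29a984c6030832
def t2_5_11_prog : List (Nat × Nat × Nat) := [(nat_lit 1, nat_lit 1, nat_lit 0), (nat_lit 1, nat_lit 1, nat_lit 0), (nat_lit 0, nat_lit 3, nat_lit 2), (nat_lit 0, nat_lit 0, nat_lit 4), (nat_lit 0, nat_lit 0, nat_lit 4), (nat_lit 0, nat_lit 0, nat_lit 5), (nat_lit 0, nat_lit 4, nat_lit 4), (nat_lit 0, nat_lit 0, nat_lit 5), (nat_lit 0, nat_lit 0, nat_lit 2), (nat_lit 0, nat_lit 9, nat_lit 10), (nat_lit 0, nat_lit 0, nat_lit 11), (nat_lit 0, nat_lit 0, nat_lit 11), (nat_lit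 0, nat_lit 0, nat_lit 13), (nat_lit 0, nat_lit 0, nat_lit 13), (nat_lit 0, nat_lit 0, nat_lit 14), (nat_lit 0, nat_lit 0, nat_lit 16), (nat_lit 0, nat_lit 0, nat_lit 16), (nat_lit 0, nat_lit 0, nat_lit 17), (nat_lit 0, nat_lit 10, nat_lit 16), (nat_lit 0, nat_lit 0, nat_lit 18), (nat_lit 0, nat_lit 0, nat_lit 18), (nat_lit 0, nat_lit 0, nat_lit 19), (nat_lit 0, nat_lit 0, nat_lit 4), (nat_lit 0, nat_lit 24, nat_lit 24), (nat_lit 0, nat_lit 0, nat_lit 24), (nat_lit 0, nat_lit 0, nat_lit 26), (nat_lit 0, nat_lit 0, nat_lit 27), (nat_lit 0, nat_lit 0, nat_lit 27), (nat_lit 0, nat_lit 0, nat_lit 28), (nat_lit 0, nat_lit 0, nat_lit 30), (nat_lit 0, nat_lit 0, nat_lit 30), (nat_lit 0, nat_lit 0, nat_lit 32), (nat_lit 0, nat_lit 31, nat_lit 0), (nat_lit 1, nat_lit 24, nat_lit 0), (nat_lit 1, nat_lit 1, nat_lit 0), (nat_lit 1, nat_lit 12, nat_lit 0), (nat_lit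 0, nat_lit 3, nat_lit 13), (nat_lit 0, nat_lit 0, nat_lit 14), (nat_lit 0, nat_lit 0, nat_lit 29), (nat_lit 0, nat_lit 0, nat_lit 16), (nat_lit 0, nat_lit 0, nat_lit 7), (nat_lit 0, nat_lit 0, nat_lit 8), (nat_lit 0, nat_lit 8, nat_lit 7), (nat_lit 0, nat_lit 0, nat_lit 7), (nat_lit 0, nat_lit 0, nat_lit 9), (nat_lit 0, nat_lit 0, nat_lit 3), (nat_lit 0, nat_lit 37, nat_lit 13), (nat_lit 0, nat_lit 0, nat_lit 14), (nat_lit 0, nat_lit 0, nat_lit 25), (nat_lit 0, nat_lit 0, nat_lit 40), (nat_lit 0, nat_lit 0, nat_lit 17), (nat_lit 1, nat_lit 5, nat_lit 0), (nat_lit 1, nat_lit 1, nat_lit 0), (nat_lit 0, nat_lit 2, nat_lit 2), (nat_lit 0, nat_lit 0, nat_lit 8), (nat_lit 0, nat_lit 0, nat_lit 4), (nat_lit 0, nat_lit 0, nat_lit 5), (nat_lit 0, nat_lit 0, nat_lit 6), (nat_lit 0, nat_lit 0, nat_lit 7), (nat_lit 0, nat_lit 0, nat_lit 13), (nat_lit 0, nat_lit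 0, nat_lit 9), (nat_lit 0, nat_lit 0, nat_lit 15), (nat_lit 0, nat_lit 0, nat_lit 11), (nat_lit 0, nat_lit 0, nat_lit 12), (nat_lit 0, nat_lit 11, nat_lit 12), (nat_lit 0, nat_lit 0, nat_lit 1), (nat_lit 0, nat_lit 20, nat_lit 15), (nat_lit 0, nat_lit 0, nat_lit 21), (nat_lit 0, nat_lit 0, nat_lit 17), (nat_lit 0, nat_lit 0, nat_lit 23), (nat_lit 0, nat_lit 0, nat_lit 24), (nat_lit 0, nat_lit 0, nat_lit 20), (nat_lit 0, nat_lit 0, nat_lit 21), (nat_lit 0, nat_lit 0, nat_lit 22), (nat_lit 0, nat_lit 28, nat_lit 28), (nat_lit 0, nat_lit 0, nat_lit 24), (nat_lit 0, nat_lit 0, nat_lit 25), (nat_lit 0, nat_lit 0, nat_lit 31), (nat_lit 0, nat_lit 0, nat_lit 32), (nat_lit 0, nat_lit 0, nat_lit 33), (nat_lit 0, nat_lit 0, nat_lit 34), (nat_lit 0, nat_lit 0, nat_lit 35), (nat_lit 0, nat_lit 0, nat_lit 36), (nat_lit 0, nat_lit 0, nat_lit 32), (nat_lit 0, nat_lit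 32, nat_lit 0), (nat_lit 1, nat_lit 19, nat_lit 0), (nat_lit 1, nat_lit 12, nat_lit 0), (nat_lit 0, nat_lit 2, nat_lit 2), (nat_lit 0, nat_lit 0, nat_lit 14), (nat_lit 0, nat_lit 0, nat_lit 15), (nat_lit 0, nat_lit 0, nat_lit 16), (nat_lit 0, nat_lit 0, nat_lit 6), (nat_lit 0, nat_lit 0, nat_lit 7), (nat_lit 0, nat_lit 0, nat_lit 8), (nat_lit 0, nat_lit 0, nat_lit 9), (nat_lit 0, nat_lit 9, nat_lit 9), (nat_lit 0, nat_lit 0, nat_lit 1), (nat_lit 0, nat_lit 31, nat_lit 12), (nat_lit 0, nat_lit 0, nat_lit 13), (nat_lit 0, nat_lit 0, nat_lit 33), (nat_lit 0, nat_lit 0, nat_lit 15), (nat_lit 0, nat_lit 0, nat_lit 16), (nat_lit 0, nat_lit 0, nat_lit 36), (nat_lit 0, nat_lit 0, nat_lit 29), (nat_lit 0, nat_lit 0, nat_lit 38), (nat_lit 0, nat_lit 0, nat_lit 31), (nat_lit 0, nat_lit 19, nat_lit 20), (nat_lit 0, nat_lit 0, nat_lit 20), (nat_lit 0, nat_lit 0,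 nat_lit 2), (nat_lit 0, nat_lit 35, nat_lit 43), (nat_lit 0, nat_lit 0, nat_lit 25), (nat_lit 0, nat_lit 0, nat_lit 37), (nat_lit 0, nat_lit 0, nat_lit 38), (nat_lit 0, nat_lit 0, nat_lit 39), (nat_lit 0, nat_lit 0, nat_lit 40), (nat_lit 0, nat_lit 0, nat_lit 41), (nat_lit 0, nat_lit 0, nat_lit 50), (nat_lit 0, nat_lit 0, nat_lit 32), (nat_lit 0, nat_lit 0, nat_lit 33), (nat_lit 0, nat_lit 0, nat_lit 34), (nat_lit 0, nat_lit 34, nat_lit 33), (nat_lit 0, nat_lit 0, nat_lit 35), (nat_lit 0, nat_lit 0, nat_lit 2), (nat_lit 1, nat_lit 26, nat_lit 0), (nat_lit 1, nat_lit 1, nat_lit 0), (nat_lit 0, nat_lit 2, nat_lit 16), (nat_lit 0, nat_lit 0, nat_lit 3), (nat_lit 0, nat_lit 0, nat_lit 30), (nat_lit 0, nat_lit 0, nat_lit 31), (nat_lit 0, nat_lit 0, nat_lit 6), (nat_lit 0, nat_lit 0, nat_lit 33), (nat_lit 0, nat_lit 0, nat_lit 8), (nat_lit 0, nat_lit 0, nat_lit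 9), (nat_lit 0, nat_lit 9, nat_lit 8), (nat_lit 0, nat_lit 0, nat_lit 1)]
def t2_5_11_s0 : Nat := nat_lit 0xbdaa79c9807b8710a544a184869570
def t2_5_11_s1 : Nat := nat_lit 0xbad413344f71e438cd14854a465920
def t2_5_11_s2 : Nat := nat_lit 0xbceab6112d32a2743a05b0e9213c20
def t2_5_11_s3 : Nat := nat_lit 0xb925440cd651dae8a5e562e70a8820
def t2_5_11_s4 : Nat := nat_lit 0xbd6cb22627638cfa224a834b318820
def t2_5_11_s5 : Nat := nat_lit 0xb926faa22da3a0b6255231cb618820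
def t2_5_11_s6 : Nat := nat_lit 0xbc12ba18ad946c79b11553dc418820
noncomputable def t2_5_11_lev0 : Core.Lev := Core.mkLev m23_n m23_w m23_mask m23_L m23_maskL m23_idc (nat_lit 0) [t2_5_11_s6, t2_5_11_s4, t2_5_11_s5, t2_5_11_s3, t2_5_11_s2, t2_5_11_s1, t2_5_11_s0] [(nat_lit 16, t2_5_11_s0, nat_lit 0), (nat_lit 13, t2_5_11_s6, nat_lit 16), (nat_lit 7, t2_5_11_s4, nat_lit 16), (nat_lit 22, t2_5_11_s3, nat_lit 16), (nat_lit 15, t2_5_11_s1, nat_lit 16), (nat_lit 6, t2_5_11_s4, nat_lit 13), (nat_lit 17, t2_5_11_s2, nat_lit 13), (nat_lit 18, t2_5_11_s1, nat_lit 13), (nat_lit 3, t2_5_11_s0, nat_lit 13), (nat_lit 10, t2_5_11_s6, nat_lit 7), (nat_lit 12, t2_5_11_s3, nat_lit 7), (nat_lit 20, t2_5_11_s0, nat_lit 7), (nat_lit 21, t2_5_11_s4, nat_lit 22), (nat_lit 4, t2_5_11_s5, nat_lit 22), (nat_lit 19, t2_5_11_s2, nat_lit 22), (nat_lit 11, t2_5_11_s1, nat_lit 22),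 (nat_lit 14, t2_5_11_s1, nat_lit 15), (nat_lit 5, t2_5_11_s6, nat_lit 17), (nat_lit 9, t2_5_11_s2, nat_lit 17), (nat_lit 2, t2_5_11_s1, nat_lit 17), (nat_lit 8, t2_5_11_s5, nat_lit 18), (nat_lit 1, t2_5_11_s1, nat_lit 20)]
noncomputable def t2_5_11_lev1 : Core.Lev := Core.mkLev m23_n m23_w m23_mask m23_L m23_maskL m23_idc (nat_lit 1) [t2_5_11_s6, t2_5_11_s4, t2_5_11_s5, t2_5_11_s3, t2_5_11_s2, t2_5_11_s1] [(nat_lit 9, t2_5_11_s1, nat_lit 1), (nat_lit 8, t2_5_11_s6, nat_lit 9), (nat_lit 18, t2_5_11_s4, nat_lit 9), (nat_lit 10, t2_5_11_s5, nat_lit 9), (nat_lit 15, t2_5_11_s3, nat_lit 9), (nat_lit 16, t2_5_11_s2, nat_lit 9), (nat_lit 21, t2_5_11_s6, nat_lit 8), (nat_lit 5, t2_5_11_s3, nat_lit 8), (nat_lit 20, t2_5_11_s1, nat_lit 8), (nat_lit 6, t2_5_11_s6, nat_lit 18), (nat_lit 3, t2_5_11_s3, nat_lit 18), (nat_lit 4, t2_5_11_s2, nat_lit 18), (nat_lit 13,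 t2_5_11_s1, nat_lit 18), (nat_lit 12, t2_5_11_s6, nat_lit 10), (nat_lit 14, t2_5_11_s2, nat_lit 10), (nat_lit 19, t2_5_11_s1, nat_lit 10), (nat_lit 7, t2_5_11_s4, nat_lit 16), (nat_lit 22, t2_5_11_s3, nat_lit 16), (nat_lit 11, t2_5_11_s6, nat_lit 20), (nat_lit 2, t2_5_11_s2, nat_lit 3), (nat_lit 17, t2_5_11_s2, nat_lit 13)]
noncomputable def t2_5_11_lev2 : Core.Lev := Core.mkLev m23_n m23_w m23_mask m23_L m23_maskL m23_idc (nat_lit 2) [t2_5_11_s6, t2_5_11_s4, t2_5_11_s5, t2_5_11_s3, t2_5_11_s2] [(nat_lit 15, t2_5_11_s2, nat_lit 2), (nat_lit 18, t2_5_11_s6, nat_lit 15), (nat_lit 12, t2_5_11_s4, nat_lit 15), (nat_lit 20, t2_5_11_s5, nat_lit 15), (nat_lit 10, t2_5_11_s3, nat_lit 15), (nat_lit 6, t2_5_11_s2, nat_lit 15), (nat_lit 9, t2_5_11_s4, nat_lit 18), (nat_lit 8, t2_5_11_s5, nat_lit 18), (nat_lit 3, t2_5_11_s3, nat_lit 18), (nat_lit 4, t2_5_11_s2,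 nat_lit 18), (nat_lit 7, t2_5_11_s6, nat_lit 12), (nat_lit 11, t2_5_11_s5, nat_lit 12), (nat_lit 14, t2_5_11_s3, nat_lit 12), (nat_lit 13, t2_5_11_s4, nat_lit 6), (nat_lit 16, t2_5_11_s2, nat_lit 9), (nat_lit 21, t2_5_11_s6, nat_lit 8), (nat_lit 5, t2_5_11_s3, nat_lit 8), (nat_lit 19, t2_5_11_s4, nat_lit 4), (nat_lit 22, t2_5_11_s5, nat_lit 4), (nat_lit 17, t2_5_11_s3, nat_lit 11)]
noncomputable def t2_5_11_lev3 : Core.Lev := Core.mkLev m23_n m23_w m23_mask m23_L m23_maskL m23_idc (nat_lit 3) [t2_5_11_s6, t2_5_11_s4, t2_5_11_s5, t2_5_11_s3] [(nat_lit 21, t2_5_11_s3, nat_lit 3), (nat_lit 9, t2_5_11_s6, nat_lit 21), (nat_lit 22, t2_5_11_s4, nat_lit 21), (nat_lit 19, t2_5_11_s5, nat_lit 21), (nat_lit 18, t2_5_11_s3, nat_lit 21), (nat_lit 8, t2_5_11_s6, nat_lit 9), (nat_lit 10, t2_5_11_s5, nat_lit 9), (nat_lit 15, t2_5_11_s3, nat_lit 9), (nat_lit 16, t2_5_11_s6,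 nat_lit 22), (nat_lit 4, t2_5_11_s5, nat_lit 22), (nat_lit 20, t2_5_11_s6, nat_lit 19), (nat_lit 6, t2_5_11_s6, nat_lit 18), (nat_lit 5, t2_5_11_s3, nat_lit 8), (nat_lit 12, t2_5_11_s6, nat_lit 10), (nat_lit 13, t2_5_11_s6, nat_lit 16), (nat_lit 7, t2_5_11_s4, nat_lit 16), (nat_lit 11, t2_5_11_s6, nat_lit 20), (nat_lit 14, t2_5_11_s6, nat_lit 5), (nat_lit 17, t2_5_11_s3, nat_lit 11)]
noncomputable def t2_5_11_lev4 : Core.Lev := Core.mkLev m23_n m23_w m23_mask m23_L m23_maskL m23_idc (nat_lit 4) [t2_5_11_s6, t2_5_11_s4, t2_5_11_s5] [(nat_lit 19, t2_5_11_s4, nat_lit 4), (nat_lit 22, t2_5_11_s5, nat_lit 4), (nat_lit 20, t2_5_11_s6, nat_lit 19), (nat_lit 21, t2_5_11_s5, nat_lit 19), (nat_lit 16, t2_5_11_s6, nat_lit 22), (nat_lit 11, t2_5_11_s6, nat_lit 20), (nat_lit 15, t2_5_11_s5, nat_lit 20), (nat_lit 9, t2_5_11_s6, nat_lit 21), (nat_lit 13, t2_5_11_s6,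 nat_lit 16), (nat_lit 7, t2_5_11_s4, nat_lit 16), (nat_lit 12, t2_5_11_s5, nat_lit 11), (nat_lit 18, t2_5_11_s6, nat_lit 15), (nat_lit 8, t2_5_11_s6, nat_lit 9), (nat_lit 10, t2_5_11_s5, nat_lit 9), (nat_lit 6, t2_5_11_s4, nat_lit 13)]
noncomputable def t2_5_11_lev5 : Core.Lev := Core.mkLev m23_n m23_w m23_mask m23_L m23_maskL m23_idc (nat_lit 5) [t2_5_11_s6] [(nat_lit 14, t2_5_11_s6, nat_lit 5), (nat_lit 17, t2_5_11_s6, nat_lit 14)]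
noncomputable def t2_5_11_levels : List Core.Lev := [t2_5_11_lev0, t2_5_11_lev1, t2_5_11_lev2, t2_5_11_lev3, t2_5_11_lev4, t2_5_11_lev5]
theorem t2_5_11_ok : Core.checkAll m23_n m23_w m23_mask m23_L m23_maskL m23_idc [t2_5_11_X, t2_5_11_Y] t2_5_11_prog t2_5_11_levels = true := by decide +kernel
theorem t2_5_11_ord : Core.orderC t2_5_11_levels = 10200960 := by decide +kernel
theorem t2_5_11_tr : tripleOK 2 5 11 t2_5_11_X t2_5_11_Y = true := by decide +kernel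
theorem wit_2_5_11 : WitP 2 5 11 := wit_of (by norm_num) (by norm_num) (by norm_num) t2_5_11_ok t2_5_11_ord t2_5_11_tr

def t2_5_23_X : Nat := nat_lit 0xbdaa79c9807b8710a544a184869570
def t2_5_23_Y : Nat := nat_lit 0xbb60138e3465a6922e55728c578900
def t2_5_23_prog : List (Nat × Nat × Nat) := [(nat_lit 1, nat_lit 1, nat_lit 0), (nat_lit 1, nat_lit 1, nat_lit 0), (nat_lit 0, nat_lit 3, nat_lit 2), (nat_lit 0, nat_lit 0, nat_lit 4), (nat_lit 0, nat_lit 0, nat_lit 4), (nat_lit 0, nat_lit 0, nat_lit 5), (nat_lit 0, nat_lit 5, nat_lit 4), (nat_lit 0, nat_lit 0, nat_lit 6), (nat_lit 0, nat_lit 0, nat_lit 2), (nat_lit 0, nat_lit 9, nat_lit 10), (nat_lit 0, nat_lit 0, nat_lit 11), (nat_lit 0, nat_lit 0, nat_lit 11), (nat_lit 0, nat_lit 0, nat_lit 13), (nat_lit 0, nat_lit 0, nat_lit 13), (nat_lit 0, nat_lit 0, nat_lit 14), (nat_lit 0, nat_lit 0, nat_lit 16),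 (nat_lit 0, nat_lit 0, nat_lit 16), (nat_lit 0, nat_lit 0, nat_lit 17), (nat_lit 0, nat_lit 11, nat_lit 16), (nat_lit 0, nat_lit 0, nat_lit 18), (nat_lit 0, nat_lit 0, nat_lit 18), (nat_lit 0, nat_lit 0, nat_lit 19), (nat_lit 0, nat_lit 0, nat_lit 4), (nat_lit 0, nat_lit 18, nat_lit 24), (nat_lit 0, nat_lit 0, nat_lit 25), (nat_lit 0, nat_lit 0, nat_lit 25), (nat_lit 0, nat_lit 0, nat_lit 27), (nat_lit 0, nat_lit 0, nat_lit 27), (nat_lit 0, nat_lit 0, nat_lit 28), (nat_lit 0, nat_lit 0, nat_lit 30), (nat_lit 0, nat_lit 8, nat_lit 0), (nat_lit 1, nat_lit 0, nat_lit 0), (nat_lit 0, nat_lit 9, nat_lit 1), (nat_lit 0, nat_lit 0, nat_lit 10), (nat_lit 0, nat_lit 0, nat_lit 3), (nat_lit 0, nat_lit 0, nat_lit 12), (nat_lit 0, nat_lit 0, nat_lit 5), (nat_lit 0, nat_lit 0, nat_lit 28), (nat_lit 0, nat_lit 0, nat_lit 15), (nat_lit 0, nat_lit 30, nat_lit 16),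 (nat_lit 0, nat_lit 0, nat_lit 9), (nat_lit 0, nat_lit 0, nat_lit 32), (nat_lit 0, nat_lit 0, nat_lit 19), (nat_lit 0, nat_lit 0, nat_lit 12), (nat_lit 0, nat_lit 0, nat_lit 13), (nat_lit 0, nat_lit 0, nat_lit 14), (nat_lit 0, nat_lit 0, nat_lit 15), (nat_lit 0, nat_lit 0, nat_lit 24), (nat_lit 0, nat_lit 16, nat_lit 0), (nat_lit 1, nat_lit 10, nat_lit 0), (nat_lit 1, nat_lit 1, nat_lit 0), (nat_lit 0, nat_lit 12, nat_lit 12), (nat_lit 0, nat_lit 0, nat_lit 13), (nat_lit 0, nat_lit 0, nat_lit 4), (nat_lit 0, nat_lit 0, nat_lit 5), (nat_lit 0, nat_lit 0, nat_lit 6), (nat_lit 0, nat_lit 0, nat_lit 17), (nat_lit 0, nat_lit 0, nat_lit 8), (nat_lit 0, nat_lit 0, nat_lit 19), (nat_lit 0, nat_lit 0, nat_lit 10), (nat_lit 0, nat_lit 0, nat_lit 11), (nat_lit 0, nat_lit 11, nat_lit 10), (nat_lit 0, nat_lit 0, nat_lit 12), (nat_lit 0, nat_lit 0, nat_lit 2), (nat_lit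 0, nat_lit 15, nat_lit 15), (nat_lit 0, nat_lit 0, nat_lit 16), (nat_lit 0, nat_lit 0, nat_lit 27), (nat_lit 0, nat_lit 0, nat_lit 18), (nat_lit 0, nat_lit 0, nat_lit 29), (nat_lit 0, nat_lit 0, nat_lit 30), (nat_lit 0, nat_lit 0, nat_lit 21), (nat_lit 0, nat_lit 0, nat_lit 32), (nat_lit 0, nat_lit 22, nat_lit 22), (nat_lit 0, nat_lit 0, nat_lit 23), (nat_lit 0, nat_lit 0, nat_lit 24), (nat_lit 0, nat_lit 0, nat_lit 3), (nat_lit 0, nat_lit 27, nat_lit 37), (nat_lit 0, nat_lit 0, nat_lit 28), (nat_lit 0, nat_lit 0, nat_lit 29), (nat_lit 0, nat_lit 0, nat_lit 30), (nat_lit 0, nat_lit 0, nat_lit 31), (nat_lit 0, nat_lit 0, nat_lit 32), (nat_lit 0, nat_lit 0, nat_lit 43), (nat_lit 0, nat_lit 0, nat_lit 34), (nat_lit 0, nat_lit 21, nat_lit 0), (nat_lit 1, nat_lit 21, nat_lit 0), (nat_lit 1, nat_lit 10, nat_lit 0), (nat_lit 1, nat_lit 2, nat_lit 0), (nat_lit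 0, nat_lit 12, nat_lit 24), (nat_lit 0, nat_lit 0, nat_lit 4), (nat_lit 0, nat_lit 0, nat_lit 26), (nat_lit 0, nat_lit 5, nat_lit 0), (nat_lit 0, nat_lit 7, nat_lit 28), (nat_lit 0, nat_lit 0, nat_lit 8), (nat_lit 0, nat_lit 0, nat_lit 18), (nat_lit 0, nat_lit 0, nat_lit 31), (nat_lit 0, nat_lit 0, nat_lit 11), (nat_lit 0, nat_lit 11, nat_lit 9), (nat_lit 0, nat_lit 0, nat_lit 1), (nat_lit 0, nat_lit 35, nat_lit 35), (nat_lit 0, nat_lit 0, nat_lit 15), (nat_lit 0, nat_lit 0, nat_lit 37), (nat_lit 0, nat_lit 0, nat_lit 26), (nat_lit 0, nat_lit 0, nat_lit 27), (nat_lit 0, nat_lit 0, nat_lit 40), (nat_lit 0, nat_lit 0, nat_lit 41), (nat_lit 0, nat_lit 19, nat_lit 0), (nat_lit 1, nat_lit 8, nat_lit 0), (nat_lit 0, nat_lit 9, nat_lit 9), (nat_lit 0, nat_lit 0, nat_lit 10), (nat_lit 0, nat_lit 0, nat_lit 18), (nat_lit 0, nat_lit 0, nat_lit 19), (nat_lit 0,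 nat_lit 0, nat_lit 13), (nat_lit 0, nat_lit 0, nat_lit 14), (nat_lit 0, nat_lit 0, nat_lit 15), (nat_lit 0, nat_lit 0, nat_lit 16), (nat_lit 0, nat_lit 8, nat_lit 0)]
def t2_5_23_s0 : Nat := nat_lit 0xbdaa79c9807b8710a544a184869570
def t2_5_23_s1 : Nat := nat_lit 0xbce8873e214b4f229070b2d4660aa0
def t2_5_23_s2 : Nat := nat_lit 0xbc2ad6096944e51719457d887a0c20
def t2_5_23_s3 : Nat := nat_lit 0xbd4682c146626762496d7468778820
def t2_5_23_s4 : Nat := nat_lit 0xbc92655a2c3b9706cea47d0a818820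
def t2_5_23_s5 : Nat := nat_lit 0xba4eca91d491550b216d99a2f18820
def t2_5_23_s6 : Nat := nat_lit 0xbb5135bdd63160aa1ea964a2418820
noncomputable def t2_5_23_lev0 : Core.Lev := Core.mkLev m23_n m23_w m23_mask m23_L m23_maskL m23_idc (nat_lit 0) [t2_5_23_s6, t2_5_23_s4, t2_5_23_s5, t2_5_23_s3, t2_5_23_s2, t2_5_23_s1, t2_5_23_s0] [(nat_lit 16, t2_5_23_s0, nat_lit 0), (nat_lit 22, t2_5_23_s6, nat_lit 16), (nat_lit 12, t2_5_23_s4, nat_lit 16), (nat_lit 20, t2_5_23_s5, nat_lit 16), (nat_lit 6, t2_5_23_s3, nat_lit 16), (nat_lit 9, t2_5_23_s2, nat_lit 16), (nat_lit 1, t2_5_23_s1, nat_lit 16), (nat_lit 13, t2_5_23_s6, nat_lit 22), (nat_lit 18, t2_5_23_s4, nat_lit 22), (nat_lit 21, t2_5_23_s3, nat_lit 22), (nat_lit 19, t2_5_23_s1, nat_lit 22), (nat_lit 10, t2_5_23_s6, nat_lit 12), (nat_lit 17, t2_5_23_s2, nat_lit 12), (nat_lit 8, t2_5_23_s3, nat_lit 20), (nat_lit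 7, t2_5_23_s0, nat_lit 20), (nat_lit 11, t2_5_23_s1, nat_lit 6), (nat_lit 3, t2_5_23_s1, nat_lit 9), (nat_lit 15, t2_5_23_s6, nat_lit 18), (nat_lit 4, t2_5_23_s5, nat_lit 18), (nat_lit 2, t2_5_23_s2, nat_lit 18), (nat_lit 5, t2_5_23_s3, nat_lit 19), (nat_lit 14, t2_5_23_s1, nat_lit 19)]
noncomputable def t2_5_23_lev1 : Core.Lev := Core.mkLev m23_n m23_w m23_mask m23_L m23_maskL m23_idc (nat_lit 1) [t2_5_23_s6, t2_5_23_s4, t2_5_23_s5, t2_5_23_s3, t2_5_23_s2, t2_5_23_s1] [(nat_lit 21, t2_5_23_s1, nat_lit 1), (nat_lit 8, t2_5_23_s6, nat_lit 21), (nat_lit 9, t2_5_23_s4, nat_lit 21), (nat_lit 7, t2_5_23_s5, nat_lit 21), (nat_lit 3, t2_5_23_s3, nat_lit 21), (nat_lit 20, t2_5_23_s1, nat_lit 21), (nat_lit 4, t2_5_23_s4, nat_lit 8), (nat_lit 13, t2_5_23_s5, nat_lit 8), (nat_lit 5, t2_5_23_s2, nat_lit 8), (nat_lit 16, t2_5_23_s1, nat_lit 8), (nat_lit 11, t2_5_23_s5,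 nat_lit 9), (nat_lit 10, t2_5_23_s2, nat_lit 9), (nat_lit 12, t2_5_23_s6, nat_lit 7), (nat_lit 15, t2_5_23_s4, nat_lit 7), (nat_lit 19, t2_5_23_s5, nat_lit 7), (nat_lit 14, t2_5_23_s3, nat_lit 7), (nat_lit 22, t2_5_23_s1, nat_lit 7), (nat_lit 6, t2_5_23_s4, nat_lit 20), (nat_lit 18, t2_5_23_s2, nat_lit 13), (nat_lit 17, t2_5_23_s6, nat_lit 5), (nat_lit 2, t2_5_23_s2, nat_lit 18)]
noncomputable def t2_5_23_lev2 : Core.Lev := Core.mkLev m23_n m23_w m23_mask m23_L m23_maskL m23_idc (nat_lit 2) [t2_5_23_s6, t2_5_23_s4, t2_5_23_s5, t2_5_23_s3, t2_5_23_s2] [(nat_lit 3, t2_5_23_s2, nat_lit 2), (nat_lit 15, t2_5_23_s3, nat_lit 3), (nat_lit 20, t2_5_23_s2, nat_lit 3), (nat_lit 6, t2_5_23_s6, nat_lit 15), (nat_lit 7, t2_5_23_s4, nat_lit 15), (nat_lit 18, t2_5_23_s5, nat_lit 15), (nat_lit 12, t2_5_23_s3, nat_lit 15), (nat_lit 8, t2_5_23_s2, nat_lit 15), (nat_lit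 19, t2_5_23_s6, nat_lit 20), (nat_lit 13, t2_5_23_s2, nat_lit 20), (nat_lit 17, t2_5_23_s3, nat_lit 6), (nat_lit 22, t2_5_23_s2, nat_lit 6), (nat_lit 14, t2_5_23_s3, nat_lit 7), (nat_lit 4, t2_5_23_s5, nat_lit 18), (nat_lit 16, t2_5_23_s3, nat_lit 18), (nat_lit 10, t2_5_23_s6, nat_lit 12), (nat_lit 9, t2_5_23_s6, nat_lit 8), (nat_lit 5, t2_5_23_s2, nat_lit 8), (nat_lit 11, t2_5_23_s6, nat_lit 19), (nat_lit 21, t2_5_23_s5, nat_lit 19)]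
noncomputable def t2_5_23_lev3 : Core.Lev := Core.mkLev m23_n m23_w m23_mask m23_L m23_maskL m23_idc (nat_lit 3) [t2_5_23_s6, t2_5_23_s4, t2_5_23_s5, t2_5_23_s3] [(nat_lit 15, t2_5_23_s3, nat_lit 3), (nat_lit 6, t2_5_23_s6, nat_lit 15), (nat_lit 7, t2_5_23_s4, nat_lit 15), (nat_lit 18, t2_5_23_s5, nat_lit 15), (nat_lit 12, t2_5_23_s3, nat_lit 15), (nat_lit 20, t2_5_23_s4, nat_lit 6), (nat_lit 17, t2_5_23_s3, nat_lit 6), (nat_lit 19, t2_5_23_s5, nat_lit 7), (nat_lit 14, t2_5_23_s3, nat_lit 7), (nat_lit 22, t2_5_23_s4, nat_lit 18), (nat_lit 4, t2_5_23_s5, nat_lit 18), (nat_lit 16, t2_5_23_s3, nat_lit 18), (nat_lit 10, t2_5_23_s6, nat_lit 12), (nat_lit 8, t2_5_23_s3, nat_lit 20), (nat_lit 11, t2_5_23_s6, nat_lit 19), (nat_lit 21, t2_5_23_s5, nat_lit 19), (nat_lit 5, t2_5_23_s3, nat_lit 19), (nat_lit 9, t2_5_23_s3, nat_lit 14), (nat_lit 13, t2_5_23_s6,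 nat_lit 22)]
noncomputable def t2_5_23_lev4 : Core.Lev := Core.mkLev m23_n m23_w m23_mask m23_L m23_maskL m23_idc (nat_lit 4) [t2_5_23_s6, t2_5_23_s4, t2_5_23_s5] [(nat_lit 8, t2_5_23_s4, nat_lit 4), (nat_lit 15, t2_5_23_s5, nat_lit 4), (nat_lit 9, t2_5_23_s6, nat_lit 8), (nat_lit 13, t2_5_23_s5, nat_lit 8), (nat_lit 6, t2_5_23_s6, nat_lit 15), (nat_lit 7, t2_5_23_s4, nat_lit 15), (nat_lit 18, t2_5_23_s5, nat_lit 15), (nat_lit 21, t2_5_23_s6, nat_lit 9), (nat_lit 11, t2_5_23_s5, nat_lit 9), (nat_lit 16, t2_5_23_s6, nat_lit 13), (nat_lit 10, t2_5_23_s5, nat_lit 13), (nat_lit 20, t2_5_23_s4, nat_lit 6), (nat_lit 12, t2_5_23_s6, nat_lit 7), (nat_lit 19, t2_5_23_s5, nat_lit 7), (nat_lit 22, t2_5_23_s4, nat_lit 18)]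
noncomputable def t2_5_23_lev5 : Core.Lev := Core.mkLev m23_n m23_w m23_mask m23_L m23_maskL m23_idc (nat_lit 5) [t2_5_23_s6] [(nat_lit 17, t2_5_23_s6, nat_lit 5), (nat_lit 14, t2_5_23_s6, nat_lit 17)]
noncomputable def t2_5_23_levels : List Core.Lev := [t2_5_23_lev0, t2_5_23_lev1, t2_5_23_lev2, t2_5_23_lev3, t2_5_23_lev4, t2_5_23_lev5]
theorem t2_5_23_ok : Core.checkAll m23_n m23_w m23_mask m23_L m23_maskL m23_idc [t2_5_23_X, t2_5_23_Y] t2_5_23_prog t2_5_23_levels = true := by decide +kernel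
theorem t2_5_23_ord : Core.orderC t2_5_23_levels = 10200960 := by decide +kernel
theorem t2_5_23_tr : tripleOK 2 5 23 t2_5_23_X t2_5_23_Y = true := by decide +kernel
theorem wit_2_5_23 : WitP 2 5 23 := wit_of (by norm_num) (by norm_num) (by norm_num) t2_5_23_ok t2_5_23_ord t2_5_23_tr

def t2_7_7_X : Nat := nat_lit 0xbdaa79c9807b8710a544a184869570
def t2_7_7_Y : Nat := nat_lit 0xbb20e392285d4d2525a5b00411d26f
def t2_7_7_prog : List (Nat × Nat × Nat) := [(nat_lit 1, nat_lit 1, nat_lit 0), (nat_lit 1, nat_lit 1, nat_lit 0), (nat_lit 0, nat_lit 3, nat_lit 2), (nat_lit 0, nat_lit 0, nat_lit 4), (nat_lit 0, nat_lit 0, nat_lit 4), (nat_lit 0, nat_lit 0, nat_lit 5), (nat_lit 0, nat_lit 4, nat_lit 4), (nat_lit 0, nat_lit 0, nat_lit 6), (nat_lit 0, nat_lit 0, nat_lit 6), (nat_lit 0, nat_lit 0, nat_lit 3), (nat_lit 0, nat_lit 10, nat_lit 11), (nat_lit 0, nat_lit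 0, nat_lit 12), (nat_lit 0, nat_lit 0, nat_lit 12), (nat_lit 0, nat_lit 0, nat_lit 14), (nat_lit 0, nat_lit 0, nat_lit 14), (nat_lit 0, nat_lit 0, nat_lit 15), (nat_lit 0, nat_lit 0, nat_lit 17), (nat_lit 0, nat_lit 0, nat_lit 17), (nat_lit 0, nat_lit 0, nat_lit 18), (nat_lit 0, nat_lit 18, nat_lit 17), (nat_lit 0, nat_lit 0, nat_lit 18), (nat_lit 0, nat_lit 0, nat_lit 20), (nat_lit 0, nat_lit 0, nat_lit 20), (nat_lit 0, nat_lit 0, nat_lit 21), (nat_lit 0, nat_lit 0, nat_lit 22), (nat_lit 0, nat_lit 0, nat_lit 6), (nat_lit 0, nat_lit 27, nat_lit 27), (nat_lit 0, nat_lit 0, nat_lit 27), (nat_lit 0, nat_lit 0, nat_lit 29), (nat_lit 0, nat_lit 0, nat_lit 30), (nat_lit 0, nat_lit 0, nat_lit 30), (nat_lit 0, nat_lit 0, nat_lit 31), (nat_lit 0, nat_lit 0, nat_lit 33), (nat_lit 0, nat_lit 0, nat_lit 33), (nat_lit 0, nat_lit 0, nat_lit 35), (nat_lit 0, nat_lit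 26, nat_lit 33), (nat_lit 0, nat_lit 0, nat_lit 1), (nat_lit 1, nat_lit 11, nat_lit 0), (nat_lit 1, nat_lit 1, nat_lit 0), (nat_lit 0, nat_lit 2, nat_lit 13), (nat_lit 0, nat_lit 0, nat_lit 14), (nat_lit 0, nat_lit 0, nat_lit 31), (nat_lit 0, nat_lit 0, nat_lit 16), (nat_lit 0, nat_lit 0, nat_lit 6), (nat_lit 0, nat_lit 0, nat_lit 7), (nat_lit 0, nat_lit 7, nat_lit 6), (nat_lit 0, nat_lit 0, nat_lit 1), (nat_lit 0, nat_lit 37, nat_lit 10), (nat_lit 0, nat_lit 0, nat_lit 11), (nat_lit 0, nat_lit 0, nat_lit 23), (nat_lit 0, nat_lit 0, nat_lit 40), (nat_lit 0, nat_lit 0, nat_lit 14), (nat_lit 0, nat_lit 14, nat_lit 14), (nat_lit 0, nat_lit 0, nat_lit 14), (nat_lit 0, nat_lit 0, nat_lit 2), (nat_lit 1, nat_lit 8, nat_lit 0), (nat_lit 1, nat_lit 1, nat_lit 0), (nat_lit 0, nat_lit 2, nat_lit 2), (nat_lit 0, nat_lit 0, nat_lit 11), (nat_lit 0, nat_lit 0, nat_lit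 4), (nat_lit 0, nat_lit 0, nat_lit 5), (nat_lit 0, nat_lit 0, nat_lit 6), (nat_lit 0, nat_lit 0, nat_lit 7), (nat_lit 0, nat_lit 0, nat_lit 16), (nat_lit 0, nat_lit 0, nat_lit 9), (nat_lit 0, nat_lit 0, nat_lit 18), (nat_lit 0, nat_lit 0, nat_lit 11), (nat_lit 0, nat_lit 0, nat_lit 12), (nat_lit 0, nat_lit 12, nat_lit 12), (nat_lit 0, nat_lit 0, nat_lit 12), (nat_lit 0, nat_lit 0, nat_lit 13), (nat_lit 0, nat_lit 0, nat_lit 3), (nat_lit 0, nat_lit 25, nat_lit 17), (nat_lit 0, nat_lit 0, nat_lit 26), (nat_lit 0, nat_lit 0, nat_lit 19), (nat_lit 0, nat_lit 0, nat_lit 28), (nat_lit 0, nat_lit 0, nat_lit 29), (nat_lit 0, nat_lit 0, nat_lit 22), (nat_lit 0, nat_lit 0, nat_lit 23), (nat_lit 0, nat_lit 0, nat_lit 24), (nat_lit 0, nat_lit 23, nat_lit 24), (nat_lit 0, nat_lit 0, nat_lit 25), (nat_lit 0, nat_lit 0, nat_lit 2), (nat_lit 0, nat_lit 36, nat_lit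 36), (nat_lit 0, nat_lit 0, nat_lit 29), (nat_lit 0, nat_lit 0, nat_lit 30), (nat_lit 0, nat_lit 0, nat_lit 39), (nat_lit 0, nat_lit 0, nat_lit 40), (nat_lit 0, nat_lit 0, nat_lit 41), (nat_lit 0, nat_lit 0, nat_lit 42), (nat_lit 0, nat_lit 0, nat_lit 43), (nat_lit 0, nat_lit 0, nat_lit 44), (nat_lit 0, nat_lit 0, nat_lit 37), (nat_lit 0, nat_lit 37, nat_lit 36), (nat_lit 0, nat_lit 0, nat_lit 1), (nat_lit 1, nat_lit 23, nat_lit 0), (nat_lit 1, nat_lit 13, nat_lit 0), (nat_lit 1, nat_lit 2, nat_lit 0), (nat_lit 0, nat_lit 26, nat_lit 3), (nat_lit 0, nat_lit 0, nat_lit 4), (nat_lit 0, nat_lit 0, nat_lit 28), (nat_lit 0, nat_lit 0, nat_lit 6), (nat_lit 0, nat_lit 0, nat_lit 7), (nat_lit 0, nat_lit 0, nat_lit 31), (nat_lit 0, nat_lit 0, nat_lit 21), (nat_lit 0, nat_lit 0, nat_lit 33), (nat_lit 0, nat_lit 0, nat_lit 23), (nat_lit 0, nat_lit 9, nat_lit 9),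 (nat_lit 0, nat_lit 0, nat_lit 11), (nat_lit 0, nat_lit 0, nat_lit 2), (nat_lit 0, nat_lit 27, nat_lit 38), (nat_lit 0, nat_lit 0, nat_lit 16), (nat_lit 0, nat_lit 0, nat_lit 29), (nat_lit 0, nat_lit 0, nat_lit 30), (nat_lit 0, nat_lit 0, nat_lit 31), (nat_lit 0, nat_lit 0, nat_lit 32), (nat_lit 0, nat_lit 0, nat_lit 33), (nat_lit 0, nat_lit 0, nat_lit 45), (nat_lit 0, nat_lit 0, nat_lit 23), (nat_lit 0, nat_lit 0, nat_lit 24), (nat_lit 0, nat_lit 0, nat_lit 25), (nat_lit 0, nat_lit 23, nat_lit 25), (nat_lit 0, nat_lit 0, nat_lit 1), (nat_lit 0, nat_lit 28, nat_lit 40), (nat_lit 0, nat_lit 0, nat_lit 29), (nat_lit 0, nat_lit 0, nat_lit 53), (nat_lit 0, nat_lit 0, nat_lit 54), (nat_lit 0, nat_lit 0, nat_lit 32), (nat_lit 0, nat_lit 0, nat_lit 56), (nat_lit 0, nat_lit 0, nat_lit 34), (nat_lit 0, nat_lit 0, nat_lit 35), (nat_lit 0, nat_lit 34, nat_lit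 33), (nat_lit 0, nat_lit 0, nat_lit 1), (nat_lit 1, nat_lit 23, nat_lit 0), (nat_lit 1, nat_lit 1, nat_lit 0), (nat_lit 0, nat_lit 25, nat_lit 2), (nat_lit 0, nat_lit 0, nat_lit 13), (nat_lit 0, nat_lit 0, nat_lit 27), (nat_lit 0, nat_lit 0, nat_lit 5), (nat_lit 0, nat_lit 5, nat_lit 5), (nat_lit 0, nat_lit 0, nat_lit 5), (nat_lit 0, nat_lit 0, nat_lit 2)]
def t2_7_7_s0 : Nat := nat_lit 0xbdaa79c9807b8710a544a184869570
def t2_7_7_s1 : Nat := nat_lit 0xb9a166486b6d4914bdc8986823a8a0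
def t2_7_7_s2 : Nat := nat_lit 0xb9062958b1a54d343d4e3c1ac5a420
def t2_7_7_s3 : Nat := nat_lit 0xb9c6b2da9393cd06b1047455548820
def t2_7_7_s4 : Nat := nat_lit 0xb990f640a75466db512492dd518820
def t2_7_7_s5 : Nat := nat_lit 0xbb2c9819c8795753d1536923218820
def t2_7_7_s6 : Nat := nat_lit 0xbc12ba18ad946c79b11553dc418820
noncomputable def t2_7_7_lev0 : Core.Lev := Core.mkLev m23_n m23_w m23_mask m23_L m23_maskL m23_idc (nat_lit 0) [t2_7_7_s6, t2_7_7_s4, t2_7_7_s5, t2_7_7_s3, t2_7_7_s2, t2_7_7_s1, t2_7_7_s0] [(nat_lit 16, t2_7_7_s0, nat_lit 0), (nat_lit 13, t2_7_7_s6, nat_lit 16), (nat_lit 7, t2_7_7_s4, nat_lit 16), (nat_lit 8, t2_7_7_s5, nat_lit 16), (nat_lit 19, t2_7_7_s3, nat_lit 16), (nat_lit 17, t2_7_7_s2, nat_lit 16), (nat_lit 11, t2_7_7_s1, nat_lit 16), (nat_lit 22, t2_7_7_s6, nat_lit 13), (nat_lit 6, t2_7_7_s3, nat_lit 13), (nat_lit 4, t2_7_7_s1,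 nat_lit 13), (nat_lit 3, t2_7_7_s0, nat_lit 13), (nat_lit 10, t2_7_7_s6, nat_lit 7), (nat_lit 18, t2_7_7_s4, nat_lit 7), (nat_lit 14, t2_7_7_s3, nat_lit 7), (nat_lit 20, t2_7_7_s0, nat_lit 7), (nat_lit 21, t2_7_7_s6, nat_lit 8), (nat_lit 12, t2_7_7_s4, nat_lit 19), (nat_lit 5, t2_7_7_s3, nat_lit 19), (nat_lit 9, t2_7_7_s1, nat_lit 11), (nat_lit 1, t2_7_7_s0, nat_lit 11), (nat_lit 15, t2_7_7_s6, nat_lit 6), (nat_lit 2, t2_7_7_s1, nat_lit 4)]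
noncomputable def t2_7_7_lev1 : Core.Lev := Core.mkLev m23_n m23_w m23_mask m23_L m23_maskL m23_idc (nat_lit 1) [t2_7_7_s6, t2_7_7_s4, t2_7_7_s5, t2_7_7_s3, t2_7_7_s2, t2_7_7_s1] [(nat_lit 5, t2_7_7_s1, nat_lit 1), (nat_lit 14, t2_7_7_s6, nat_lit 5), (nat_lit 17, t2_7_7_s5, nat_lit 5), (nat_lit 10, t2_7_7_s3, nat_lit 5), (nat_lit 13, t2_7_7_s2, nat_lit 5), (nat_lit 20, t2_7_7_s1, nat_lit 5), (nat_lit 15, t2_7_7_s3, nat_lit 14), (nat_lit 21, t2_7_7_s2, nat_lit 14), (nat_lit 3, t2_7_7_s1, nat_lit 17), (nat_lit 12, t2_7_7_s6, nat_lit 10), (nat_lit 22, t2_7_7_s6, nat_lit 13), (nat_lit 19, t2_7_7_s4, nat_lit 13), (nat_lit 11, t2_7_7_s5, nat_lit 13), (nat_lit 6, t2_7_7_s3, nat_lit 13), (nat_lit 4, t2_7_7_s1, nat_lit 13), (nat_lit 9, t2_7_7_s5, nat_lit 20), (nat_lit 2, t2_7_7_s2, nat_lit 20), (nat_lit 18, t2_7_7_s6, nat_lit 15), (nat_lit 8, t2_7_7_s4, nat_lit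 21), (nat_lit 16, t2_7_7_s1, nat_lit 21), (nat_lit 7, t2_7_7_s1, nat_lit 3)]
noncomputable def t2_7_7_lev2 : Core.Lev := Core.mkLev m23_n m23_w m23_mask m23_L m23_maskL m23_idc (nat_lit 2) [t2_7_7_s6, t2_7_7_s4, t2_7_7_s5, t2_7_7_s3, t2_7_7_s2] [(nat_lit 9, t2_7_7_s2, nat_lit 2), (nat_lit 8, t2_7_7_s6, nat_lit 9), (nat_lit 10, t2_7_7_s5, nat_lit 9), (nat_lit 21, t2_7_7_s6, nat_lit 8), (nat_lit 4, t2_7_7_s4, nat_lit 8), (nat_lit 19, t2_7_7_s5, nat_lit 8), (nat_lit 14, t2_7_7_s2, nat_lit 8), (nat_lit 12, t2_7_7_s6, nat_lit 10), (nat_lit 20, t2_7_7_s4, nat_lit 10), (nat_lit 15, t2_7_7_s2, nat_lit 10), (nat_lit 22, t2_7_7_s5, nat_lit 21), (nat_lit 3, t2_7_7_s3, nat_lit 21), (nat_lit 18, t2_7_7_s5, nat_lit 4), (nat_lit 16, t2_7_7_s5, nat_lit 19), (nat_lit 5, t2_7_7_s3, nat_lit 19), (nat_lit 17, t2_7_7_s6, nat_lit 14), (nat_lit 7, t2_7_7_s6, nat_lit 12),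 (nat_lit 13, t2_7_7_s4, nat_lit 12), (nat_lit 11, t2_7_7_s6, nat_lit 20), (nat_lit 6, t2_7_7_s4, nat_lit 22)]
noncomputable def t2_7_7_lev3 : Core.Lev := Core.mkLev m23_n m23_w m23_mask m23_L m23_maskL m23_idc (nat_lit 3) [t2_7_7_s6, t2_7_7_s4, t2_7_7_s5, t2_7_7_s3] [(nat_lit 9, t2_7_7_s3, nat_lit 3), (nat_lit 8, t2_7_7_s6, nat_lit 9), (nat_lit 10, t2_7_7_s5, nat_lit 9), (nat_lit 21, t2_7_7_s6, nat_lit 8), (nat_lit 4, t2_7_7_s4, nat_lit 8), (nat_lit 19, t2_7_7_s5, nat_lit 8), (nat_lit 12, t2_7_7_s6, nat_lit 10), (nat_lit 20, t2_7_7_s4, nat_lit 10), (nat_lit 22, t2_7_7_s5, nat_lit 21), (nat_lit 18, t2_7_7_s5, nat_lit 4), (nat_lit 16, t2_7_7_s5, nat_lit 19), (nat_lit 5, t2_7_7_s3, nat_lit 19), (nat_lit 7, t2_7_7_s6, nat_lit 12), (nat_lit 13, t2_7_7_s4, nat_lit 12), (nat_lit 11, t2_7_7_s6, nat_lit 20), (nat_lit 15, t2_7_7_s4, nat_lit 20), (nat_lit 6, t2_7_7_s4,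 nat_lit 22), (nat_lit 14, t2_7_7_s6, nat_lit 5), (nat_lit 17, t2_7_7_s5, nat_lit 5)]
noncomputable def t2_7_7_lev4 : Core.Lev := Core.mkLev m23_n m23_w m23_mask m23_L m23_maskL m23_idc (nat_lit 4) [t2_7_7_s6, t2_7_7_s4, t2_7_7_s5] [(nat_lit 21, t2_7_7_s4, nat_lit 4), (nat_lit 18, t2_7_7_s5, nat_lit 4), (nat_lit 9, t2_7_7_s6, nat_lit 21), (nat_lit 8, t2_7_7_s4, nat_lit 21), (nat_lit 22, t2_7_7_s5, nat_lit 21), (nat_lit 6, t2_7_7_s6, nat_lit 18), (nat_lit 16, t2_7_7_s4, nat_lit 18), (nat_lit 10, t2_7_7_s5, nat_lit 9), (nat_lit 19, t2_7_7_s5, nat_lit 8), (nat_lit 12, t2_7_7_s5, nat_lit 22), (nat_lit 15, t2_7_7_s6, nat_lit 6), (nat_lit 11, t2_7_7_s4, nat_lit 6), (nat_lit 13, t2_7_7_s6, nat_lit 16), (nat_lit 7, t2_7_7_s4, nat_lit 16), (nat_lit 20, t2_7_7_s4, nat_lit 10)]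
noncomputable def t2_7_7_lev5 : Core.Lev := Core.mkLev m23_n m23_w m23_mask m23_L m23_maskL m23_idc (nat_lit 5) [t2_7_7_s6] [(nat_lit 14, t2_7_7_s6, nat_lit 5), (nat_lit 17, t2_7_7_s6, nat_lit 14)]
noncomputable def t2_7_7_levels : List Core.Lev := [t2_7_7_lev0, t2_7_7_lev1, t2_7_7_lev2, t2_7_7_lev3, t2_7_7_lev4, t2_7_7_lev5]
theorem t2_7_7_ok : Core.checkAll m23_n m23_w m23_mask m23_L m23_maskL m23_idc [t2_7_7_X, t2_7_7_Y] t2_7_7_prog t2_7_7_levels = true := by decide +kernel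
theorem t2_7_7_ord : Core.orderC t2_7_7_levels = 10200960 := by decide +kernel
theorem t2_7_7_tr : tripleOK 2 7 7 t2_7_7_X t2_7_7_Y = true := by decide +kernel
theorem wit_2_7_7 : WitP 2 7 7 := wit_of (by norm_num) (by norm_num) (by norm_num) t2_7_7_ok t2_7_7_ord t2_7_7_tr

def t2_7_11_X : Nat := nat_lit 0xbdaa79c9807b8710a544a184869570
def t2_7_11_Y : Nat := nat_lit 0xbbdc68acf0929a520ed3a0aa00a189
def t2_7_11_prog : List (Nat × Nat × Nat) := [(nat_lit 1, nat_lit 1, nat_lit 0), (nat_lit 1, nat_lit 1, nat_lit 0), (nat_lit 0, nat_lit 3, nat_lit 2), (nat_lit 0, nat_lit 0, nat_lit 4), (nat_lit 0, nat_lit 0, nat_lit 4), (nat_lit 0, nat_lit 0, nat_lit 5), (nat_lit 0, nat_lit 4, nat_lit 4), (nat_lit 0, nat_lit 0, nat_lit 5), (nat_lit 0, nat_lit 0, nat_lit 2), (nat_lit 0, nat_lit 9, nat_lit 10), (nat_lit 0, nat_lit 0, nat_lit 11), (nat_lit 0, nat_lit 0, nat_lit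 11), (nat_lit 0, nat_lit 0, nat_lit 13), (nat_lit 0, nat_lit 0, nat_lit 13), (nat_lit 0, nat_lit 0, nat_lit 14), (nat_lit 0, nat_lit 0, nat_lit 16), (nat_lit 0, nat_lit 0, nat_lit 16), (nat_lit 0, nat_lit 0, nat_lit 17), (nat_lit 0, nat_lit 16, nat_lit 17), (nat_lit 0, nat_lit 0, nat_lit 17), (nat_lit 0, nat_lit 0, nat_lit 18), (nat_lit 0, nat_lit 0, nat_lit 20), (nat_lit 0, nat_lit 0, nat_lit 20), (nat_lit 0, nat_lit 0, nat_lit 5), (nat_lit 1, nat_lit 15, nat_lit 0), (nat_lit 1, nat_lit 1, nat_lit 0), (nat_lit 0, nat_lit 17, nat_lit 2), (nat_lit 0, nat_lit 0, nat_lit 18), (nat_lit 0, nat_lit 3, nat_lit 3), (nat_lit 0, nat_lit 0, nat_lit 4), (nat_lit 0, nat_lit 0, nat_lit 4), (nat_lit 0, nat_lit 22, nat_lit 22), (nat_lit 0, nat_lit 0, nat_lit 8), (nat_lit 0, nat_lit 0, nat_lit 24), (nat_lit 0, nat_lit 0, nat_lit 25), (nat_lit 0, nat_lit 0, nat_lit 11),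 (nat_lit 0, nat_lit 0, nat_lit 12), (nat_lit 0, nat_lit 0, nat_lit 28), (nat_lit 0, nat_lit 0, nat_lit 14), (nat_lit 0, nat_lit 0, nat_lit 30), (nat_lit 0, nat_lit 14, nat_lit 15), (nat_lit 0, nat_lit 0, nat_lit 15), (nat_lit 0, nat_lit 0, nat_lit 2), (nat_lit 0, nat_lit 15, nat_lit 19), (nat_lit 0, nat_lit 0, nat_lit 35), (nat_lit 0, nat_lit 0, nat_lit 36), (nat_lit 0, nat_lit 0, nat_lit 22), (nat_lit 0, nat_lit 0, nat_lit 38), (nat_lit 0, nat_lit 0, nat_lit 24), (nat_lit 0, nat_lit 0, nat_lit 25), (nat_lit 0, nat_lit 0, nat_lit 41), (nat_lit 0, nat_lit 20, nat_lit 25), (nat_lit 0, nat_lit 0, nat_lit 26), (nat_lit 0, nat_lit 0, nat_lit 2), (nat_lit 1, nat_lit 11, nat_lit 0), (nat_lit 1, nat_lit 1, nat_lit 0), (nat_lit 0, nat_lit 2, nat_lit 2), (nat_lit 0, nat_lit 0, nat_lit 3), (nat_lit 0, nat_lit 0, nat_lit 15), (nat_lit 0, nat_lit 0, nat_lit 5),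 (nat_lit 0, nat_lit 0, nat_lit 17), (nat_lit 0, nat_lit 0, nat_lit 7), (nat_lit 0, nat_lit 0, nat_lit 8), (nat_lit 0, nat_lit 7, nat_lit 7), (nat_lit 0, nat_lit 0, nat_lit 8), (nat_lit 0, nat_lit 0, nat_lit 2), (nat_lit 0, nat_lit 23, nat_lit 12), (nat_lit 0, nat_lit 0, nat_lit 24), (nat_lit 0, nat_lit 0, nat_lit 14), (nat_lit 0, nat_lit 0, nat_lit 26), (nat_lit 0, nat_lit 0, nat_lit 27), (nat_lit 0, nat_lit 0, nat_lit 17), (nat_lit 0, nat_lit 0, nat_lit 18), (nat_lit 0, nat_lit 0, nat_lit 19), (nat_lit 0, nat_lit 9, nat_lit 19), (nat_lit 0, nat_lit 0, nat_lit 20), (nat_lit 0, nat_lit 0, nat_lit 2), (nat_lit 0, nat_lit 34, nat_lit 34), (nat_lit 0, nat_lit 0, nat_lit 24), (nat_lit 0, nat_lit 0, nat_lit 25), (nat_lit 0, nat_lit 0, nat_lit 37), (nat_lit 0, nat_lit 0, nat_lit 38), (nat_lit 0, nat_lit 0, nat_lit 39), (nat_lit 0, nat_lit 0, nat_lit 40), (nat_lit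 0, nat_lit 0, nat_lit 41), (nat_lit 0, nat_lit 0, nat_lit 42), (nat_lit 0, nat_lit 0, nat_lit 32), (nat_lit 0, nat_lit 11, nat_lit 0), (nat_lit 0, nat_lit 27, nat_lit 45), (nat_lit 0, nat_lit 0, nat_lit 35), (nat_lit 0, nat_lit 0, nat_lit 47), (nat_lit 0, nat_lit 36, nat_lit 36), (nat_lit 0, nat_lit 0, nat_lit 37), (nat_lit 0, nat_lit 0, nat_lit 37), (nat_lit 0, nat_lit 0, nat_lit 3), (nat_lit 1, nat_lit 29, nat_lit 0), (nat_lit 1, nat_lit 19, nat_lit 0), (nat_lit 1, nat_lit 9, nat_lit 0), (nat_lit 1, nat_lit 3, nat_lit 0), (nat_lit 0, nat_lit 4, nat_lit 22), (nat_lit 0, nat_lit 0, nat_lit 5), (nat_lit 0, nat_lit 0, nat_lit 6), (nat_lit 0, nat_lit 0, nat_lit 14), (nat_lit 0, nat_lit 0, nat_lit 8), (nat_lit 0, nat_lit 0, nat_lit 16), (nat_lit 0, nat_lit 0, nat_lit 39), (nat_lit 0, nat_lit 0, nat_lit 18), (nat_lit 0, nat_lit 9, nat_lit 10), (nat_lit 0,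 nat_lit 0, nat_lit 1), (nat_lit 0, nat_lit 43, nat_lit 21), (nat_lit 0, nat_lit 0, nat_lit 44), (nat_lit 0, nat_lit 0, nat_lit 45), (nat_lit 0, nat_lit 0, nat_lit 46), (nat_lit 0, nat_lit 0, nat_lit 47), (nat_lit 0, nat_lit 0, nat_lit 19), (nat_lit 0, nat_lit 0, nat_lit 49), (nat_lit 0, nat_lit 0, nat_lit 28), (nat_lit 0, nat_lit 0, nat_lit 40), (nat_lit 0, nat_lit 0, nat_lit 30), (nat_lit 0, nat_lit 0, nat_lit 53), (nat_lit 0, nat_lit 23, nat_lit 23), (nat_lit 0, nat_lit 0, nat_lit 1), (nat_lit 0, nat_lit 45, nat_lit 34), (nat_lit 0, nat_lit 0, nat_lit 57), (nat_lit 0, nat_lit 0, nat_lit 47), (nat_lit 0, nat_lit 0, nat_lit 48), (nat_lit 0, nat_lit 0, nat_lit 38), (nat_lit 0, nat_lit 0, nat_lit 50), (nat_lit 0, nat_lit 0, nat_lit 40), (nat_lit 0, nat_lit 0, nat_lit 41), (nat_lit 0, nat_lit 34, nat_lit 33), (nat_lit 0, nat_lit 0, nat_lit 1), (nat_lit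 0, nat_lit 37, nat_lit 37), (nat_lit 0, nat_lit 0, nat_lit 38), (nat_lit 0, nat_lit 0, nat_lit 68), (nat_lit 0, nat_lit 0, nat_lit 69), (nat_lit 0, nat_lit 0, nat_lit 48), (nat_lit 0, nat_lit 0, nat_lit 42), (nat_lit 0, nat_lit 0, nat_lit 50), (nat_lit 0, nat_lit 0, nat_lit 44), (nat_lit 0, nat_lit 42, nat_lit 41), (nat_lit 0, nat_lit 0, nat_lit 44), (nat_lit 0, nat_lit 0, nat_lit 2), (nat_lit 1, nat_lit 11, nat_lit 0), (nat_lit 0, nat_lit 22, nat_lit 35), (nat_lit 0, nat_lit 0, nat_lit 13), (nat_lit 0, nat_lit 0, nat_lit 24), (nat_lit 0, nat_lit 0, nat_lit 4), (nat_lit 0, nat_lit 0, nat_lit 39), (nat_lit 0, nat_lit 0, nat_lit 27), (nat_lit 0, nat_lit 0, nat_lit 41), (nat_lit 0, nat_lit 7, nat_lit 0)]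
def t2_7_11_s0 : Nat := nat_lit 0xbdaa79c9807b8710a544a184869570
def t2_7_11_s1 : Nat := nat_lit 0xbb88189905156cc951271c16d9a9e0
def t2_7_11_s2 : Nat := nat_lit 0xbd553b0a0523db24506c89cc972c20
def t2_7_11_s3 : Nat := nat_lit 0xb9dd02a5666a2b45588f88e5360820
def t2_7_11_s4 : Nat := nat_lit 0xbae703bcac245144b6caa99d218820
def t2_7_11_s5 : Nat := nat_lit 0xbb1f3a4232ab916218ed4a8ab18820
def t2_7_11_s6 : Nat := nat_lit 0xbb5135bdd63160aa1ea964a2418820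
noncomputable def t2_7_11_lev0 : Core.Lev := Core.mkLev m23_n m23_w m23_mask m23_L m23_maskL m23_idc (nat_lit 0) [t2_7_11_s6, t2_7_11_s4, t2_7_11_s5, t2_7_11_s3, t2_7_11_s2, t2_7_11_s1, t2_7_11_s0] [(nat_lit 16, t2_7_11_s0, nat_lit 0), (nat_lit 22, t2_7_11_s6, nat_lit 16), (nat_lit 12, t2_7_11_s4, nat_lit 16), (nat_lit 18, t2_7_11_s5, nat_lit 16), (nat_lit 6, t2_7_11_s3, nat_lit 16), (nat_lit 5, t2_7_11_s2, nat_lit 16), (nat_lit 13, t2_7_11_s6, nat_lit 22), (nat_lit 11, t2_7_11_s4, nat_lit 22), (nat_lit 7, t2_7_11_s3, nat_lit 22), (nat_lit 21, t2_7_11_s2, nat_lit 22), (nat_lit 14, t2_7_11_s1, nat_lit 22), (nat_lit 10, t2_7_11_s6, nat_lit 12), (nat_lit 20, t2_7_11_s4, nat_lit 12), (nat_lit 17, t2_7_11_s0, nat_lit 12), (nat_lit 15, t2_7_11_s6, nat_lit 18), (nat_lit 9, t2_7_11_s3, nat_lit 18), (nat_lit 2, t2_7_11_s2, nat_lit 18), (nat_lit 3, t2_7_11_s3,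 nat_lit 6), (nat_lit 8, t2_7_11_s4, nat_lit 13), (nat_lit 4, t2_7_11_s5, nat_lit 11), (nat_lit 1, t2_7_11_s0, nat_lit 11), (nat_lit 19, t2_7_11_s4, nat_lit 21)]
noncomputable def t2_7_11_lev1 : Core.Lev := Core.mkLev m23_n m23_w m23_mask m23_L m23_maskL m23_idc (nat_lit 1) [t2_7_11_s6, t2_7_11_s4, t2_7_11_s5, t2_7_11_s3, t2_7_11_s2, t2_7_11_s1] [(nat_lit 15, t2_7_11_s1, nat_lit 1), (nat_lit 6, t2_7_11_s6, nat_lit 15), (nat_lit 4, t2_7_11_s4, nat_lit 15), (nat_lit 21, t2_7_11_s5, nat_lit 15), (nat_lit 13, t2_7_11_s3, nat_lit 15), (nat_lit 2, t2_7_11_s1, nat_lit 15), (nat_lit 18, t2_7_11_s6, nat_lit 6), (nat_lit 10, t2_7_11_s5, nat_lit 6), (nat_lit 3, t2_7_11_s3, nat_lit 6), (nat_lit 7, t2_7_11_s2, nat_lit 6), (nat_lit 16, t2_7_11_s1, nat_lit 6), (nat_lit 11, t2_7_11_s5, nat_lit 4), (nat_lit 19, t2_7_11_s3, nat_lit 4), (nat_lit 9, t2_7_11_s2, nat_lit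 4), (nat_lit 8, t2_7_11_s6, nat_lit 21), (nat_lit 14, t2_7_11_s3, nat_lit 21), (nat_lit 22, t2_7_11_s1, nat_lit 13), (nat_lit 20, t2_7_11_s2, nat_lit 10), (nat_lit 12, t2_7_11_s3, nat_lit 3), (nat_lit 17, t2_7_11_s3, nat_lit 7), (nat_lit 5, t2_7_11_s2, nat_lit 16)]
noncomputable def t2_7_11_lev2 : Core.Lev := Core.mkLev m23_n m23_w m23_mask m23_L m23_maskL m23_idc (nat_lit 2) [t2_7_11_s6, t2_7_11_s4, t2_7_11_s5, t2_7_11_s3, t2_7_11_s2] [(nat_lit 11, t2_7_11_s2, nat_lit 2), (nat_lit 20, t2_7_11_s6, nat_lit 11), (nat_lit 9, t2_7_11_s4, nat_lit 11), (nat_lit 4, t2_7_11_s5, nat_lit 11), (nat_lit 10, t2_7_11_s3, nat_lit 11), (nat_lit 8, t2_7_11_s2, nat_lit 11), (nat_lit 19, t2_7_11_s6, nat_lit 20), (nat_lit 16, t2_7_11_s4, nat_lit 20), (nat_lit 21, t2_7_11_s6, nat_lit 9), (nat_lit 22, t2_7_11_s4, nat_lit 9), (nat_lit 7, t2_7_11_s5, nat_lit 9), (nat_lit 3,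 t2_7_11_s2, nat_lit 9), (nat_lit 18, t2_7_11_s4, nat_lit 4), (nat_lit 13, t2_7_11_s4, nat_lit 10), (nat_lit 6, t2_7_11_s5, nat_lit 10), (nat_lit 15, t2_7_11_s3, nat_lit 8), (nat_lit 12, t2_7_11_s2, nat_lit 8), (nat_lit 5, t2_7_11_s3, nat_lit 19), (nat_lit 14, t2_7_11_s3, nat_lit 21), (nat_lit 17, t2_7_11_s3, nat_lit 7)]
noncomputable def t2_7_11_lev3 : Core.Lev := Core.mkLev m23_n m23_w m23_mask m23_L m23_maskL m23_idc (nat_lit 3) [t2_7_11_s6, t2_7_11_s4, t2_7_11_s5, t2_7_11_s3] [(nat_lit 12, t2_7_11_s3, nat_lit 3), (nat_lit 10, t2_7_11_s6, nat_lit 12), (nat_lit 20, t2_7_11_s4, nat_lit 12), (nat_lit 22, t2_7_11_s5, nat_lit 12), (nat_lit 7, t2_7_11_s6, nat_lit 10), (nat_lit 13, t2_7_11_s4, nat_lit 10), (nat_lit 6, t2_7_11_s5, nat_lit 10), (nat_lit 19, t2_7_11_s6, nat_lit 20), (nat_lit 16, t2_7_11_s4, nat_lit 20), (nat_lit 11, t2_7_11_s4, nat_lit 22),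 (nat_lit 21, t2_7_11_s4, nat_lit 7), (nat_lit 9, t2_7_11_s5, nat_lit 7), (nat_lit 17, t2_7_11_s3, nat_lit 7), (nat_lit 8, t2_7_11_s4, nat_lit 13), (nat_lit 18, t2_7_11_s6, nat_lit 6), (nat_lit 5, t2_7_11_s3, nat_lit 19), (nat_lit 4, t2_7_11_s5, nat_lit 11), (nat_lit 15, t2_7_11_s5, nat_lit 21), (nat_lit 14, t2_7_11_s3, nat_lit 21)]
noncomputable def t2_7_11_lev4 : Core.Lev := Core.mkLev m23_n m23_w m23_mask m23_L m23_maskL m23_idc (nat_lit 4) [t2_7_11_s6, t2_7_11_s4, t2_7_11_s5] [(nat_lit 18, t2_7_11_s4, nat_lit 4), (nat_lit 11, t2_7_11_s5, nat_lit 4), (nat_lit 15, t2_7_11_s6, nat_lit 18), (nat_lit 16, t2_7_11_s5, nat_lit 18), (nat_lit 20, t2_7_11_s6, nat_lit 11), (nat_lit 9, t2_7_11_s4, nat_lit 11), (nat_lit 6, t2_7_11_s6, nat_lit 15), (nat_lit 21, t2_7_11_s5, nat_lit 15), (nat_lit 22, t2_7_11_s6, nat_lit 16), (nat_lit 12, t2_7_11_s4, nat_lit 16),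 (nat_lit 19, t2_7_11_s6, nat_lit 20), (nat_lit 7, t2_7_11_s5, nat_lit 9), (nat_lit 10, t2_7_11_s5, nat_lit 6), (nat_lit 8, t2_7_11_s6, nat_lit 21), (nat_lit 13, t2_7_11_s6, nat_lit 22)]
noncomputable def t2_7_11_lev5 : Core.Lev := Core.mkLev m23_n m23_w m23_mask m23_L m23_maskL m23_idc (nat_lit 5) [t2_7_11_s6] [(nat_lit 17, t2_7_11_s6, nat_lit 5), (nat_lit 14, t2_7_11_s6, nat_lit 17)]
noncomputable def t2_7_11_levels : List Core.Lev := [t2_7_11_lev0, t2_7_11_lev1, t2_7_11_lev2, t2_7_11_lev3, t2_7_11_lev4, t2_7_11_lev5]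
theorem t2_7_11_ok : Core.checkAll m23_n m23_w m23_mask m23_L m23_maskL m23_idc [t2_7_11_X, t2_7_11_Y] t2_7_11_prog t2_7_11_levels = true := by decide +kernel
theorem t2_7_11_ord : Core.orderC t2_7_11_levels = 10200960 := by decide +kernel
theorem t2_7_11_tr : tripleOK 2 7 11 t2_7_11_X t2_7_11_Y = true := by decide +kernel
theorem wit_2_7_11 : WitP 2 7 11 := wit_of (by norm_num) (by norm_num) (by norm_num) t2_7_11_ok t2_7_11_ord t2_7_11_tr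

def t2_7_23_X : Nat := nat_lit 0xbdaa79c9807b8710a544a184869570
def t2_7_23_Y : Nat := nat_lit 0xb9d73825d553da03204c91683b1031
def t2_7_23_prog : List (Nat × Nat × Nat) := [(nat_lit 1, nat_lit 1, nat_lit 0), (nat_lit 1, nat_lit 1, nat_lit 0), (nat_lit 0, nat_lit 3, nat_lit 2), (nat_lit 0, nat_lit 0, nat_lit 4), (nat_lit 0, nat_lit 0, nat_lit 4), (nat_lit 0, nat_lit 0, nat_lit 5), (nat_lit 0, nat_lit 4, nat_lit 4), (nat_lit 0, nat_lit 0, nat_lit 5), (nat_lit 0, nat_lit 0, nat_lit 2), (nat_lit 0, nat_lit 9, nat_lit 10), (nat_lit 0, nat_lit 0, nat_lit 11), (nat_lit 0, nat_lit 0, nat_lit 11), (nat_lit 0, nat_lit 0, nat_lit 13), (nat_lit 0, nat_lit 0, nat_lit 13), (nat_lit 0, nat_lit 0, nat_lit 14), (nat_lit 0, nat_lit 0, nat_lit 16), (nat_lit 0, nat_lit 0, nat_lit 16), (nat_lit 0, nat_lit 0, nat_lit 17), (nat_lit 0, nat_lit 10, nat_lit 16), (nat_lit 0,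 nat_lit 0, nat_lit 17), (nat_lit 0, nat_lit 0, nat_lit 19), (nat_lit 0, nat_lit 0, nat_lit 3), (nat_lit 1, nat_lit 13, nat_lit 0), (nat_lit 1, nat_lit 1, nat_lit 0), (nat_lit 0, nat_lit 15, nat_lit 2), (nat_lit 0, nat_lit 0, nat_lit 16), (nat_lit 0, nat_lit 0, nat_lit 17), (nat_lit 0, nat_lit 0, nat_lit 18), (nat_lit 0, nat_lit 4, nat_lit 5), (nat_lit 0, nat_lit 0, nat_lit 1), (nat_lit 0, nat_lit 21, nat_lit 21), (nat_lit 0, nat_lit 0, nat_lit 9), (nat_lit 0, nat_lit 0, nat_lit 23), (nat_lit 0, nat_lit 0, nat_lit 24), (nat_lit 0, nat_lit 0, nat_lit 12), (nat_lit 0, nat_lit 0, nat_lit 13), (nat_lit 0, nat_lit 0, nat_lit 27), (nat_lit 0, nat_lit 0, nat_lit 15), (nat_lit 0, nat_lit 0, nat_lit 29), (nat_lit 0, nat_lit 16, nat_lit 15), (nat_lit 0, nat_lit 0, nat_lit 16), (nat_lit 0, nat_lit 0, nat_lit 18), (nat_lit 0, nat_lit 0, nat_lit 3), (nat_lit 0, nat_lit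 17, nat_lit 21), (nat_lit 0, nat_lit 0, nat_lit 35), (nat_lit 0, nat_lit 0, nat_lit 36), (nat_lit 0, nat_lit 0, nat_lit 24), (nat_lit 0, nat_lit 0, nat_lit 38), (nat_lit 0, nat_lit 0, nat_lit 26), (nat_lit 0, nat_lit 0, nat_lit 27), (nat_lit 0, nat_lit 0, nat_lit 41), (nat_lit 1, nat_lit 21, nat_lit 0), (nat_lit 1, nat_lit 1, nat_lit 0), (nat_lit 0, nat_lit 10, nat_lit 2), (nat_lit 0, nat_lit 0, nat_lit 11), (nat_lit 0, nat_lit 0, nat_lit 4), (nat_lit 0, nat_lit 0, nat_lit 13), (nat_lit 0, nat_lit 0, nat_lit 6), (nat_lit 0, nat_lit 0, nat_lit 28), (nat_lit 0, nat_lit 0, nat_lit 16), (nat_lit 0, nat_lit 8, nat_lit 7), (nat_lit 0, nat_lit 0, nat_lit 1), (nat_lit 0, nat_lit 32, nat_lit 19), (nat_lit 0, nat_lit 0, nat_lit 12), (nat_lit 0, nat_lit 0, nat_lit 34), (nat_lit 0, nat_lit 0, nat_lit 22), (nat_lit 0, nat_lit 0, nat_lit 15), (nat_lit 0, nat_lit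 0, nat_lit 16), (nat_lit 0, nat_lit 0, nat_lit 17), (nat_lit 0, nat_lit 0, nat_lit 18), (nat_lit 0, nat_lit 0, nat_lit 27), (nat_lit 0, nat_lit 10, nat_lit 19), (nat_lit 0, nat_lit 0, nat_lit 19), (nat_lit 0, nat_lit 0, nat_lit 2), (nat_lit 1, nat_lit 12, nat_lit 0), (nat_lit 1, nat_lit 1, nat_lit 0), (nat_lit 0, nat_lit 14, nat_lit 14), (nat_lit 0, nat_lit 0, nat_lit 15), (nat_lit 0, nat_lit 0, nat_lit 4), (nat_lit 0, nat_lit 0, nat_lit 5), (nat_lit 0, nat_lit 0, nat_lit 6), (nat_lit 0, nat_lit 0, nat_lit 19), (nat_lit 0, nat_lit 0, nat_lit 8), (nat_lit 0, nat_lit 0, nat_lit 21), (nat_lit 0, nat_lit 0, nat_lit 10), (nat_lit 0, nat_lit 0, nat_lit 11), (nat_lit 0, nat_lit 11, nat_lit 10), (nat_lit 0, nat_lit 0, nat_lit 12), (nat_lit 0, nat_lit 0, nat_lit 12), (nat_lit 0, nat_lit 0, nat_lit 14), (nat_lit 0, nat_lit 0, nat_lit 4), (nat_lit 0, nat_lit 17,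 nat_lit 17), (nat_lit 0, nat_lit 0, nat_lit 18), (nat_lit 0, nat_lit 0, nat_lit 31), (nat_lit 0, nat_lit 0, nat_lit 20), (nat_lit 0, nat_lit 0, nat_lit 33), (nat_lit 0, nat_lit 0, nat_lit 34), (nat_lit 0, nat_lit 0, nat_lit 23), (nat_lit 0, nat_lit 0, nat_lit 36), (nat_lit 0, nat_lit 11, nat_lit 0), (nat_lit 0, nat_lit 38, nat_lit 26), (nat_lit 0, nat_lit 0, nat_lit 39), (nat_lit 0, nat_lit 0, nat_lit 40), (nat_lit 0, nat_lit 0, nat_lit 41), (nat_lit 0, nat_lit 0, nat_lit 42), (nat_lit 0, nat_lit 0, nat_lit 31), (nat_lit 0, nat_lit 0, nat_lit 44), (nat_lit 0, nat_lit 0, nat_lit 33), (nat_lit 0, nat_lit 0, nat_lit 46), (nat_lit 0, nat_lit 0, nat_lit 35), (nat_lit 0, nat_lit 0, nat_lit 48), (nat_lit 0, nat_lit 24, nat_lit 35), (nat_lit 0, nat_lit 0, nat_lit 1), (nat_lit 0, nat_lit 9, nat_lit 39), (nat_lit 0, nat_lit 0, nat_lit 52), (nat_lit 0, nat_lit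 0, nat_lit 41), (nat_lit 0, nat_lit 0, nat_lit 42), (nat_lit 0, nat_lit 41, nat_lit 0), (nat_lit 1, nat_lit 18, nat_lit 0), (nat_lit 0, nat_lit 19, nat_lit 28), (nat_lit 0, nat_lit 0, nat_lit 7), (nat_lit 0, nat_lit 0, nat_lit 21), (nat_lit 0, nat_lit 0, nat_lit 4), (nat_lit 0, nat_lit 0, nat_lit 32), (nat_lit 0, nat_lit 0, nat_lit 24), (nat_lit 0, nat_lit 0, nat_lit 34), (nat_lit 0, nat_lit 7, nat_lit 0)]
def t2_7_23_s0 : Nat := nat_lit 0xbdaa79c9807b8710a544a184869570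
def t2_7_23_s1 : Nat := nat_lit 0xbc4ef092d36d4457311490d4b32600
def t2_7_23_s2 : Nat := nat_lit 0xbc4829bad04c90c3a9ed58cb535020
def t2_7_23_s3 : Nat := nat_lit 0xb918f596b64cdb172a83920f030820
def t2_7_23_s4 : Nat := nat_lit 0xb9166425d0996d4554ef9322d18820
def t2_7_23_s5 : Nat := nat_lit 0xbca0fb4dcb49507aaa862362c18820
def t2_7_23_s6 : Nat := nat_lit 0xbc12ba18ad946c79b11553dc418820
noncomputable def t2_7_23_lev0 : Core.Lev := Core.mkLev m23_n m23_w m23_mask m23_L m23_maskL m23_idc (nat_lit 0) [t2_7_23_s6, t2_7_23_s4, t2_7_23_s5, t2_7_23_s3, t2_7_23_s2, t2_7_23_s1, t2_7_23_s0] [(nat_lit 16, t2_7_23_s0, nat_lit 0), (nat_lit 13, t2_7_23_s6, nat_lit 16), (nat_lit 11, t2_7_23_s5, nat_lit 16), (nat_lit 22, t2_7_23_s3, nat_lit 16), (nat_lit 19, t2_7_23_s1, nat_lit 16), (nat_lit 8, t2_7_23_s5, nat_lit 13), (nat_lit 2, t2_7_23_s1, nat_lit 13), (nat_lit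 3, t2_7_23_s0, nat_lit 13), (nat_lit 10, t2_7_23_s4, nat_lit 11), (nat_lit 21, t2_7_23_s5, nat_lit 11), (nat_lit 14, t2_7_23_s3, nat_lit 11), (nat_lit 7, t2_7_23_s2, nat_lit 11), (nat_lit 1, t2_7_23_s0, nat_lit 11), (nat_lit 4, t2_7_23_s4, nat_lit 22), (nat_lit 18, t2_7_23_s5, nat_lit 22), (nat_lit 17, t2_7_23_s2, nat_lit 22), (nat_lit 20, t2_7_23_s6, nat_lit 19), (nat_lit 15, t2_7_23_s4, nat_lit 8), (nat_lit 6, t2_7_23_s5, nat_lit 8), (nat_lit 9, t2_7_23_s1, nat_lit 2), (nat_lit 5, t2_7_23_s0, nat_lit 2), (nat_lit 12, t2_7_23_s6, nat_lit 10)]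
noncomputable def t2_7_23_lev1 : Core.Lev := Core.mkLev m23_n m23_w m23_mask m23_L m23_maskL m23_idc (nat_lit 1) [t2_7_23_s6, t2_7_23_s4, t2_7_23_s5, t2_7_23_s3, t2_7_23_s2, t2_7_23_s1] [(nat_lit 16, t2_7_23_s1, nat_lit 1), (nat_lit 13, t2_7_23_s6, nat_lit 16), (nat_lit 11, t2_7_23_s5, nat_lit 16), (nat_lit 22, t2_7_23_s3, nat_lit 16), (nat_lit 19, t2_7_23_s1, nat_lit 16), (nat_lit 8, t2_7_23_s5, nat_lit 13), (nat_lit 2, t2_7_23_s1, nat_lit 13), (nat_lit 10, t2_7_23_s4, nat_lit 11), (nat_lit 21, t2_7_23_s5, nat_lit 11), (nat_lit 14, t2_7_23_s3, nat_lit 11), (nat_lit 7, t2_7_23_s2, nat_lit 11), (nat_lit 4, t2_7_23_s4, nat_lit 22), (nat_lit 18, t2_7_23_s5, nat_lit 22), (nat_lit 17, t2_7_23_s2, nat_lit 22), (nat_lit 20, t2_7_23_s6, nat_lit 19), (nat_lit 15, t2_7_23_s4, nat_lit 8), (nat_lit 6, t2_7_23_s5, nat_lit 8), (nat_lit 3, t2_7_23_s3, nat_lit 8),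 (nat_lit 9, t2_7_23_s1, nat_lit 2), (nat_lit 12, t2_7_23_s6, nat_lit 10), (nat_lit 5, t2_7_23_s4, nat_lit 14)]
noncomputable def t2_7_23_lev2 : Core.Lev := Core.mkLev m23_n m23_w m23_mask m23_L m23_maskL m23_idc (nat_lit 2) [t2_7_23_s6, t2_7_23_s4, t2_7_23_s5, t2_7_23_s3, t2_7_23_s2] [(nat_lit 20, t2_7_23_s2, nat_lit 2), (nat_lit 11, t2_7_23_s6, nat_lit 20), (nat_lit 6, t2_7_23_s4, nat_lit 20), (nat_lit 15, t2_7_23_s5, nat_lit 20), (nat_lit 19, t2_7_23_s6, nat_lit 11), (nat_lit 10, t2_7_23_s4, nat_lit 11), (nat_lit 21, t2_7_23_s5, nat_lit 11), (nat_lit 14, t2_7_23_s3, nat_lit 11), (nat_lit 7, t2_7_23_s2, nat_lit 11), (nat_lit 12, t2_7_23_s4, nat_lit 6), (nat_lit 13, t2_7_23_s5, nat_lit 6), (nat_lit 8, t2_7_23_s3, nat_lit 6), (nat_lit 3, t2_7_23_s2, nat_lit 6), (nat_lit 18, t2_7_23_s6, nat_lit 15), (nat_lit 9, t2_7_23_s5, nat_lit 15), (nat_lit 22, t2_7_23_s5,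 nat_lit 19), (nat_lit 16, t2_7_23_s5, nat_lit 21), (nat_lit 4, t2_7_23_s2, nat_lit 21), (nat_lit 17, t2_7_23_s6, nat_lit 14), (nat_lit 5, t2_7_23_s4, nat_lit 14)]
noncomputable def t2_7_23_lev3 : Core.Lev := Core.mkLev m23_n m23_w m23_mask m23_L m23_maskL m23_idc (nat_lit 3) [t2_7_23_s6, t2_7_23_s4, t2_7_23_s5, t2_7_23_s3] [(nat_lit 6, t2_7_23_s3, nat_lit 3), (nat_lit 15, t2_7_23_s6, nat_lit 6), (nat_lit 12, t2_7_23_s4, nat_lit 6), (nat_lit 13, t2_7_23_s5, nat_lit 6), (nat_lit 8, t2_7_23_s3, nat_lit 6), (nat_lit 18, t2_7_23_s6, nat_lit 15), (nat_lit 19, t2_7_23_s4, nat_lit 15), (nat_lit 9, t2_7_23_s5, nat_lit 15), (nat_lit 7, t2_7_23_s6, nat_lit 12), (nat_lit 20, t2_7_23_s4, nat_lit 12), (nat_lit 17, t2_7_23_s3, nat_lit 12), (nat_lit 22, t2_7_23_s6, nat_lit 13), (nat_lit 21, t2_7_23_s6, nat_lit 8), (nat_lit 5, t2_7_23_s3, nat_lit 18), (nat_lit 11, t2_7_23_s3,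 nat_lit 19), (nat_lit 10, t2_7_23_s6, nat_lit 7), (nat_lit 4, t2_7_23_s5, nat_lit 7), (nat_lit 14, t2_7_23_s4, nat_lit 17), (nat_lit 16, t2_7_23_s6, nat_lit 22)]
noncomputable def t2_7_23_lev4 : Core.Lev := Core.mkLev m23_n m23_w m23_mask m23_L m23_maskL m23_idc (nat_lit 4) [t2_7_23_s6, t2_7_23_s4, t2_7_23_s5] [(nat_lit 13, t2_7_23_s4, nat_lit 4), (nat_lit 12, t2_7_23_s5, nat_lit 4), (nat_lit 22, t2_7_23_s6, nat_lit 13), (nat_lit 8, t2_7_23_s5, nat_lit 13), (nat_lit 7, t2_7_23_s6, nat_lit 12), (nat_lit 20, t2_7_23_s4, nat_lit 12), (nat_lit 16, t2_7_23_s6, nat_lit 22), (nat_lit 18, t2_7_23_s5, nat_lit 22), (nat_lit 21, t2_7_23_s6, nat_lit 8), (nat_lit 15, t2_7_23_s4, nat_lit 8), (nat_lit 6, t2_7_23_s5, nat_lit 8), (nat_lit 10, t2_7_23_s6, nat_lit 7), (nat_lit 11, t2_7_23_s6, nat_lit 20), (nat_lit 9, t2_7_23_s4, nat_lit 18), (nat_lit 19, t2_7_23_s5, nat_lit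 18)]
noncomputable def t2_7_23_lev5 : Core.Lev := Core.mkLev m23_n m23_w m23_mask m23_L m23_maskL m23_idc (nat_lit 5) [t2_7_23_s6] [(nat_lit 14, t2_7_23_s6, nat_lit 5), (nat_lit 17, t2_7_23_s6, nat_lit 14)]
noncomputable def t2_7_23_levels : List Core.Lev := [t2_7_23_lev0, t2_7_23_lev1, t2_7_23_lev2, t2_7_23_lev3, t2_7_23_lev4, t2_7_23_lev5]
theorem t2_7_23_ok : Core.checkAll m23_n m23_w m23_mask m23_L m23_maskL m23_idc [t2_7_23_X, t2_7_23_Y] t2_7_23_prog t2_7_23_levels = true := by decide +kernel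
theorem t2_7_23_ord : Core.orderC t2_7_23_levels = 10200960 := by decide +kernel
theorem t2_7_23_tr : tripleOK 2 7 23 t2_7_23_X t2_7_23_Y = true := by decide +kernel
theorem wit_2_7_23 : WitP 2 7 23 := wit_of (by norm_num) (by norm_num) (by norm_num) t2_7_23_ok t2_7_23_ord t2_7_23_tr

def t2_11_11_X : Nat := nat_lit 0xbdaa79c9807b8710a544a184869570
def t2_11_11_Y : Nat := nat_lit 0xbd189182d5308eb8bd4d0c0b39208e
def t2_11_11_prog : List (Nat × Nat × Nat) := [(nat_lit 1, nat_lit 1, nat_lit 0), (nat_lit 1, nat_lit 1, nat_lit 0), (nat_lit 0, nat_lit 3, nat_lit 2), (nat_lit 0, nat_lit 0, nat_lit 4), (nat_lit 0, nat_lit 0, nat_lit 4), (nat_lit 0, nat_lit 0, nat_lit 5), (nat_lit 0, nat_lit 4, nat_lit 4), (nat_lit 0, nat_lit 0, nat_lit 1), (nat_lit 0, nat_lit 8, nat_lit 9), (nat_lit 0, nat_lit 0, nat_lit 10), (nat_lit 0, nat_lit 0, nat_lit 10), (nat_lit 0,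 nat_lit 0, nat_lit 12), (nat_lit 0, nat_lit 0, nat_lit 12), (nat_lit 0, nat_lit 0, nat_lit 13), (nat_lit 0, nat_lit 0, nat_lit 15), (nat_lit 0, nat_lit 0, nat_lit 15), (nat_lit 0, nat_lit 0, nat_lit 16), (nat_lit 0, nat_lit 10, nat_lit 15), (nat_lit 0, nat_lit 0, nat_lit 16), (nat_lit 0, nat_lit 0, nat_lit 2), (nat_lit 0, nat_lit 16, nat_lit 21), (nat_lit 0, nat_lit 0, nat_lit 22), (nat_lit 0, nat_lit 21, nat_lit 20), (nat_lit 0, nat_lit 0, nat_lit 1), (nat_lit 1, nat_lit 16, nat_lit 0), (nat_lit 1, nat_lit 5, nat_lit 0), (nat_lit 1, nat_lit 2, nat_lit 0), (nat_lit 0, nat_lit 3, nat_lit 19), (nat_lit 0, nat_lit 0, nat_lit 8), (nat_lit 0, nat_lit 0, nat_lit 5), (nat_lit 0, nat_lit 0, nat_lit 22), (nat_lit 0, nat_lit 0, nat_lit 11), (nat_lit 0, nat_lit 0, nat_lit 8), (nat_lit 0, nat_lit 0, nat_lit 25), (nat_lit 0, nat_lit 0, nat_lit 10), (nat_lit 0, nat_lit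 0, nat_lit 27), (nat_lit 0, nat_lit 0, nat_lit 16), (nat_lit 0, nat_lit 0, nat_lit 17), (nat_lit 0, nat_lit 12, nat_lit 12), (nat_lit 0, nat_lit 0, nat_lit 1), (nat_lit 0, nat_lit 16, nat_lit 20), (nat_lit 0, nat_lit 0, nat_lit 33), (nat_lit 0, nat_lit 0, nat_lit 18), (nat_lit 0, nat_lit 0, nat_lit 35), (nat_lit 0, nat_lit 0, nat_lit 24), (nat_lit 0, nat_lit 0, nat_lit 25), (nat_lit 0, nat_lit 7, nat_lit 20), (nat_lit 0, nat_lit 0, nat_lit 20), (nat_lit 0, nat_lit 0, nat_lit 23), (nat_lit 0, nat_lit 0, nat_lit 3), (nat_lit 1, nat_lit 10, nat_lit 0), (nat_lit 1, nat_lit 1, nat_lit 0), (nat_lit 0, nat_lit 12, nat_lit 12), (nat_lit 0, nat_lit 0, nat_lit 13), (nat_lit 0, nat_lit 0, nat_lit 4), (nat_lit 0, nat_lit 0, nat_lit 15), (nat_lit 0, nat_lit 0, nat_lit 6), (nat_lit 0, nat_lit 0, nat_lit 7), (nat_lit 0, nat_lit 0, nat_lit 18), (nat_lit 0, nat_lit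 0, nat_lit 9), (nat_lit 0, nat_lit 0, nat_lit 10), (nat_lit 0, nat_lit 10, nat_lit 10), (nat_lit 0, nat_lit 0, nat_lit 1), (nat_lit 0, nat_lit 13, nat_lit 13), (nat_lit 0, nat_lit 24, nat_lit 14), (nat_lit 0, nat_lit 0, nat_lit 15), (nat_lit 0, nat_lit 0, nat_lit 16), (nat_lit 0, nat_lit 0, nat_lit 27), (nat_lit 0, nat_lit 0, nat_lit 18), (nat_lit 0, nat_lit 17, nat_lit 17), (nat_lit 0, nat_lit 0, nat_lit 19), (nat_lit 0, nat_lit 0, nat_lit 2), (nat_lit 0, nat_lit 7, nat_lit 32), (nat_lit 0, nat_lit 0, nat_lit 33), (nat_lit 0, nat_lit 0, nat_lit 34), (nat_lit 0, nat_lit 0, nat_lit 35), (nat_lit 0, nat_lit 0, nat_lit 36), (nat_lit 0, nat_lit 0, nat_lit 37), (nat_lit 0, nat_lit 14, nat_lit 28), (nat_lit 0, nat_lit 0, nat_lit 29), (nat_lit 0, nat_lit 0, nat_lit 30), (nat_lit 0, nat_lit 0, nat_lit 41), (nat_lit 0, nat_lit 0, nat_lit 32), (nat_lit 0, nat_lit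 0, nat_lit 43), (nat_lit 0, nat_lit 0, nat_lit 44), (nat_lit 0, nat_lit 0, nat_lit 35), (nat_lit 0, nat_lit 0, nat_lit 46), (nat_lit 0, nat_lit 0, nat_lit 37), (nat_lit 0, nat_lit 26, nat_lit 36), (nat_lit 0, nat_lit 0, nat_lit 38), (nat_lit 0, nat_lit 0, nat_lit 2), (nat_lit 0, nat_lit 41, nat_lit 51), (nat_lit 0, nat_lit 0, nat_lit 42), (nat_lit 0, nat_lit 0, nat_lit 43), (nat_lit 0, nat_lit 0, nat_lit 44), (nat_lit 0, nat_lit 0, nat_lit 45), (nat_lit 0, nat_lit 0, nat_lit 46), (nat_lit 0, nat_lit 0, nat_lit 57), (nat_lit 0, nat_lit 0, nat_lit 48), (nat_lit 0, nat_lit 0, nat_lit 49), (nat_lit 0, nat_lit 0, nat_lit 60), (nat_lit 0, nat_lit 0, nat_lit 61), (nat_lit 0, nat_lit 46, nat_lit 62), (nat_lit 0, nat_lit 0, nat_lit 63), (nat_lit 0, nat_lit 0, nat_lit 64), (nat_lit 0, nat_lit 0, nat_lit 55), (nat_lit 0, nat_lit 0, nat_lit 66), (nat_lit 0, nat_lit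 0, nat_lit 57), (nat_lit 0, nat_lit 0, nat_lit 68), (nat_lit 0, nat_lit 39, nat_lit 57), (nat_lit 0, nat_lit 0, nat_lit 1), (nat_lit 1, nat_lit 39, nat_lit 0), (nat_lit 1, nat_lit 34, nat_lit 0), (nat_lit 1, nat_lit 11, nat_lit 0), (nat_lit 1, nat_lit 3, nat_lit 0), (nat_lit 0, nat_lit 37, nat_lit 13), (nat_lit 0, nat_lit 0, nat_lit 44), (nat_lit 0, nat_lit 0, nat_lit 39), (nat_lit 0, nat_lit 0, nat_lit 40), (nat_lit 0, nat_lit 7, nat_lit 6), (nat_lit 0, nat_lit 0, nat_lit 1), (nat_lit 0, nat_lit 58, nat_lit 49), (nat_lit 0, nat_lit 0, nat_lit 44), (nat_lit 0, nat_lit 0, nat_lit 21), (nat_lit 0, nat_lit 0, nat_lit 52), (nat_lit 0, nat_lit 0, nat_lit 14), (nat_lit 0, nat_lit 11, nat_lit 0), (nat_lit 0, nat_lit 49, nat_lit 49), (nat_lit 0, nat_lit 0, nat_lit 37), (nat_lit 0, nat_lit 0, nat_lit 57), (nat_lit 0, nat_lit 0, nat_lit 52), (nat_lit 0, nat_lit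 0, nat_lit 68), (nat_lit 0, nat_lit 0, nat_lit 54), (nat_lit 0, nat_lit 0, nat_lit 22), (nat_lit 0, nat_lit 0, nat_lit 32), (nat_lit 0, nat_lit 0, nat_lit 63), (nat_lit 0, nat_lit 22, nat_lit 0), (nat_lit 1, nat_lit 16, nat_lit 0), (nat_lit 1, nat_lit 1, nat_lit 0), (nat_lit 0, nat_lit 2, nat_lit 12), (nat_lit 0, nat_lit 0, nat_lit 19), (nat_lit 0, nat_lit 0, nat_lit 4), (nat_lit 0, nat_lit 3, nat_lit 4), (nat_lit 0, nat_lit 0, nat_lit 1)]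
def t2_11_11_s0 : Nat := nat_lit 0xbdaa79c9807b8710a544a184869570
def t2_11_11_s1 : Nat := nat_lit 0xba5d6796ab9060d40d54230f134c40
def t2_11_11_s2 : Nat := nat_lit 0xbae4a4c48e634c8a4cb519ecf14020
def t2_11_11_s3 : Nat := nat_lit 0xb8d67641519bca469ab64492ea0820
def t2_11_11_s4 : Nat := nat_lit 0xbd17661a2a23933ac1a7448af18820
def t2_11_11_s5 : Nat := nat_lit 0xba91094e346b9e63d8955b0a918820
def t2_11_11_s6 : Nat := nat_lit 0xbc12ba18ad946c79b11553dc418820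
noncomputable def t2_11_11_lev0 : Core.Lev := Core.mkLev m23_n m23_w m23_mask m23_L m23_maskL m23_idc (nat_lit 0) [t2_11_11_s6, t2_11_11_s4, t2_11_11_s5, t2_11_11_s3, t2_11_11_s2, t2_11_11_s1, t2_11_11_s0] [(nat_lit 16, t2_11_11_s0, nat_lit 0), (nat_lit 13, t2_11_11_s6, nat_lit 16), (nat_lit 10, t2_11_11_s4, nat_lit 16), (nat_lit 20, t2_11_11_s5, nat_lit 16), (nat_lit 17, t2_11_11_s3, nat_lit 16), (nat_lit 14, t2_11_11_s2, nat_lit 16), (nat_lit 11, t2_11_11_s1, nat_lit 16), (nat_lit 22, t2_11_11_s6, nat_lit 13), (nat_lit 9, t2_11_11_s4, nat_lit 13), (nat_lit 15, t2_11_11_s5, nat_lit 13), (nat_lit 5, t2_11_11_s3, nat_lit 13), (nat_lit 6, t2_11_11_s2, nat_lit 13), (nat_lit 3, t2_11_11_s0, nat_lit 13), (nat_lit 12, t2_11_11_s6, nat_lit 10), (nat_lit 19, t2_11_11_s2, nat_lit 10), (nat_lit 7, t2_11_11_s3, nat_lit 20), (nat_lit 4, t2_11_11_s2, nat_lit 17),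 (nat_lit 21, t2_11_11_s1, nat_lit 17), (nat_lit 1, t2_11_11_s1, nat_lit 14), (nat_lit 8, t2_11_11_s1, nat_lit 11), (nat_lit 18, t2_11_11_s6, nat_lit 15), (nat_lit 2, t2_11_11_s0, nat_lit 5)]
noncomputable def t2_11_11_lev1 : Core.Lev := Core.mkLev m23_n m23_w m23_mask m23_L m23_maskL m23_idc (nat_lit 1) [t2_11_11_s6, t2_11_11_s4, t2_11_11_s5, t2_11_11_s3, t2_11_11_s2, t2_11_11_s1] [(nat_lit 2, t2_11_11_s1, nat_lit 1), (nat_lit 16, t2_11_11_s2, nat_lit 2), (nat_lit 19, t2_11_11_s1, nat_lit 2), (nat_lit 13, t2_11_11_s6, nat_lit 16), (nat_lit 10, t2_11_11_s4, nat_lit 16), (nat_lit 20, t2_11_11_s5, nat_lit 16), (nat_lit 17, t2_11_11_s3, nat_lit 16), (nat_lit 14, t2_11_11_s2, nat_lit 16), (nat_lit 11, t2_11_11_s1, nat_lit 16), (nat_lit 12, t2_11_11_s4, nat_lit 19), (nat_lit 18, t2_11_11_s5, nat_lit 19), (nat_lit 9, t2_11_11_s2, nat_lit 19), (nat_lit 15,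 t2_11_11_s1, nat_lit 19), (nat_lit 22, t2_11_11_s6, nat_lit 13), (nat_lit 5, t2_11_11_s3, nat_lit 13), (nat_lit 6, t2_11_11_s2, nat_lit 13), (nat_lit 3, t2_11_11_s1, nat_lit 10), (nat_lit 7, t2_11_11_s3, nat_lit 20), (nat_lit 4, t2_11_11_s2, nat_lit 17), (nat_lit 21, t2_11_11_s1, nat_lit 17), (nat_lit 8, t2_11_11_s1, nat_lit 11)]
noncomputable def t2_11_11_lev2 : Core.Lev := Core.mkLev m23_n m23_w m23_mask m23_L m23_maskL m23_idc (nat_lit 2) [t2_11_11_s6, t2_11_11_s4, t2_11_11_s5, t2_11_11_s3, t2_11_11_s2] [(nat_lit 16, t2_11_11_s2, nat_lit 2), (nat_lit 13, t2_11_11_s6, nat_lit 16), (nat_lit 10, t2_11_11_s4, nat_lit 16), (nat_lit 20, t2_11_11_s5, nat_lit 16), (nat_lit 17, t2_11_11_s3, nat_lit 16), (nat_lit 14, t2_11_11_s2, nat_lit 16), (nat_lit 22, t2_11_11_s6, nat_lit 13), (nat_lit 9, t2_11_11_s4, nat_lit 13), (nat_lit 15, t2_11_11_s5, nat_lit 13),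 (nat_lit 5, t2_11_11_s3, nat_lit 13), (nat_lit 6, t2_11_11_s2, nat_lit 13), (nat_lit 12, t2_11_11_s6, nat_lit 10), (nat_lit 19, t2_11_11_s2, nat_lit 10), (nat_lit 11, t2_11_11_s6, nat_lit 20), (nat_lit 7, t2_11_11_s3, nat_lit 20), (nat_lit 4, t2_11_11_s2, nat_lit 17), (nat_lit 3, t2_11_11_s3, nat_lit 22), (nat_lit 8, t2_11_11_s6, nat_lit 9), (nat_lit 21, t2_11_11_s3, nat_lit 9), (nat_lit 18, t2_11_11_s6, nat_lit 15)]
noncomputable def t2_11_11_lev3 : Core.Lev := Core.mkLev m23_n m23_w m23_mask m23_L m23_maskL m23_idc (nat_lit 3) [t2_11_11_s6, t2_11_11_s4, t2_11_11_s5, t2_11_11_s3] [(nat_lit 20, t2_11_11_s3, nat_lit 3), (nat_lit 11, t2_11_11_s6, nat_lit 20), (nat_lit 22, t2_11_11_s4, nat_lit 20), (nat_lit 16, t2_11_11_s5, nat_lit 20), (nat_lit 7, t2_11_11_s3, nat_lit 20), (nat_lit 19, t2_11_11_s6, nat_lit 11), (nat_lit 21, t2_11_11_s4, nat_lit 11), (nat_lit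 13, t2_11_11_s3, nat_lit 11), (nat_lit 10, t2_11_11_s5, nat_lit 22), (nat_lit 17, t2_11_11_s3, nat_lit 16), (nat_lit 8, t2_11_11_s4, nat_lit 7), (nat_lit 12, t2_11_11_s4, nat_lit 19), (nat_lit 18, t2_11_11_s5, nat_lit 19), (nat_lit 9, t2_11_11_s6, nat_lit 21), (nat_lit 15, t2_11_11_s5, nat_lit 13), (nat_lit 5, t2_11_11_s3, nat_lit 13), (nat_lit 6, t2_11_11_s3, nat_lit 10), (nat_lit 4, t2_11_11_s3, nat_lit 12), (nat_lit 14, t2_11_11_s6, nat_lit 5)]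
noncomputable def t2_11_11_lev4 : Core.Lev := Core.mkLev m23_n m23_w m23_mask m23_L m23_maskL m23_idc (nat_lit 4) [t2_11_11_s6, t2_11_11_s4, t2_11_11_s5] [(nat_lit 15, t2_11_11_s4, nat_lit 4), (nat_lit 9, t2_11_11_s5, nat_lit 4), (nat_lit 18, t2_11_11_s6, nat_lit 15), (nat_lit 13, t2_11_11_s5, nat_lit 15), (nat_lit 8, t2_11_11_s6, nat_lit 9), (nat_lit 6, t2_11_11_s6, nat_lit 18), (nat_lit 19, t2_11_11_s5, nat_lit 18), (nat_lit 22, t2_11_11_s6, nat_lit 13), (nat_lit 21, t2_11_11_s6, nat_lit 8), (nat_lit 7, t2_11_11_s4, nat_lit 8), (nat_lit 12, t2_11_11_s5, nat_lit 6), (nat_lit 20, t2_11_11_s6, nat_lit 19), (nat_lit 16, t2_11_11_s6, nat_lit 22), (nat_lit 10, t2_11_11_s5, nat_lit 22), (nat_lit 11, t2_11_11_s4, nat_lit 21)]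
noncomputable def t2_11_11_lev5 : Core.Lev := Core.mkLev m23_n m23_w m23_mask m23_L m23_maskL m23_idc (nat_lit 5) [t2_11_11_s6] [(nat_lit 14, t2_11_11_s6, nat_lit 5), (nat_lit 17, t2_11_11_s6, nat_lit 14)]
noncomputable def t2_11_11_levels : List Core.Lev := [t2_11_11_lev0, t2_11_11_lev1, t2_11_11_lev2, t2_11_11_lev3, t2_11_11_lev4, t2_11_11_lev5]
theorem t2_11_11_ok : Core.checkAll m23_n m23_w m23_mask m23_L m23_maskL m23_idc [t2_11_11_X, t2_11_11_Y] t2_11_11_prog t2_11_11_levels = true := by decide +kernel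
theorem t2_11_11_ord : Core.orderC t2_11_11_levels = 10200960 := by decide +kernel
theorem t2_11_11_tr : tripleOK 2 11 11 t2_11_11_X t2_11_11_Y = true := by decide +kernel
theorem wit_2_11_11 : WitP 2 11 11 := wit_of (by norm_num) (by norm_num) (by norm_num) t2_11_11_ok t2_11_11_ord t2_11_11_tr

def t2_11_23_X : Nat := nat_lit 0xbdaa79c9807b8710a544a184869570
def t2_11_23_Y : Nat := nat_lit 0xb828bb282d621c33d5f1990b282446
def t2_11_23_prog : List (Nat × Nat × Nat) := [(nat_lit 1, nat_lit 1, nat_lit 0), (nat_lit 1, nat_lit 1, nat_lit 0), (nat_lit 0, nat_lit 3, nat_lit 2), (nat_lit 0, nat_lit 0, nat_lit 4), (nat_lit 0, nat_lit 0, nat_lit 4), (nat_lit 0, nat_lit 4, nat_lit 3), (nat_lit 0, nat_lit 7, nat_lit 7), (nat_lit 0, nat_lit 0, nat_lit 7), (nat_lit 0, nat_lit 0, nat_lit 9), (nat_lit 0, nat_lit 0, nat_lit 10), (nat_lit 0, nat_lit 0, nat_lit 10),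 (nat_lit 0, nat_lit 0, nat_lit 11), (nat_lit 0, nat_lit 0, nat_lit 13), (nat_lit 0, nat_lit 0, nat_lit 13), (nat_lit 0, nat_lit 0, nat_lit 15), (nat_lit 0, nat_lit 9, nat_lit 13), (nat_lit 0, nat_lit 0, nat_lit 1), (nat_lit 0, nat_lit 12, nat_lit 18), (nat_lit 0, nat_lit 0, nat_lit 19), (nat_lit 0, nat_lit 0, nat_lit 19), (nat_lit 0, nat_lit 0, nat_lit 21), (nat_lit 0, nat_lit 0, nat_lit 21), (nat_lit 0, nat_lit 0, nat_lit 22), (nat_lit 0, nat_lit 0, nat_lit 24), (nat_lit 0, nat_lit 18, nat_lit 0), (nat_lit 1, nat_lit 0, nat_lit 0), (nat_lit 1, nat_lit 9, nat_lit 0), (nat_lit 0, nat_lit 2, nat_lit 2), (nat_lit 0, nat_lit 0, nat_lit 3), (nat_lit 0, nat_lit 0, nat_lit 12), (nat_lit 0, nat_lit 0, nat_lit 5), (nat_lit 0, nat_lit 0, nat_lit 14), (nat_lit 0, nat_lit 0, nat_lit 7), (nat_lit 0, nat_lit 0, nat_lit 8), (nat_lit 0, nat_lit 8, nat_lit 7), (nat_lit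 0, nat_lit 0, nat_lit 8), (nat_lit 0, nat_lit 0, nat_lit 10), (nat_lit 0, nat_lit 0, nat_lit 10), (nat_lit 0, nat_lit 0, nat_lit 4), (nat_lit 0, nat_lit 22, nat_lit 14), (nat_lit 0, nat_lit 0, nat_lit 23), (nat_lit 0, nat_lit 0, nat_lit 16), (nat_lit 0, nat_lit 0, nat_lit 25), (nat_lit 0, nat_lit 0, nat_lit 26), (nat_lit 0, nat_lit 0, nat_lit 19), (nat_lit 0, nat_lit 0, nat_lit 20), (nat_lit 0, nat_lit 0, nat_lit 21), (nat_lit 0, nat_lit 11, nat_lit 0), (nat_lit 1, nat_lit 9, nat_lit 0), (nat_lit 1, nat_lit 1, nat_lit 0), (nat_lit 0, nat_lit 0, nat_lit 1), (nat_lit 0, nat_lit 3, nat_lit 3), (nat_lit 0, nat_lit 0, nat_lit 4), (nat_lit 0, nat_lit 0, nat_lit 14), (nat_lit 0, nat_lit 0, nat_lit 6), (nat_lit 0, nat_lit 0, nat_lit 16), (nat_lit 0, nat_lit 0, nat_lit 17), (nat_lit 0, nat_lit 0, nat_lit 9), (nat_lit 0, nat_lit 0, nat_lit 19), (nat_lit 0, nat_lit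 10, nat_lit 10), (nat_lit 0, nat_lit 0, nat_lit 11), (nat_lit 0, nat_lit 0, nat_lit 12), (nat_lit 0, nat_lit 0, nat_lit 12), (nat_lit 0, nat_lit 0, nat_lit 14), (nat_lit 0, nat_lit 0, nat_lit 5), (nat_lit 0, nat_lit 17, nat_lit 26), (nat_lit 0, nat_lit 0, nat_lit 18), (nat_lit 0, nat_lit 0, nat_lit 19), (nat_lit 0, nat_lit 0, nat_lit 20), (nat_lit 0, nat_lit 0, nat_lit 21), (nat_lit 0, nat_lit 0, nat_lit 22), (nat_lit 0, nat_lit 0, nat_lit 32), (nat_lit 0, nat_lit 0, nat_lit 24), (nat_lit 0, nat_lit 22, nat_lit 23), (nat_lit 0, nat_lit 0, nat_lit 25), (nat_lit 0, nat_lit 0, nat_lit 2), (nat_lit 0, nat_lit 37, nat_lit 28), (nat_lit 0, nat_lit 0, nat_lit 38), (nat_lit 0, nat_lit 0, nat_lit 39), (nat_lit 0, nat_lit 0, nat_lit 40), (nat_lit 0, nat_lit 0, nat_lit 41), (nat_lit 0, nat_lit 0, nat_lit 33), (nat_lit 0, nat_lit 0, nat_lit 43), (nat_lit 0, nat_lit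 0, nat_lit 35), (nat_lit 0, nat_lit 0, nat_lit 45), (nat_lit 0, nat_lit 0, nat_lit 37), (nat_lit 0, nat_lit 0, nat_lit 47), (nat_lit 0, nat_lit 26, nat_lit 0), (nat_lit 1, nat_lit 23, nat_lit 0), (nat_lit 1, nat_lit 1, nat_lit 0), (nat_lit 1, nat_lit 14, nat_lit 0), (nat_lit 0, nat_lit 3, nat_lit 15), (nat_lit 0, nat_lit 0, nat_lit 16), (nat_lit 0, nat_lit 0, nat_lit 28), (nat_lit 0, nat_lit 0, nat_lit 29), (nat_lit 0, nat_lit 0, nat_lit 30), (nat_lit 0, nat_lit 7, nat_lit 5), (nat_lit 0, nat_lit 0, nat_lit 1), (nat_lit 0, nat_lit 22, nat_lit 33), (nat_lit 0, nat_lit 0, nat_lit 11), (nat_lit 0, nat_lit 0, nat_lit 24), (nat_lit 0, nat_lit 0, nat_lit 13), (nat_lit 0, nat_lit 0, nat_lit 14), (nat_lit 0, nat_lit 0, nat_lit 27), (nat_lit 0, nat_lit 0, nat_lit 28), (nat_lit 0, nat_lit 0, nat_lit 17), (nat_lit 0, nat_lit 0, nat_lit 30), (nat_lit 0, nat_lit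 0, nat_lit 31), (nat_lit 0, nat_lit 0, nat_lit 32), (nat_lit 0, nat_lit 20, nat_lit 20), (nat_lit 0, nat_lit 0, nat_lit 20), (nat_lit 0, nat_lit 0, nat_lit 2), (nat_lit 0, nat_lit 47, nat_lit 36), (nat_lit 0, nat_lit 0, nat_lit 37), (nat_lit 0, nat_lit 0, nat_lit 38), (nat_lit 0, nat_lit 26, nat_lit 0), (nat_lit 1, nat_lit 0, nat_lit 0), (nat_lit 0, nat_lit 5, nat_lit 5), (nat_lit 0, nat_lit 0, nat_lit 20), (nat_lit 0, nat_lit 0, nat_lit 7), (nat_lit 0, nat_lit 0, nat_lit 4), (nat_lit 0, nat_lit 0, nat_lit 5), (nat_lit 0, nat_lit 0, nat_lit 24), (nat_lit 0, nat_lit 6, nat_lit 0)]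
def t2_11_23_s0 : Nat := nat_lit 0xbdaa79c9807b8710a544a184869570
def t2_11_23_s1 : Nat := nat_lit 0xb952e309f5442d2a2da76047351220
def t2_11_23_s2 : Nat := nat_lit 0xbc472a3d271554e3311024db62ac20
def t2_11_23_s3 : Nat := nat_lit 0xb9a834b5732b2b683a247a90790820
def t2_11_23_s4 : Nat := nat_lit 0xb9944a31d5694e85c2d27a63318820
def t2_11_23_s5 : Nat := nat_lit 0xbb4c93ae2453ac893e8c9d4b018820
def t2_11_23_s6 : Nat := nat_lit 0xbc12ba18ad946c79b11553dc418820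
noncomputable def t2_11_23_lev0 : Core.Lev := Core.mkLev m23_n m23_w m23_mask m23_L m23_maskL m23_idc (nat_lit 0) [t2_11_23_s6, t2_11_23_s4, t2_11_23_s5, t2_11_23_s3, t2_11_23_s2, t2_11_23_s1, t2_11_23_s0] [(nat_lit 16, t2_11_23_s0, nat_lit 0), (nat_lit 13, t2_11_23_s6, nat_lit 16), (nat_lit 21, t2_11_23_s4, nat_lit 16), (nat_lit 4, t2_11_23_s5, nat_lit 16), (nat_lit 19, t2_11_23_s3, nat_lit 16), (nat_lit 7, t2_11_23_s2, nat_lit 16), (nat_lit 22, t2_11_23_s6, nat_lit 13), (nat_lit 10, t2_11_23_s2, nat_lit 13), (nat_lit 3, t2_11_23_s0, nat_lit 13), (nat_lit 9, t2_11_23_s6, nat_lit 21), (nat_lit 6, t2_11_23_s5, nat_lit 21), (nat_lit 20, t2_11_23_s3, nat_lit 21), (nat_lit 8, t2_11_23_s0, nat_lit 4), (nat_lit 15, t2_11_23_s4, nat_lit 7), (nat_lit 12, t2_11_23_s1, nat_lit 7), (nat_lit 17, t2_11_23_s2, nat_lit 22), (nat_lit 5, t2_11_23_s1, nat_lit 22), (nat_lit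 14, t2_11_23_s3, nat_lit 10), (nat_lit 11, t2_11_23_s1, nat_lit 10), (nat_lit 18, t2_11_23_s3, nat_lit 3), (nat_lit 1, t2_11_23_s1, nat_lit 6), (nat_lit 2, t2_11_23_s2, nat_lit 15)]
noncomputable def t2_11_23_lev1 : Core.Lev := Core.mkLev m23_n m23_w m23_mask m23_L m23_maskL m23_idc (nat_lit 1) [t2_11_23_s6, t2_11_23_s4, t2_11_23_s5, t2_11_23_s3, t2_11_23_s2, t2_11_23_s1] [(nat_lit 17, t2_11_23_s1, nat_lit 1), (nat_lit 5, t2_11_23_s6, nat_lit 17), (nat_lit 14, t2_11_23_s4, nat_lit 17), (nat_lit 11, t2_11_23_s3, nat_lit 17), (nat_lit 9, t2_11_23_s2, nat_lit 17), (nat_lit 15, t2_11_23_s1, nat_lit 17), (nat_lit 8, t2_11_23_s3, nat_lit 5), (nat_lit 13, t2_11_23_s2, nat_lit 5), (nat_lit 3, t2_11_23_s1, nat_lit 5), (nat_lit 12, t2_11_23_s3, nat_lit 14), (nat_lit 21, t2_11_23_s2, nat_lit 14), (nat_lit 16, t2_11_23_s1, nat_lit 14), (nat_lit 19, t2_11_23_s6,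 nat_lit 11), (nat_lit 18, t2_11_23_s5, nat_lit 11), (nat_lit 6, t2_11_23_s2, nat_lit 11), (nat_lit 20, t2_11_23_s1, nat_lit 11), (nat_lit 22, t2_11_23_s4, nat_lit 9), (nat_lit 10, t2_11_23_s5, nat_lit 15), (nat_lit 2, t2_11_23_s2, nat_lit 15), (nat_lit 4, t2_11_23_s3, nat_lit 8), (nat_lit 7, t2_11_23_s1, nat_lit 8)]
noncomputable def t2_11_23_lev2 : Core.Lev := Core.mkLev m23_n m23_w m23_mask m23_L m23_maskL m23_idc (nat_lit 2) [t2_11_23_s6, t2_11_23_s4, t2_11_23_s5, t2_11_23_s3, t2_11_23_s2] [(nat_lit 11, t2_11_23_s2, nat_lit 2), (nat_lit 19, t2_11_23_s6, nat_lit 11), (nat_lit 18, t2_11_23_s5, nat_lit 11), (nat_lit 16, t2_11_23_s3, nat_lit 11), (nat_lit 6, t2_11_23_s2, nat_lit 11), (nat_lit 20, t2_11_23_s6, nat_lit 19), (nat_lit 7, t2_11_23_s5, nat_lit 19), (nat_lit 9, t2_11_23_s3, nat_lit 19), (nat_lit 12, t2_11_23_s4, nat_lit 18), (nat_lit 13, t2_11_23_s3,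 nat_lit 18), (nat_lit 15, t2_11_23_s2, nat_lit 18), (nat_lit 21, t2_11_23_s4, nat_lit 16), (nat_lit 4, t2_11_23_s5, nat_lit 16), (nat_lit 10, t2_11_23_s3, nat_lit 6), (nat_lit 3, t2_11_23_s3, nat_lit 20), (nat_lit 8, t2_11_23_s6, nat_lit 9), (nat_lit 22, t2_11_23_s4, nat_lit 9), (nat_lit 17, t2_11_23_s3, nat_lit 9), (nat_lit 14, t2_11_23_s2, nat_lit 12), (nat_lit 5, t2_11_23_s3, nat_lit 15)]
noncomputable def t2_11_23_lev3 : Core.Lev := Core.mkLev m23_n m23_w m23_mask m23_L m23_maskL m23_idc (nat_lit 3) [t2_11_23_s6, t2_11_23_s4, t2_11_23_s5, t2_11_23_s3] [(nat_lit 18, t2_11_23_s3, nat_lit 3), (nat_lit 6, t2_11_23_s6, nat_lit 18), (nat_lit 12, t2_11_23_s4, nat_lit 18), (nat_lit 11, t2_11_23_s5, nat_lit 18), (nat_lit 13, t2_11_23_s3, nat_lit 18), (nat_lit 15, t2_11_23_s6, nat_lit 6), (nat_lit 9, t2_11_23_s4, nat_lit 6), (nat_lit 21, t2_11_23_s5, nat_lit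 6), (nat_lit 10, t2_11_23_s3, nat_lit 6), (nat_lit 7, t2_11_23_s6, nat_lit 12), (nat_lit 8, t2_11_23_s4, nat_lit 12), (nat_lit 22, t2_11_23_s3, nat_lit 12), (nat_lit 19, t2_11_23_s6, nat_lit 11), (nat_lit 16, t2_11_23_s3, nat_lit 11), (nat_lit 5, t2_11_23_s3, nat_lit 15), (nat_lit 20, t2_11_23_s5, nat_lit 9), (nat_lit 17, t2_11_23_s3, nat_lit 9), (nat_lit 14, t2_11_23_s3, nat_lit 10), (nat_lit 4, t2_11_23_s3, nat_lit 8)]
noncomputable def t2_11_23_lev4 : Core.Lev := Core.mkLev m23_n m23_w m23_mask m23_L m23_maskL m23_idc (nat_lit 4) [t2_11_23_s6, t2_11_23_s4, t2_11_23_s5] [(nat_lit 19, t2_11_23_s4, nat_lit 4), (nat_lit 16, t2_11_23_s5, nat_lit 4), (nat_lit 20, t2_11_23_s6, nat_lit 19), (nat_lit 7, t2_11_23_s5, nat_lit 19), (nat_lit 13, t2_11_23_s6, nat_lit 16), (nat_lit 21, t2_11_23_s4, nat_lit 16), (nat_lit 11, t2_11_23_s6, nat_lit 20), (nat_lit 9,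 t2_11_23_s5, nat_lit 20), (nat_lit 10, t2_11_23_s6, nat_lit 7), (nat_lit 15, t2_11_23_s4, nat_lit 7), (nat_lit 22, t2_11_23_s6, nat_lit 13), (nat_lit 6, t2_11_23_s5, nat_lit 21), (nat_lit 18, t2_11_23_s5, nat_lit 11), (nat_lit 8, t2_11_23_s6, nat_lit 9), (nat_lit 12, t2_11_23_s6, nat_lit 10)]
noncomputable def t2_11_23_lev5 : Core.Lev := Core.mkLev m23_n m23_w m23_mask m23_L m23_maskL m23_idc (nat_lit 5) [t2_11_23_s6] [(nat_lit 14, t2_11_23_s6, nat_lit 5), (nat_lit 17, t2_11_23_s6, nat_lit 14)]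
noncomputable def t2_11_23_levels : List Core.Lev := [t2_11_23_lev0, t2_11_23_lev1, t2_11_23_lev2, t2_11_23_lev3, t2_11_23_lev4, t2_11_23_lev5]
theorem t2_11_23_ok : Core.checkAll m23_n m23_w m23_mask m23_L m23_maskL m23_idc [t2_11_23_X, t2_11_23_Y] t2_11_23_prog t2_11_23_levels = true := by decide +kernel
theorem t2_11_23_ord : Core.orderC t2_11_23_levels = 10200960 := by decide +kernel
theorem t2_11_23_tr : tripleOK 2 11 23 t2_11_23_X t2_11_23_Y = true := by decide +kernel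
theorem wit_2_11_23 : WitP 2 11 23 := wit_of (by norm_num) (by norm_num) (by norm_num) t2_11_23_ok t2_11_23_ord t2_11_23_tr

def t2_23_23_X : Nat := nat_lit 0xbdaa79c9807b8710a544a184869570
def t2_23_23_Y : Nat := nat_lit 0xbd030158ab41dcd54c1178eac49a44
def t2_23_23_prog : List (Nat × Nat × Nat) := [(nat_lit 1, nat_lit 1, nat_lit 0), (nat_lit 1, nat_lit 1, nat_lit 0), (nat_lit 0, nat_lit 3, nat_lit 2), (nat_lit 0, nat_lit 0, nat_lit 4), (nat_lit 0, nat_lit 0, nat_lit 4), (nat_lit 0, nat_lit 0, nat_lit 5), (nat_lit 0, nat_lit 5, nat_lit 4), (nat_lit 0, nat_lit 0, nat_lit 5), (nat_lit 0, nat_lit 0, nat_lit 6), (nat_lit 0, nat_lit 0, nat_lit 7), (nat_lit 0, nat_lit 0, nat_lit 4), (nat_lit 0, nat_lit 11, nat_lit 12), (nat_lit 0, nat_lit 0, nat_lit 13), (nat_lit 0, nat_lit 0, nat_lit 13), (nat_lit 0, nat_lit 0, nat_lit 15), (nat_lit 0, nat_lit 0, nat_lit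 15), (nat_lit 0, nat_lit 0, nat_lit 16), (nat_lit 0, nat_lit 0, nat_lit 18), (nat_lit 0, nat_lit 0, nat_lit 18), (nat_lit 0, nat_lit 0, nat_lit 19), (nat_lit 0, nat_lit 13, nat_lit 19), (nat_lit 0, nat_lit 0, nat_lit 19), (nat_lit 0, nat_lit 0, nat_lit 2), (nat_lit 1, nat_lit 12, nat_lit 0), (nat_lit 1, nat_lit 1, nat_lit 0), (nat_lit 0, nat_lit 14, nat_lit 2), (nat_lit 0, nat_lit 0, nat_lit 15), (nat_lit 0, nat_lit 0, nat_lit 16), (nat_lit 0, nat_lit 0, nat_lit 17), (nat_lit 0, nat_lit 5, nat_lit 4), (nat_lit 0, nat_lit 0, nat_lit 6), (nat_lit 0, nat_lit 0, nat_lit 2), (nat_lit 0, nat_lit 21, nat_lit 21), (nat_lit 0, nat_lit 0, nat_lit 10), (nat_lit 0, nat_lit 0, nat_lit 23), (nat_lit 0, nat_lit 0, nat_lit 24), (nat_lit 0, nat_lit 0, nat_lit 13), (nat_lit 0, nat_lit 0, nat_lit 14), (nat_lit 0, nat_lit 0, nat_lit 27), (nat_lit 0, nat_lit 0, nat_lit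 16), (nat_lit 0, nat_lit 0, nat_lit 29), (nat_lit 0, nat_lit 10, nat_lit 16), (nat_lit 0, nat_lit 0, nat_lit 1), (nat_lit 1, nat_lit 11, nat_lit 0), (nat_lit 1, nat_lit 1, nat_lit 0), (nat_lit 0, nat_lit 13, nat_lit 2), (nat_lit 0, nat_lit 0, nat_lit 14), (nat_lit 0, nat_lit 0, nat_lit 4), (nat_lit 0, nat_lit 0, nat_lit 16), (nat_lit 0, nat_lit 0, nat_lit 17), (nat_lit 0, nat_lit 0, nat_lit 7), (nat_lit 0, nat_lit 0, nat_lit 19), (nat_lit 0, nat_lit 0, nat_lit 9), (nat_lit 0, nat_lit 0, nat_lit 10), (nat_lit 0, nat_lit 0, nat_lit 22), (nat_lit 0, nat_lit 11, nat_lit 10), (nat_lit 0, nat_lit 0, nat_lit 12), (nat_lit 0, nat_lit 0, nat_lit 12), (nat_lit 0, nat_lit 0, nat_lit 13), (nat_lit 0, nat_lit 0, nat_lit 14), (nat_lit 0, nat_lit 0, nat_lit 5), (nat_lit 0, nat_lit 18, nat_lit 18), (nat_lit 0, nat_lit 0, nat_lit 19), (nat_lit 0, nat_lit 0, nat_lit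 31), (nat_lit 0, nat_lit 0, nat_lit 21), (nat_lit 0, nat_lit 0, nat_lit 33), (nat_lit 0, nat_lit 0, nat_lit 23), (nat_lit 0, nat_lit 0, nat_lit 24), (nat_lit 0, nat_lit 11, nat_lit 24), (nat_lit 0, nat_lit 0, nat_lit 1), (nat_lit 1, nat_lit 9, nat_lit 0), (nat_lit 1, nat_lit 1, nat_lit 0), (nat_lit 0, nat_lit 11, nat_lit 2), (nat_lit 0, nat_lit 0, nat_lit 12), (nat_lit 0, nat_lit 0, nat_lit 4), (nat_lit 0, nat_lit 0, nat_lit 14), (nat_lit 0, nat_lit 0, nat_lit 15), (nat_lit 0, nat_lit 0, nat_lit 7), (nat_lit 0, nat_lit 0, nat_lit 8), (nat_lit 0, nat_lit 0, nat_lit 9), (nat_lit 0, nat_lit 8, nat_lit 9), (nat_lit 0, nat_lit 0, nat_lit 10), (nat_lit 0, nat_lit 0, nat_lit 10), (nat_lit 0, nat_lit 0, nat_lit 3), (nat_lit 0, nat_lit 23, nat_lit 23), (nat_lit 0, nat_lit 0, nat_lit 15), (nat_lit 0, nat_lit 0, nat_lit 16), (nat_lit 0, nat_lit 0, nat_lit 26),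 (nat_lit 0, nat_lit 0, nat_lit 27), (nat_lit 0, nat_lit 0, nat_lit 28), (nat_lit 0, nat_lit 0, nat_lit 29), (nat_lit 0, nat_lit 0, nat_lit 30), (nat_lit 0, nat_lit 0, nat_lit 31), (nat_lit 0, nat_lit 0, nat_lit 23), (nat_lit 0, nat_lit 22, nat_lit 0), (nat_lit 0, nat_lit 25, nat_lit 25), (nat_lit 0, nat_lit 0, nat_lit 26), (nat_lit 0, nat_lit 0, nat_lit 36), (nat_lit 0, nat_lit 0, nat_lit 28), (nat_lit 0, nat_lit 0, nat_lit 38), (nat_lit 0, nat_lit 0, nat_lit 39), (nat_lit 0, nat_lit 0, nat_lit 31), (nat_lit 0, nat_lit 0, nat_lit 41), (nat_lit 0, nat_lit 22, nat_lit 31), (nat_lit 0, nat_lit 0, nat_lit 33), (nat_lit 0, nat_lit 0, nat_lit 2), (nat_lit 1, nat_lit 22, nat_lit 0), (nat_lit 1, nat_lit 12, nat_lit 0), (nat_lit 1, nat_lit 2, nat_lit 0), (nat_lit 0, nat_lit 2, nat_lit 1), (nat_lit 0, nat_lit 26, nat_lit 26), (nat_lit 0, nat_lit 0, nat_lit 5),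 (nat_lit 0, nat_lit 0, nat_lit 28), (nat_lit 0, nat_lit 0, nat_lit 18), (nat_lit 0, nat_lit 0, nat_lit 19), (nat_lit 0, nat_lit 0, nat_lit 31), (nat_lit 0, nat_lit 0, nat_lit 32), (nat_lit 0, nat_lit 7, nat_lit 8), (nat_lit 0, nat_lit 0, nat_lit 9), (nat_lit 0, nat_lit 0, nat_lit 2)]
def t2_23_23_s0 : Nat := nat_lit 0xbdaa79c9807b8710a544a184869570
def t2_23_23_s1 : Nat := nat_lit 0xb8c4c5464b498b5a3da171e7624100
def t2_23_23_s2 : Nat := nat_lit 0xb92157ca3469e62624a833943b2c20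
def t2_23_23_s3 : Nat := nat_lit 0xbd1a8244ca64d2e2c963b42af38820
def t2_23_23_s4 : Nat := nat_lit 0xbd6cb22627638cfa224a834b318820
def t2_23_23_s5 : Nat := nat_lit 0xbd087830af9c54b91aa8b35c918820
def t2_23_23_s6 : Nat := nat_lit 0xbb5135bdd63160aa1ea964a2418820
noncomputable def t2_23_23_lev0 : Core.Lev := Core.mkLev m23_n m23_w m23_mask m23_L m23_maskL m23_idc (nat_lit 0) [t2_23_23_s6, t2_23_23_s4, t2_23_23_s5, t2_23_23_s3, t2_23_23_s2, t2_23_23_s1, t2_23_23_s0] [(nat_lit 16, t2_23_23_s0, nat_lit 0), (nat_lit 22, t2_23_23_s6, nat_lit 16), (nat_lit 7, t2_23_23_s4, nat_lit 16), (nat_lit 15, t2_23_23_s5, nat_lit 16), (nat_lit 10, t2_23_23_s3, nat_lit 16), (nat_lit 20, t2_23_23_s2, nat_lit 16), (nat_lit 11, t2_23_23_s1, nat_lit 16), (nat_lit 13, t2_23_23_s6, nat_lit 22), (nat_lit 21, t2_23_23_s4, nat_lit 22), (nat_lit 4, t2_23_23_s2, nat_lit 22), (nat_lit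 3, t2_23_23_s1, nat_lit 22), (nat_lit 12, t2_23_23_s6, nat_lit 7), (nat_lit 6, t2_23_23_s2, nat_lit 7), (nat_lit 14, t2_23_23_s1, nat_lit 7), (nat_lit 19, t2_23_23_s5, nat_lit 15), (nat_lit 9, t2_23_23_s1, nat_lit 15), (nat_lit 8, t2_23_23_s4, nat_lit 10), (nat_lit 18, t2_23_23_s3, nat_lit 10), (nat_lit 5, t2_23_23_s3, nat_lit 11), (nat_lit 1, t2_23_23_s0, nat_lit 11), (nat_lit 2, t2_23_23_s1, nat_lit 21), (nat_lit 17, t2_23_23_s0, nat_lit 12)]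
noncomputable def t2_23_23_lev1 : Core.Lev := Core.mkLev m23_n m23_w m23_mask m23_L m23_maskL m23_idc (nat_lit 1) [t2_23_23_s6, t2_23_23_s4, t2_23_23_s5, t2_23_23_s3, t2_23_23_s2, t2_23_23_s1] [(nat_lit 8, t2_23_23_s1, nat_lit 1), (nat_lit 9, t2_23_23_s6, nat_lit 8), (nat_lit 10, t2_23_23_s4, nat_lit 8), (nat_lit 3, t2_23_23_s3, nat_lit 8), (nat_lit 21, t2_23_23_s6, nat_lit 9), (nat_lit 18, t2_23_23_s4, nat_lit 9), (nat_lit 11, t2_23_23_s3, nat_lit 9), (nat_lit 5, t2_23_23_s2, nat_lit 9), (nat_lit 13, t2_23_23_s1, nat_lit 9), (nat_lit 7, t2_23_23_s6, nat_lit 10), (nat_lit 6, t2_23_23_s5, nat_lit 10), (nat_lit 15, t2_23_23_s1, nat_lit 10), (nat_lit 22, t2_23_23_s2, nat_lit 3), (nat_lit 4, t2_23_23_s1, nat_lit 3), (nat_lit 16, t2_23_23_s2, nat_lit 21), (nat_lit 2, t2_23_23_s1, nat_lit 21), (nat_lit 12, t2_23_23_s5, nat_lit 18), (nat_lit 17, t2_23_23_s3,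 nat_lit 18), (nat_lit 20, t2_23_23_s6, nat_lit 11), (nat_lit 14, t2_23_23_s5, nat_lit 5), (nat_lit 19, t2_23_23_s1, nat_lit 5)]
noncomputable def t2_23_23_lev2 : Core.Lev := Core.mkLev m23_n m23_w m23_mask m23_L m23_maskL m23_idc (nat_lit 2) [t2_23_23_s6, t2_23_23_s4, t2_23_23_s5, t2_23_23_s3, t2_23_23_s2] [(nat_lit 11, t2_23_23_s2, nat_lit 2), (nat_lit 20, t2_23_23_s6, nat_lit 11), (nat_lit 18, t2_23_23_s5, nat_lit 11), (nat_lit 5, t2_23_23_s3, nat_lit 11), (nat_lit 12, t2_23_23_s2, nat_lit 11), (nat_lit 19, t2_23_23_s6, nat_lit 20), (nat_lit 7, t2_23_23_s5, nat_lit 20), (nat_lit 8, t2_23_23_s3, nat_lit 20), (nat_lit 21, t2_23_23_s2, nat_lit 20), (nat_lit 15, t2_23_23_s6, nat_lit 18), (nat_lit 9, t2_23_23_s4, nat_lit 18), (nat_lit 17, t2_23_23_s3, nat_lit 18), (nat_lit 14, t2_23_23_s5, nat_lit 5), (nat_lit 10, t2_23_23_s2, nat_lit 5), (nat_lit 4, t2_23_23_s4,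 nat_lit 19), (nat_lit 16, t2_23_23_s5, nat_lit 19), (nat_lit 22, t2_23_23_s5, nat_lit 7), (nat_lit 6, t2_23_23_s2, nat_lit 7), (nat_lit 3, t2_23_23_s3, nat_lit 8), (nat_lit 13, t2_23_23_s3, nat_lit 21)]
noncomputable def t2_23_23_lev3 : Core.Lev := Core.mkLev m23_n m23_w m23_mask m23_L m23_maskL m23_idc (nat_lit 3) [t2_23_23_s6, t2_23_23_s4, t2_23_23_s5, t2_23_23_s3] [(nat_lit 7, t2_23_23_s3, nat_lit 3), (nat_lit 12, t2_23_23_s6, nat_lit 7), (nat_lit 16, t2_23_23_s4, nat_lit 7), (nat_lit 22, t2_23_23_s5, nat_lit 7), (nat_lit 10, t2_23_23_s6, nat_lit 12), (nat_lit 15, t2_23_23_s4, nat_lit 12), (nat_lit 11, t2_23_23_s5, nat_lit 12), (nat_lit 14, t2_23_23_s3, nat_lit 12), (nat_lit 13, t2_23_23_s6, nat_lit 22), (nat_lit 21, t2_23_23_s4, nat_lit 22), (nat_lit 20, t2_23_23_s5, nat_lit 22), (nat_lit 8, t2_23_23_s4, nat_lit 10), (nat_lit 6, t2_23_23_s5, nat_lit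 10), (nat_lit 18, t2_23_23_s3, nat_lit 10), (nat_lit 19, t2_23_23_s5, nat_lit 15), (nat_lit 5, t2_23_23_s3, nat_lit 11), (nat_lit 17, t2_23_23_s5, nat_lit 14), (nat_lit 9, t2_23_23_s3, nat_lit 13), (nat_lit 4, t2_23_23_s5, nat_lit 21)]
noncomputable def t2_23_23_lev4 : Core.Lev := Core.mkLev m23_n m23_w m23_mask m23_L m23_maskL m23_idc (nat_lit 4) [t2_23_23_s6, t2_23_23_s4, t2_23_23_s5] [(nat_lit 19, t2_23_23_s4, nat_lit 4), (nat_lit 9, t2_23_23_s5, nat_lit 4), (nat_lit 11, t2_23_23_s6, nat_lit 19), (nat_lit 16, t2_23_23_s5, nat_lit 19), (nat_lit 21, t2_23_23_s6, nat_lit 9), (nat_lit 18, t2_23_23_s4, nat_lit 9), (nat_lit 20, t2_23_23_s6, nat_lit 11), (nat_lit 22, t2_23_23_s6, nat_lit 16), (nat_lit 7, t2_23_23_s4, nat_lit 16), (nat_lit 15, t2_23_23_s5, nat_lit 16), (nat_lit 8, t2_23_23_s6, nat_lit 21), (nat_lit 12, t2_23_23_s5, nat_lit 18), (nat_lit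 13, t2_23_23_s6, nat_lit 22), (nat_lit 6, t2_23_23_s6, nat_lit 15), (nat_lit 10, t2_23_23_s4, nat_lit 8)]
noncomputable def t2_23_23_lev5 : Core.Lev := Core.mkLev m23_n m23_w m23_mask m23_L m23_maskL m23_idc (nat_lit 5) [t2_23_23_s6] [(nat_lit 17, t2_23_23_s6, nat_lit 5), (nat_lit 14, t2_23_23_s6, nat_lit 17)]
noncomputable def t2_23_23_levels : List Core.Lev := [t2_23_23_lev0, t2_23_23_lev1, t2_23_23_lev2, t2_23_23_lev3, t2_23_23_lev4, t2_23_23_lev5]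
theorem t2_23_23_ok : Core.checkAll m23_n m23_w m23_mask m23_L m23_maskL m23_idc [t2_23_23_X, t2_23_23_Y] t2_23_23_prog t2_23_23_levels = true := by decide +kernel
theorem t2_23_23_ord : Core.orderC t2_23_23_levels = 10200960 := by decide +kernel
theorem t2_23_23_tr : tripleOK 2 23 23 t2_23_23_X t2_23_23_Y = true := by decide +kernel
theorem wit_2_23_23 : WitP 2 23 23 := wit_of (by norm_num) (by norm_num) (by norm_num) t2_23_23_ok t2_23_23_ord t2_23_23_tr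

def t3_3_11_X : Nat := nat_lit 0xb9ac97ca0874da0a0571554ac188e4
def t3_3_11_Y : Nat := nat_lit 0xb9cd4b04707a6b2444a29b5c452d80
def t3_3_11_prog : List (Nat × Nat × Nat) := [(nat_lit 1, nat_lit 1, nat_lit 0), (nat_lit 1, nat_lit 1, nat_lit 0), (nat_lit 0, nat_lit 3, nat_lit 2), (nat_lit 0, nat_lit 0, nat_lit 4), (nat_lit 0, nat_lit 0, nat_lit 4), (nat_lit 0, nat_lit 0, nat_lit 5), (nat_lit 0, nat_lit 5, nat_lit 5), (nat_lit 0, nat_lit 0, nat_lit 1), (nat_lit 0, nat_lit 8, nat_lit 9), (nat_lit 0, nat_lit 0, nat_lit 10), (nat_lit 0, nat_lit 0, nat_lit 10), (nat_lit 0, nat_lit 0, nat_lit 12), (nat_lit 0, nat_lit 0, nat_lit 12), (nat_lit 0, nat_lit 0, nat_lit 13), (nat_lit 0, nat_lit 0, nat_lit 15), (nat_lit 0, nat_lit 0, nat_lit 15), (nat_lit 0, nat_lit 0, nat_lit 16), (nat_lit 0, nat_lit 10, nat_lit 15), (nat_lit 0, nat_lit 0, nat_lit 16), (nat_lit 0,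 nat_lit 0, nat_lit 2), (nat_lit 1, nat_lit 12, nat_lit 0), (nat_lit 1, nat_lit 1, nat_lit 0), (nat_lit 0, nat_lit 14, nat_lit 2), (nat_lit 0, nat_lit 0, nat_lit 15), (nat_lit 0, nat_lit 0, nat_lit 16), (nat_lit 0, nat_lit 0, nat_lit 17), (nat_lit 0, nat_lit 4, nat_lit 5), (nat_lit 0, nat_lit 0, nat_lit 6), (nat_lit 0, nat_lit 0, nat_lit 7), (nat_lit 0, nat_lit 0, nat_lit 3), (nat_lit 0, nat_lit 22, nat_lit 22), (nat_lit 0, nat_lit 0, nat_lit 11), (nat_lit 0, nat_lit 0, nat_lit 24), (nat_lit 0, nat_lit 0, nat_lit 25), (nat_lit 0, nat_lit 0, nat_lit 14), (nat_lit 0, nat_lit 0, nat_lit 15), (nat_lit 0, nat_lit 0, nat_lit 28), (nat_lit 0, nat_lit 0, nat_lit 17), (nat_lit 0, nat_lit 0, nat_lit 30), (nat_lit 0, nat_lit 10, nat_lit 17), (nat_lit 0, nat_lit 0, nat_lit 1), (nat_lit 1, nat_lit 11, nat_lit 0), (nat_lit 1, nat_lit 1, nat_lit 0), (nat_lit 0, nat_lit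 13, nat_lit 2), (nat_lit 0, nat_lit 0, nat_lit 14), (nat_lit 0, nat_lit 0, nat_lit 4), (nat_lit 0, nat_lit 0, nat_lit 16), (nat_lit 0, nat_lit 0, nat_lit 17), (nat_lit 0, nat_lit 0, nat_lit 7), (nat_lit 0, nat_lit 0, nat_lit 19), (nat_lit 0, nat_lit 0, nat_lit 9), (nat_lit 0, nat_lit 0, nat_lit 10), (nat_lit 0, nat_lit 0, nat_lit 22), (nat_lit 0, nat_lit 10, nat_lit 11), (nat_lit 0, nat_lit 0, nat_lit 12), (nat_lit 0, nat_lit 0, nat_lit 13), (nat_lit 0, nat_lit 0, nat_lit 14), (nat_lit 0, nat_lit 0, nat_lit 4), (nat_lit 0, nat_lit 17, nat_lit 17), (nat_lit 0, nat_lit 0, nat_lit 18), (nat_lit 0, nat_lit 0, nat_lit 30), (nat_lit 0, nat_lit 0, nat_lit 20), (nat_lit 0, nat_lit 0, nat_lit 32), (nat_lit 0, nat_lit 0, nat_lit 22), (nat_lit 0, nat_lit 0, nat_lit 23), (nat_lit 0, nat_lit 23, nat_lit 23), (nat_lit 0, nat_lit 0, nat_lit 1), (nat_lit 1, nat_lit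 9, nat_lit 0), (nat_lit 1, nat_lit 1, nat_lit 0), (nat_lit 0, nat_lit 11, nat_lit 2), (nat_lit 0, nat_lit 0, nat_lit 12), (nat_lit 0, nat_lit 0, nat_lit 4), (nat_lit 0, nat_lit 0, nat_lit 14), (nat_lit 0, nat_lit 0, nat_lit 15), (nat_lit 0, nat_lit 0, nat_lit 7), (nat_lit 0, nat_lit 0, nat_lit 8), (nat_lit 0, nat_lit 0, nat_lit 9), (nat_lit 0, nat_lit 9, nat_lit 9), (nat_lit 0, nat_lit 0, nat_lit 10), (nat_lit 0, nat_lit 0, nat_lit 2), (nat_lit 0, nat_lit 22, nat_lit 22), (nat_lit 0, nat_lit 0, nat_lit 14), (nat_lit 0, nat_lit 0, nat_lit 15), (nat_lit 0, nat_lit 0, nat_lit 25), (nat_lit 0, nat_lit 0, nat_lit 26), (nat_lit 0, nat_lit 0, nat_lit 27), (nat_lit 0, nat_lit 0, nat_lit 28), (nat_lit 0, nat_lit 0, nat_lit 29), (nat_lit 0, nat_lit 0, nat_lit 30), (nat_lit 0, nat_lit 0, nat_lit 22), (nat_lit 0, nat_lit 11, nat_lit 0), (nat_lit 0, nat_lit 24,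 nat_lit 24), (nat_lit 0, nat_lit 0, nat_lit 25), (nat_lit 0, nat_lit 0, nat_lit 35), (nat_lit 0, nat_lit 0, nat_lit 27), (nat_lit 0, nat_lit 0, nat_lit 37), (nat_lit 0, nat_lit 0, nat_lit 38), (nat_lit 0, nat_lit 0, nat_lit 30), (nat_lit 0, nat_lit 0, nat_lit 40), (nat_lit 0, nat_lit 21, nat_lit 30), (nat_lit 0, nat_lit 0, nat_lit 1), (nat_lit 1, nat_lit 21, nat_lit 0), (nat_lit 1, nat_lit 11, nat_lit 0), (nat_lit 1, nat_lit 2, nat_lit 0), (nat_lit 0, nat_lit 13, nat_lit 3), (nat_lit 0, nat_lit 0, nat_lit 4), (nat_lit 0, nat_lit 0, nat_lit 26), (nat_lit 0, nat_lit 0, nat_lit 6), (nat_lit 0, nat_lit 0, nat_lit 17), (nat_lit 0, nat_lit 0, nat_lit 18), (nat_lit 0, nat_lit 0, nat_lit 19), (nat_lit 0, nat_lit 0, nat_lit 20), (nat_lit 0, nat_lit 10, nat_lit 9), (nat_lit 0, nat_lit 0, nat_lit 9), (nat_lit 0, nat_lit 0, nat_lit 2)]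
def t3_3_11_s0 : Nat := nat_lit 0xb9ac97ca0874da0a0571554ac188e4
def t3_3_11_s1 : Nat := nat_lit 0xbccc543082a3ece49eab6861288d40
def t3_3_11_s2 : Nat := nat_lit 0xba59279d0b250a69b942b0e0d8d420
def t3_3_11_s3 : Nat := nat_lit 0xba1c78bdac9c24951ab41948bb0820
def t3_3_11_s4 : Nat := nat_lit 0xbb2c9819c8795753d1536923218820
def t3_3_11_s5 : Nat := nat_lit 0xbca0fb4dcb49507aaa862362c18820
def t3_3_11_s6 : Nat := nat_lit 0xbb5135bdd63160aa1ea964a2418820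
noncomputable def t3_3_11_lev0 : Core.Lev := Core.mkLev m23_n m23_w m23_mask m23_L m23_maskL m23_idc (nat_lit 0) [t3_3_11_s6, t3_3_11_s4, t3_3_11_s5, t3_3_11_s3, t3_3_11_s2, t3_3_11_s1, t3_3_11_s0] [(nat_lit 4, t3_3_11_s0, nat_lit 0), (nat_lit 18, t3_3_11_s4, nat_lit 4), (nat_lit 12, t3_3_11_s5, nat_lit 4), (nat_lit 11, t3_3_11_s3, nat_lit 4), (nat_lit 13, t3_3_11_s2, nat_lit 4), (nat_lit 15, t3_3_11_s6, nat_lit 18), (nat_lit 6, t3_3_11_s4, nat_lit 18), (nat_lit 19, t3_3_11_s5, nat_lit 18), (nat_lit 7, t3_3_11_s2, nat_lit 18), (nat_lit 10, t3_3_11_s6, nat_lit 12), (nat_lit 21, t3_3_11_s4, nat_lit 12), (nat_lit 9, t3_3_11_s3, nat_lit 12), (nat_lit 14, t3_3_11_s1, nat_lit 12), (nat_lit 20, t3_3_11_s6, nat_lit 11), (nat_lit 16, t3_3_11_s6, nat_lit 13), (nat_lit 8, t3_3_11_s5, nat_lit 13), (nat_lit 5, t3_3_11_s2, nat_lit 13), (nat_lit 22, t3_3_11_s1, nat_lit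 13), (nat_lit 3, t3_3_11_s2, nat_lit 6), (nat_lit 1, t3_3_11_s1, nat_lit 6), (nat_lit 17, t3_3_11_s3, nat_lit 19), (nat_lit 2, t3_3_11_s1, nat_lit 16)]
noncomputable def t3_3_11_lev1 : Core.Lev := Core.mkLev m23_n m23_w m23_mask m23_L m23_maskL m23_idc (nat_lit 1) [t3_3_11_s6, t3_3_11_s4, t3_3_11_s5, t3_3_11_s3, t3_3_11_s2, t3_3_11_s1] [(nat_lit 10, t3_3_11_s1, nat_lit 1), (nat_lit 7, t3_3_11_s6, nat_lit 10), (nat_lit 20, t3_3_11_s4, nat_lit 10), (nat_lit 6, t3_3_11_s3, nat_lit 10), (nat_lit 14, t3_3_11_s2, nat_lit 10), (nat_lit 12, t3_3_11_s6, nat_lit 7), (nat_lit 13, t3_3_11_s4, nat_lit 7), (nat_lit 4, t3_3_11_s5, nat_lit 7), (nat_lit 3, t3_3_11_s3, nat_lit 7), (nat_lit 22, t3_3_11_s2, nat_lit 7), (nat_lit 19, t3_3_11_s6, nat_lit 20), (nat_lit 9, t3_3_11_s4, nat_lit 20), (nat_lit 15, t3_3_11_s5, nat_lit 20), (nat_lit 18, t3_3_11_s2, nat_lit 20), (nat_lit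 5, t3_3_11_s1, nat_lit 20), (nat_lit 16, t3_3_11_s3, nat_lit 14), (nat_lit 21, t3_3_11_s4, nat_lit 12), (nat_lit 11, t3_3_11_s4, nat_lit 13), (nat_lit 8, t3_3_11_s5, nat_lit 13), (nat_lit 17, t3_3_11_s2, nat_lit 3), (nat_lit 2, t3_3_11_s1, nat_lit 16)]
noncomputable def t3_3_11_lev2 : Core.Lev := Core.mkLev m23_n m23_w m23_mask m23_L m23_maskL m23_idc (nat_lit 2) [t3_3_11_s6, t3_3_11_s4, t3_3_11_s5, t3_3_11_s3, t3_3_11_s2] [(nat_lit 21, t3_3_11_s2, nat_lit 2), (nat_lit 8, t3_3_11_s6, nat_lit 21), (nat_lit 22, t3_3_11_s4, nat_lit 21), (nat_lit 16, t3_3_11_s5, nat_lit 21), (nat_lit 14, t3_3_11_s3, nat_lit 21), (nat_lit 12, t3_3_11_s2, nat_lit 21), (nat_lit 9, t3_3_11_s6, nat_lit 8), (nat_lit 19, t3_3_11_s4, nat_lit 8), (nat_lit 6, t3_3_11_s5, nat_lit 8), (nat_lit 20, t3_3_11_s3, nat_lit 8), (nat_lit 13, t3_3_11_s6, nat_lit 22), (nat_lit 18, t3_3_11_s5,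 nat_lit 22), (nat_lit 11, t3_3_11_s5, nat_lit 16), (nat_lit 5, t3_3_11_s6, nat_lit 14), (nat_lit 10, t3_3_11_s6, nat_lit 12), (nat_lit 7, t3_3_11_s5, nat_lit 12), (nat_lit 17, t3_3_11_s3, nat_lit 19), (nat_lit 15, t3_3_11_s2, nat_lit 19), (nat_lit 4, t3_3_11_s4, nat_lit 6), (nat_lit 3, t3_3_11_s2, nat_lit 6)]
noncomputable def t3_3_11_lev3 : Core.Lev := Core.mkLev m23_n m23_w m23_mask m23_L m23_maskL m23_idc (nat_lit 3) [t3_3_11_s6, t3_3_11_s4, t3_3_11_s5, t3_3_11_s3] [(nat_lit 22, t3_3_11_s3, nat_lit 3), (nat_lit 13, t3_3_11_s6, nat_lit 22), (nat_lit 12, t3_3_11_s4, nat_lit 22), (nat_lit 18, t3_3_11_s5, nat_lit 22), (nat_lit 8, t3_3_11_s3, nat_lit 22), (nat_lit 16, t3_3_11_s6, nat_lit 13), (nat_lit 11, t3_3_11_s4, nat_lit 13), (nat_lit 10, t3_3_11_s6, nat_lit 12), (nat_lit 21, t3_3_11_s4, nat_lit 12), (nat_lit 7, t3_3_11_s5, nat_lit 12), (nat_lit 9,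 t3_3_11_s3, nat_lit 12), (nat_lit 15, t3_3_11_s6, nat_lit 18), (nat_lit 6, t3_3_11_s4, nat_lit 18), (nat_lit 19, t3_3_11_s5, nat_lit 18), (nat_lit 20, t3_3_11_s3, nat_lit 8), (nat_lit 14, t3_3_11_s3, nat_lit 21), (nat_lit 4, t3_3_11_s5, nat_lit 7), (nat_lit 5, t3_3_11_s3, nat_lit 6), (nat_lit 17, t3_3_11_s3, nat_lit 19)]
noncomputable def t3_3_11_lev4 : Core.Lev := Core.mkLev m23_n m23_w m23_mask m23_L m23_maskL m23_idc (nat_lit 4) [t3_3_11_s6, t3_3_11_s4, t3_3_11_s5] [(nat_lit 18, t3_3_11_s4, nat_lit 4), (nat_lit 12, t3_3_11_s5, nat_lit 4), (nat_lit 15, t3_3_11_s6, nat_lit 18), (nat_lit 6, t3_3_11_s4, nat_lit 18), (nat_lit 19, t3_3_11_s5, nat_lit 18), (nat_lit 10, t3_3_11_s6, nat_lit 12), (nat_lit 21, t3_3_11_s4, nat_lit 12), (nat_lit 7, t3_3_11_s5, nat_lit 12), (nat_lit 9, t3_3_11_s5, nat_lit 15), (nat_lit 13, t3_3_11_s5, nat_lit 6), (nat_lit 11,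 t3_3_11_s6, nat_lit 19), (nat_lit 16, t3_3_11_s4, nat_lit 19), (nat_lit 22, t3_3_11_s5, nat_lit 19), (nat_lit 20, t3_3_11_s4, nat_lit 10), (nat_lit 8, t3_3_11_s6, nat_lit 21)]
noncomputable def t3_3_11_lev5 : Core.Lev := Core.mkLev m23_n m23_w m23_mask m23_L m23_maskL m23_idc (nat_lit 5) [t3_3_11_s6] [(nat_lit 17, t3_3_11_s6, nat_lit 5), (nat_lit 14, t3_3_11_s6, nat_lit 17)]
noncomputable def t3_3_11_levels : List Core.Lev := [t3_3_11_lev0, t3_3_11_lev1, t3_3_11_lev2, t3_3_11_lev3, t3_3_11_lev4, t3_3_11_lev5]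
theorem t3_3_11_ok : Core.checkAll m23_n m23_w m23_mask m23_L m23_maskL m23_idc [t3_3_11_X, t3_3_11_Y] t3_3_11_prog t3_3_11_levels = true := by decide +kernel
theorem t3_3_11_ord : Core.orderC t3_3_11_levels = 10200960 := by decide +kernel
theorem t3_3_11_tr : tripleOK 3 3 11 t3_3_11_X t3_3_11_Y = true := by decide +kernel
theorem wit_3_3_11 : WitP 3 3 11 := wit_of (by norm_num) (by norm_num) (by norm_num) t3_3_11_ok t3_3_11_ord t3_3_11_tr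

def t3_3_23_X : Nat := nat_lit 0xb9ac97ca0874da0a0571554ac188e4
def t3_3_23_Y : Nat := nat_lit 0xbda510b4aa5baaf60a6838e8624120
def t3_3_23_prog : List (Nat × Nat × Nat) := [(nat_lit 1, nat_lit 1, nat_lit 0), (nat_lit 1, nat_lit 1, nat_lit 0), (nat_lit 0, nat_lit 3, nat_lit 2), (nat_lit 0, nat_lit 0, nat_lit 4), (nat_lit 0, nat_lit 0, nat_lit 4), (nat_lit 0, nat_lit 0, nat_lit 5), (nat_lit 0, nat_lit 5, nat_lit 4), (nat_lit 0, nat_lit 0, nat_lit 6), (nat_lit 0, nat_lit 0, nat_lit 2), (nat_lit 0, nat_lit 9, nat_lit 10), (nat_lit 0, nat_lit 0, nat_lit 11), (nat_lit 0, nat_lit 0, nat_lit 11), (nat_lit 0, nat_lit 0, nat_lit 13), (nat_lit 0, nat_lit 0, nat_lit 13), (nat_lit 0, nat_lit 0, nat_lit 14), (nat_lit 0, nat_lit 0, nat_lit 16), (nat_lit 0, nat_lit 0, nat_lit 16), (nat_lit 0, nat_lit 0, nat_lit 17), (nat_lit 0, nat_lit 14, nat_lit 19), (nat_lit 0,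 nat_lit 0, nat_lit 20), (nat_lit 0, nat_lit 19, nat_lit 0), (nat_lit 0, nat_lit 22, nat_lit 22), (nat_lit 0, nat_lit 0, nat_lit 22), (nat_lit 0, nat_lit 0, nat_lit 24), (nat_lit 0, nat_lit 0, nat_lit 25), (nat_lit 0, nat_lit 0, nat_lit 25), (nat_lit 0, nat_lit 0, nat_lit 26), (nat_lit 0, nat_lit 0, nat_lit 28), (nat_lit 0, nat_lit 0, nat_lit 28), (nat_lit 0, nat_lit 0, nat_lit 30), (nat_lit 0, nat_lit 23, nat_lit 0), (nat_lit 1, nat_lit 22, nat_lit 0), (nat_lit 1, nat_lit 14, nat_lit 0), (nat_lit 1, nat_lit 12, nat_lit 0), (nat_lit 1, nat_lit 3, nat_lit 0), (nat_lit 0, nat_lit 17, nat_lit 14), (nat_lit 0, nat_lit 0, nat_lit 27), (nat_lit 0, nat_lit 0, nat_lit 6), (nat_lit 0, nat_lit 0, nat_lit 29), (nat_lit 0, nat_lit 0, nat_lit 21), (nat_lit 0, nat_lit 0, nat_lit 19), (nat_lit 0, nat_lit 0, nat_lit 32), (nat_lit 0, nat_lit 0, nat_lit 21), (nat_lit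 0, nat_lit 0, nat_lit 12), (nat_lit 0, nat_lit 0, nat_lit 26), (nat_lit 0, nat_lit 12, nat_lit 10), (nat_lit 0, nat_lit 0, nat_lit 12), (nat_lit 0, nat_lit 0, nat_lit 2), (nat_lit 0, nat_lit 27, nat_lit 17), (nat_lit 0, nat_lit 0, nat_lit 18), (nat_lit 0, nat_lit 0, nat_lit 41), (nat_lit 0, nat_lit 0, nat_lit 20), (nat_lit 0, nat_lit 0, nat_lit 34), (nat_lit 0, nat_lit 0, nat_lit 22), (nat_lit 0, nat_lit 0, nat_lit 23), (nat_lit 0, nat_lit 22, nat_lit 22), (nat_lit 0, nat_lit 0, nat_lit 21), (nat_lit 0, nat_lit 0, nat_lit 25), (nat_lit 0, nat_lit 0, nat_lit 3), (nat_lit 1, nat_lit 11, nat_lit 0), (nat_lit 1, nat_lit 1, nat_lit 0), (nat_lit 0, nat_lit 13, nat_lit 2), (nat_lit 0, nat_lit 0, nat_lit 14), (nat_lit 0, nat_lit 0, nat_lit 4), (nat_lit 0, nat_lit 0, nat_lit 16), (nat_lit 0, nat_lit 0, nat_lit 17), (nat_lit 0, nat_lit 0, nat_lit 7), (nat_lit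 0, nat_lit 0, nat_lit 8), (nat_lit 0, nat_lit 0, nat_lit 9), (nat_lit 0, nat_lit 9, nat_lit 9), (nat_lit 0, nat_lit 0, nat_lit 9), (nat_lit 0, nat_lit 0, nat_lit 11), (nat_lit 0, nat_lit 0, nat_lit 12), (nat_lit 0, nat_lit 0, nat_lit 4), (nat_lit 0, nat_lit 26, nat_lit 26), (nat_lit 0, nat_lit 0, nat_lit 16), (nat_lit 0, nat_lit 0, nat_lit 17), (nat_lit 0, nat_lit 0, nat_lit 29), (nat_lit 0, nat_lit 0, nat_lit 30), (nat_lit 0, nat_lit 0, nat_lit 31), (nat_lit 0, nat_lit 0, nat_lit 32), (nat_lit 0, nat_lit 0, nat_lit 33), (nat_lit 0, nat_lit 0, nat_lit 34), (nat_lit 0, nat_lit 0, nat_lit 24), (nat_lit 0, nat_lit 24, nat_lit 0), (nat_lit 0, nat_lit 26, nat_lit 26), (nat_lit 0, nat_lit 0, nat_lit 27), (nat_lit 0, nat_lit 0, nat_lit 39), (nat_lit 0, nat_lit 0, nat_lit 29), (nat_lit 0, nat_lit 0, nat_lit 41), (nat_lit 0, nat_lit 0, nat_lit 42), (nat_lit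 0, nat_lit 0, nat_lit 32), (nat_lit 0, nat_lit 0, nat_lit 44), (nat_lit 0, nat_lit 22, nat_lit 0), (nat_lit 0, nat_lit 31, nat_lit 46), (nat_lit 0, nat_lit 0, nat_lit 47), (nat_lit 0, nat_lit 0, nat_lit 48), (nat_lit 0, nat_lit 0, nat_lit 38), (nat_lit 0, nat_lit 0, nat_lit 50), (nat_lit 0, nat_lit 0, nat_lit 40), (nat_lit 0, nat_lit 0, nat_lit 52), (nat_lit 0, nat_lit 0, nat_lit 42), (nat_lit 0, nat_lit 0, nat_lit 54), (nat_lit 0, nat_lit 42, nat_lit 42), (nat_lit 0, nat_lit 0, nat_lit 43), (nat_lit 0, nat_lit 0, nat_lit 2), (nat_lit 1, nat_lit 32, nat_lit 0), (nat_lit 1, nat_lit 13, nat_lit 0), (nat_lit 0, nat_lit 23, nat_lit 14), (nat_lit 0, nat_lit 0, nat_lit 35), (nat_lit 0, nat_lit 0, nat_lit 25), (nat_lit 0, nat_lit 0, nat_lit 26), (nat_lit 0, nat_lit 0, nat_lit 18), (nat_lit 0, nat_lit 0, nat_lit 28), (nat_lit 0, nat_lit 0, nat_lit 20), (nat_lit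 0, nat_lit 0, nat_lit 21), (nat_lit 0, nat_lit 8, nat_lit 0), (nat_lit 0, nat_lit 11, nat_lit 11), (nat_lit 0, nat_lit 0, nat_lit 12), (nat_lit 0, nat_lit 0, nat_lit 45), (nat_lit 0, nat_lit 0, nat_lit 46), (nat_lit 0, nat_lit 0, nat_lit 27), (nat_lit 0, nat_lit 0, nat_lit 16), (nat_lit 0, nat_lit 0, nat_lit 29), (nat_lit 0, nat_lit 0, nat_lit 18), (nat_lit 0, nat_lit 18, nat_lit 18), (nat_lit 0, nat_lit 0, nat_lit 1), (nat_lit 0, nat_lit 42, nat_lit 53), (nat_lit 0, nat_lit 0, nat_lit 34), (nat_lit 0, nat_lit 0, nat_lit 44), (nat_lit 0, nat_lit 0, nat_lit 24), (nat_lit 0, nat_lit 0, nat_lit 57), (nat_lit 0, nat_lit 0, nat_lit 47), (nat_lit 0, nat_lit 0, nat_lit 59), (nat_lit 0, nat_lit 8, nat_lit 0), (nat_lit 1, nat_lit 18, nat_lit 0), (nat_lit 1, nat_lit 9, nat_lit 0), (nat_lit 1, nat_lit 2, nat_lit 0), (nat_lit 0, nat_lit 1, nat_lit 0), (nat_lit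 0, nat_lit 22, nat_lit 4), (nat_lit 0, nat_lit 0, nat_lit 5), (nat_lit 0, nat_lit 0, nat_lit 14), (nat_lit 0, nat_lit 0, nat_lit 7), (nat_lit 0, nat_lit 0, nat_lit 8), (nat_lit 0, nat_lit 0, nat_lit 17), (nat_lit 0, nat_lit 0, nat_lit 28), (nat_lit 0, nat_lit 0, nat_lit 11), (nat_lit 0, nat_lit 0, nat_lit 20), (nat_lit 0, nat_lit 9, nat_lit 12), (nat_lit 0, nat_lit 0, nat_lit 1)]
def t3_3_23_s0 : Nat := nat_lit 0xb9ac97ca0874da0a0571554ac188e4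
def t3_3_23_s1 : Nat := nat_lit 0xbd9a54d68263a4b7c0283922332a60
def t3_3_23_s2 : Nat := nat_lit 0xb9e2891695b0cca639306bc825cc20
def t3_3_23_s3 : Nat := nat_lit 0xb9d855be13758d448e2a9209568820
def t3_3_23_s4 : Nat := nat_lit 0xbbd8459e29b39559b606920b418820
def t3_3_23_s5 : Nat := nat_lit 0xbb4c93ae2453ac893e8c9d4b018820
def t3_3_23_s6 : Nat := nat_lit 0xbc12ba18ad946c79b11553dc418820
noncomputable def t3_3_23_lev0 : Core.Lev := Core.mkLev m23_n m23_w m23_mask m23_L m23_maskL m23_idc (nat_lit 0) [t3_3_23_s6, t3_3_23_s4, t3_3_23_s5, t3_3_23_s3, t3_3_23_s2, t3_3_23_s1, t3_3_23_s0] [(nat_lit 4, t3_3_23_s0, nat_lit 0), (nat_lit 20, t3_3_23_s4, nat_lit 4), (nat_lit 16, t3_3_23_s5, nat_lit 4), (nat_lit 21, t3_3_23_s3, nat_lit 4), (nat_lit 2, t3_3_23_s2, nat_lit 4), (nat_lit 3, t3_3_23_s1, nat_lit 4), (nat_lit 12, t3_3_23_s0, nat_lit 4), (nat_lit 11, t3_3_23_s6,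 nat_lit 20), (nat_lit 9, t3_3_23_s5, nat_lit 20), (nat_lit 5, t3_3_23_s3, nat_lit 20), (nat_lit 8, t3_3_23_s2, nat_lit 20), (nat_lit 13, t3_3_23_s6, nat_lit 16), (nat_lit 19, t3_3_23_s3, nat_lit 16), (nat_lit 6, t3_3_23_s5, nat_lit 21), (nat_lit 17, t3_3_23_s2, nat_lit 21), (nat_lit 22, t3_3_23_s0, nat_lit 21), (nat_lit 10, t3_3_23_s1, nat_lit 2), (nat_lit 7, t3_3_23_s6, nat_lit 12), (nat_lit 18, t3_3_23_s5, nat_lit 11), (nat_lit 15, t3_3_23_s1, nat_lit 11), (nat_lit 1, t3_3_23_s1, nat_lit 9), (nat_lit 14, t3_3_23_s6, nat_lit 5)]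
noncomputable def t3_3_23_lev1 : Core.Lev := Core.mkLev m23_n m23_w m23_mask m23_L m23_maskL m23_idc (nat_lit 1) [t3_3_23_s6, t3_3_23_s4, t3_3_23_s5, t3_3_23_s3, t3_3_23_s2, t3_3_23_s1] [(nat_lit 19, t3_3_23_s1, nat_lit 1), (nat_lit 20, t3_3_23_s6, nat_lit 19), (nat_lit 11, t3_3_23_s4, nat_lit 19), (nat_lit 7, t3_3_23_s5, nat_lit 19), (nat_lit 18, t3_3_23_s2, nat_lit 19), (nat_lit 9, t3_3_23_s1, nat_lit 19), (nat_lit 4, t3_3_23_s4, nat_lit 20), (nat_lit 5, t3_3_23_s3, nat_lit 20), (nat_lit 8, t3_3_23_s2, nat_lit 20), (nat_lit 12, t3_3_23_s2, nat_lit 11), (nat_lit 15, t3_3_23_s1, nat_lit 11), (nat_lit 10, t3_3_23_s6, nat_lit 7), (nat_lit 13, t3_3_23_s2, nat_lit 7), (nat_lit 6, t3_3_23_s6, nat_lit 18), (nat_lit 21, t3_3_23_s1, nat_lit 18), (nat_lit 16, t3_3_23_s4, nat_lit 9), (nat_lit 17, t3_3_23_s3, nat_lit 9), (nat_lit 2, t3_3_23_s2, nat_lit 4), (nat_lit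 3, t3_3_23_s1, nat_lit 4), (nat_lit 14, t3_3_23_s6, nat_lit 5), (nat_lit 22, t3_3_23_s4, nat_lit 15)]
noncomputable def t3_3_23_lev2 : Core.Lev := Core.mkLev m23_n m23_w m23_mask m23_L m23_maskL m23_idc (nat_lit 2) [t3_3_23_s6, t3_3_23_s4, t3_3_23_s5, t3_3_23_s3, t3_3_23_s2] [(nat_lit 19, t3_3_23_s2, nat_lit 2), (nat_lit 20, t3_3_23_s6, nat_lit 19), (nat_lit 11, t3_3_23_s4, nat_lit 19), (nat_lit 7, t3_3_23_s5, nat_lit 19), (nat_lit 18, t3_3_23_s2, nat_lit 19), (nat_lit 4, t3_3_23_s4, nat_lit 20), (nat_lit 9, t3_3_23_s5, nat_lit 20), (nat_lit 5, t3_3_23_s3, nat_lit 20), (nat_lit 8, t3_3_23_s2, nat_lit 20), (nat_lit 12, t3_3_23_s2, nat_lit 11), (nat_lit 10, t3_3_23_s6, nat_lit 7), (nat_lit 13, t3_3_23_s2, nat_lit 7), (nat_lit 6, t3_3_23_s6, nat_lit 18), (nat_lit 15, t3_3_23_s3, nat_lit 18), (nat_lit 16, t3_3_23_s5, nat_lit 4), (nat_lit 21, t3_3_23_s3,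 nat_lit 4), (nat_lit 17, t3_3_23_s3, nat_lit 9), (nat_lit 14, t3_3_23_s6, nat_lit 5), (nat_lit 3, t3_3_23_s3, nat_lit 10), (nat_lit 22, t3_3_23_s6, nat_lit 13)]
noncomputable def t3_3_23_lev3 : Core.Lev := Core.mkLev m23_n m23_w m23_mask m23_L m23_maskL m23_idc (nat_lit 3) [t3_3_23_s6, t3_3_23_s4, t3_3_23_s5, t3_3_23_s3] [(nat_lit 13, t3_3_23_s3, nat_lit 3), (nat_lit 22, t3_3_23_s6, nat_lit 13), (nat_lit 10, t3_3_23_s4, nat_lit 13), (nat_lit 6, t3_3_23_s3, nat_lit 13), (nat_lit 16, t3_3_23_s6, nat_lit 22), (nat_lit 15, t3_3_23_s4, nat_lit 22), (nat_lit 7, t3_3_23_s3, nat_lit 22), (nat_lit 12, t3_3_23_s6, nat_lit 10), (nat_lit 8, t3_3_23_s4, nat_lit 6), (nat_lit 21, t3_3_23_s5, nat_lit 6), (nat_lit 9, t3_3_23_s4, nat_lit 16), (nat_lit 4, t3_3_23_s5, nat_lit 16), (nat_lit 19, t3_3_23_s3, nat_lit 16), (nat_lit 18, t3_3_23_s6, nat_lit 15), (nat_lit 14,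 t3_3_23_s3, nat_lit 15), (nat_lit 20, t3_3_23_s3, nat_lit 12), (nat_lit 17, t3_3_23_s3, nat_lit 9), (nat_lit 11, t3_3_23_s4, nat_lit 19), (nat_lit 5, t3_3_23_s3, nat_lit 20)]
noncomputable def t3_3_23_lev4 : Core.Lev := Core.mkLev m23_n m23_w m23_mask m23_L m23_maskL m23_idc (nat_lit 4) [t3_3_23_s6, t3_3_23_s4, t3_3_23_s5] [(nat_lit 20, t3_3_23_s4, nat_lit 4), (nat_lit 16, t3_3_23_s5, nat_lit 4), (nat_lit 11, t3_3_23_s6, nat_lit 20), (nat_lit 9, t3_3_23_s5, nat_lit 20), (nat_lit 13, t3_3_23_s6, nat_lit 16), (nat_lit 19, t3_3_23_s6, nat_lit 11), (nat_lit 18, t3_3_23_s5, nat_lit 11), (nat_lit 8, t3_3_23_s6, nat_lit 9), (nat_lit 22, t3_3_23_s6, nat_lit 13), (nat_lit 10, t3_3_23_s4, nat_lit 13), (nat_lit 7, t3_3_23_s5, nat_lit 19), (nat_lit 6, t3_3_23_s6, nat_lit 18), (nat_lit 21, t3_3_23_s6, nat_lit 8), (nat_lit 12, t3_3_23_s5, nat_lit 8), (nat_lit 15,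 t3_3_23_s4, nat_lit 22)]
noncomputable def t3_3_23_lev5 : Core.Lev := Core.mkLev m23_n m23_w m23_mask m23_L m23_maskL m23_idc (nat_lit 5) [t3_3_23_s6] [(nat_lit 14, t3_3_23_s6, nat_lit 5), (nat_lit 17, t3_3_23_s6, nat_lit 14)]
noncomputable def t3_3_23_levels : List Core.Lev := [t3_3_23_lev0, t3_3_23_lev1, t3_3_23_lev2, t3_3_23_lev3, t3_3_23_lev4, t3_3_23_lev5]
theorem t3_3_23_ok : Core.checkAll m23_n m23_w m23_mask m23_L m23_maskL m23_idc [t3_3_23_X, t3_3_23_Y] t3_3_23_prog t3_3_23_levels = true := by decide +kernel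
theorem t3_3_23_ord : Core.orderC t3_3_23_levels = 10200960 := by decide +kernel
theorem t3_3_23_tr : tripleOK 3 3 23 t3_3_23_X t3_3_23_Y = true := by decide +kernel
theorem wit_3_3_23 : WitP 3 3 23 := wit_of (by norm_num) (by norm_num) (by norm_num) t3_3_23_ok t3_3_23_ord t3_3_23_tr

end Cfsg.Agent.Lib.M23Triples.Cert0
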