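import Cfsg.Agent.Lib.M23Triples.Wit

/-!
# Certificates of generation, part 1
-/

set_option autoImplicit false

namespace Cfsg.Agent.Lib.M23Triples.Cert1

open Cfsg.Agent.Lib.PermComp Cfsg.Agent.Lib.PermComp.Mathieu.CertM23 Cfsg.Agent.Lib.M23Triples.Wit

def t3_5_5_X : Nat := nat_lit 0xb9ac97ca0874da0a0571554ac188e4
def t3_5_5_Y : Nat := nat_lit 0xb8ccb440a97d66c0095609e846c9d1
def t3_5_5_prog : List (Nat × Nat × Nat) := [(nat_lit 1, nat_lit 1, nat_lit 0), (nat_lit 1, nat_lit 1, nat_lit 0), (nat_lit 0, nat_lit 3, nat_lit 2), (nat_lit 0, nat_lit 0, nat_lit 4), (nat_lit 0, nat_lit 0, nat_lit 4), (nat_lit 0, nat_lit 0, nat_lit 5), (nat_lit 0, nat_lit 4, nat_lit 5), (nat_lit 0, nat_lit 0, nat_lit 5), (nat_lit 0, nat_lit 0, nat_lit 2), (nat_lit 0, nat_lit 9, nat_lit 10), (nat_lit 0, nat_lit 0, nat_lit 11), (nat_lit 0, nat_lit 0, nat_lit 11), (nat_lit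 0, nat_lit 0, nat_lit 13), (nat_lit 0, nat_lit 0, nat_lit 13), (nat_lit 0, nat_lit 0, nat_lit 14), (nat_lit 0, nat_lit 0, nat_lit 16), (nat_lit 0, nat_lit 0, nat_lit 16), (nat_lit 0, nat_lit 0, nat_lit 17), (nat_lit 0, nat_lit 10, nat_lit 16), (nat_lit 0, nat_lit 0, nat_lit 1), (nat_lit 1, nat_lit 11, nat_lit 0), (nat_lit 1, nat_lit 1, nat_lit 0), (nat_lit 0, nat_lit 13, nat_lit 2), (nat_lit 0, nat_lit 0, nat_lit 14), (nat_lit 0, nat_lit 3, nat_lit 3), (nat_lit 0, nat_lit 0, nat_lit 4), (nat_lit 0, nat_lit 17, nat_lit 17), (nat_lit 0, nat_lit 0, nat_lit 7), (nat_lit 0, nat_lit 0, nat_lit 19), (nat_lit 0, nat_lit 0, nat_lit 20), (nat_lit 0, nat_lit 0, nat_lit 10), (nat_lit 0, nat_lit 0, nat_lit 11), (nat_lit 0, nat_lit 0, nat_lit 23), (nat_lit 0, nat_lit 0, nat_lit 13), (nat_lit 0, nat_lit 0, nat_lit 25), (nat_lit 0, nat_lit 13, nat_lit 14), (nat_lit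 0, nat_lit 0, nat_lit 1), (nat_lit 0, nat_lit 13, nat_lit 17), (nat_lit 0, nat_lit 0, nat_lit 29), (nat_lit 0, nat_lit 0, nat_lit 30), (nat_lit 0, nat_lit 0, nat_lit 20), (nat_lit 0, nat_lit 0, nat_lit 32), (nat_lit 0, nat_lit 0, nat_lit 22), (nat_lit 0, nat_lit 0, nat_lit 23), (nat_lit 0, nat_lit 0, nat_lit 35), (nat_lit 0, nat_lit 19, nat_lit 24), (nat_lit 0, nat_lit 0, nat_lit 24), (nat_lit 0, nat_lit 0, nat_lit 2), (nat_lit 1, nat_lit 11, nat_lit 0), (nat_lit 1, nat_lit 1, nat_lit 0), (nat_lit 0, nat_lit 2, nat_lit 2), (nat_lit 0, nat_lit 0, nat_lit 3), (nat_lit 0, nat_lit 0, nat_lit 15), (nat_lit 0, nat_lit 0, nat_lit 5), (nat_lit 0, nat_lit 0, nat_lit 17), (nat_lit 0, nat_lit 0, nat_lit 7), (nat_lit 0, nat_lit 0, nat_lit 8), (nat_lit 0, nat_lit 8, nat_lit 7), (nat_lit 0, nat_lit 0, nat_lit 9), (nat_lit 0, nat_lit 0, nat_lit 2), (nat_lit 0,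 nat_lit 23, nat_lit 12), (nat_lit 0, nat_lit 0, nat_lit 24), (nat_lit 0, nat_lit 0, nat_lit 14), (nat_lit 0, nat_lit 0, nat_lit 26), (nat_lit 0, nat_lit 0, nat_lit 27), (nat_lit 0, nat_lit 0, nat_lit 17), (nat_lit 0, nat_lit 0, nat_lit 18), (nat_lit 0, nat_lit 0, nat_lit 19), (nat_lit 0, nat_lit 10, nat_lit 18), (nat_lit 0, nat_lit 0, nat_lit 20), (nat_lit 0, nat_lit 0, nat_lit 21), (nat_lit 0, nat_lit 0, nat_lit 3), (nat_lit 0, nat_lit 35, nat_lit 35), (nat_lit 0, nat_lit 0, nat_lit 25), (nat_lit 0, nat_lit 0, nat_lit 26), (nat_lit 0, nat_lit 0, nat_lit 38), (nat_lit 0, nat_lit 0, nat_lit 39), (nat_lit 0, nat_lit 0, nat_lit 40), (nat_lit 0, nat_lit 0, nat_lit 41), (nat_lit 0, nat_lit 0, nat_lit 42), (nat_lit 0, nat_lit 0, nat_lit 43), (nat_lit 0, nat_lit 0, nat_lit 33), (nat_lit 0, nat_lit 33, nat_lit 33), (nat_lit 0, nat_lit 0, nat_lit 33), (nat_lit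 0, nat_lit 0, nat_lit 2), (nat_lit 1, nat_lit 13, nat_lit 0), (nat_lit 1, nat_lit 1, nat_lit 0), (nat_lit 1, nat_lit 27, nat_lit 0), (nat_lit 0, nat_lit 28, nat_lit 3), (nat_lit 0, nat_lit 0, nat_lit 4), (nat_lit 0, nat_lit 0, nat_lit 30), (nat_lit 0, nat_lit 0, nat_lit 6), (nat_lit 0, nat_lit 0, nat_lit 7), (nat_lit 0, nat_lit 0, nat_lit 33), (nat_lit 0, nat_lit 0, nat_lit 22), (nat_lit 0, nat_lit 0, nat_lit 35), (nat_lit 0, nat_lit 0, nat_lit 24), (nat_lit 0, nat_lit 11, nat_lit 10), (nat_lit 0, nat_lit 0, nat_lit 11), (nat_lit 0, nat_lit 0, nat_lit 11), (nat_lit 0, nat_lit 0, nat_lit 3), (nat_lit 0, nat_lit 29, nat_lit 41), (nat_lit 0, nat_lit 0, nat_lit 17), (nat_lit 0, nat_lit 0, nat_lit 31), (nat_lit 0, nat_lit 0, nat_lit 32), (nat_lit 0, nat_lit 0, nat_lit 33), (nat_lit 0, nat_lit 0, nat_lit 34), (nat_lit 0, nat_lit 0, nat_lit 35), (nat_lit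 0, nat_lit 0, nat_lit 48), (nat_lit 0, nat_lit 0, nat_lit 24), (nat_lit 0, nat_lit 0, nat_lit 25), (nat_lit 0, nat_lit 0, nat_lit 26), (nat_lit 0, nat_lit 26, nat_lit 26), (nat_lit 0, nat_lit 0, nat_lit 26), (nat_lit 0, nat_lit 0, nat_lit 26), (nat_lit 0, nat_lit 0, nat_lit 29), (nat_lit 0, nat_lit 0, nat_lit 4), (nat_lit 0, nat_lit 32, nat_lit 45), (nat_lit 0, nat_lit 0, nat_lit 33), (nat_lit 0, nat_lit 0, nat_lit 59), (nat_lit 0, nat_lit 0, nat_lit 60), (nat_lit 0, nat_lit 0, nat_lit 36), (nat_lit 0, nat_lit 0, nat_lit 62), (nat_lit 0, nat_lit 0, nat_lit 38), (nat_lit 0, nat_lit 0, nat_lit 39), (nat_lit 0, nat_lit 27, nat_lit 37), (nat_lit 0, nat_lit 0, nat_lit 1), (nat_lit 1, nat_lit 10, nat_lit 0), (nat_lit 1, nat_lit 1, nat_lit 0), (nat_lit 0, nat_lit 28, nat_lit 28), (nat_lit 0, nat_lit 0, nat_lit 13), (nat_lit 0, nat_lit 0, nat_lit 30), (nat_lit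 0, nat_lit 0, nat_lit 15), (nat_lit 0, nat_lit 5, nat_lit 4), (nat_lit 0, nat_lit 0, nat_lit 1)]
def t3_5_5_s0 : Nat := nat_lit 0xb9ac97ca0874da0a0571554ac188e4
def t3_5_5_s1 : Nat := nat_lit 0xbb4c42ace393e62a0556622304d5c0
def t3_5_5_s2 : Nat := nat_lit 0xbd52333e12589c5452678b2ca69020
def t3_5_5_s3 : Nat := nat_lit 0xbda261c9243be0b44eac7168d50820
def t3_5_5_s4 : Nat := nat_lit 0xbae957b6289ba44b1cd0524ac18820
def t3_5_5_s5 : Nat := nat_lit 0xbc8e49a8a884589a59af355cb18820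
def t3_5_5_s6 : Nat := nat_lit 0xbb5135bdd63160aa1ea964a2418820
noncomputable def t3_5_5_lev0 : Core.Lev := Core.mkLev m23_n m23_w m23_mask m23_L m23_maskL m23_idc (nat_lit 0) [t3_5_5_s6, t3_5_5_s4, t3_5_5_s5, t3_5_5_s3, t3_5_5_s2, t3_5_5_s1, t3_5_5_s0] [(nat_lit 4, t3_5_5_s0, nat_lit 0), (nat_lit 12, t3_5_5_s4, nat_lit 4), (nat_lit 11, t3_5_5_s5, nat_lit 4), (nat_lit 13, t3_5_5_s3, nat_lit 4), (nat_lit 10, t3_5_5_s2, nat_lit 4), (nat_lit 16, t3_5_5_s1, nat_lit 4), (nat_lit 9, t3_5_5_s5, nat_lit 12), (nat_lit 5, t3_5_5_s2, nat_lit 12), (nat_lit 2, t3_5_5_s1, nat_lit 12), (nat_lit 20, t3_5_5_s6, nat_lit 11), (nat_lit 22, t3_5_5_s4, nat_lit 11), (nat_lit 8, t3_5_5_s3, nat_lit 11), (nat_lit 18, t3_5_5_s4, nat_lit 13), (nat_lit 14, t3_5_5_s2, nat_lit 13), (nat_lit 19, t3_5_5_s1, nat_lit 13), (nat_lit 7, t3_5_5_s6, nat_lit 10), (nat_lit 1, t3_5_5_s1,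 nat_lit 10), (nat_lit 3, t3_5_5_s1, nat_lit 16), (nat_lit 21, t3_5_5_s6, nat_lit 9), (nat_lit 6, t3_5_5_s4, nat_lit 9), (nat_lit 17, t3_5_5_s6, nat_lit 5), (nat_lit 15, t3_5_5_s5, nat_lit 8)]
noncomputable def t3_5_5_lev1 : Core.Lev := Core.mkLev m23_n m23_w m23_mask m23_L m23_maskL m23_idc (nat_lit 1) [t3_5_5_s6, t3_5_5_s4, t3_5_5_s5, t3_5_5_s3, t3_5_5_s2, t3_5_5_s1] [(nat_lit 14, t3_5_5_s1, nat_lit 1), (nat_lit 5, t3_5_5_s6, nat_lit 14), (nat_lit 17, t3_5_5_s5, nat_lit 14), (nat_lit 15, t3_5_5_s3, nat_lit 14), (nat_lit 2, t3_5_5_s2, nat_lit 14), (nat_lit 20, t3_5_5_s3, nat_lit 5), (nat_lit 22, t3_5_5_s2, nat_lit 5), (nat_lit 9, t3_5_5_s3, nat_lit 17), (nat_lit 16, t3_5_5_s2, nat_lit 17), (nat_lit 7, t3_5_5_s1, nat_lit 17), (nat_lit 6, t3_5_5_s6, nat_lit 15), (nat_lit 19, t3_5_5_s4, nat_lit 15), (nat_lit 11, t3_5_5_s2, nat_lit 15), (nat_lit 18,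 t3_5_5_s1, nat_lit 15), (nat_lit 4, t3_5_5_s2, nat_lit 2), (nat_lit 21, t3_5_5_s1, nat_lit 2), (nat_lit 3, t3_5_5_s2, nat_lit 20), (nat_lit 13, t3_5_5_s6, nat_lit 22), (nat_lit 10, t3_5_5_s1, nat_lit 9), (nat_lit 8, t3_5_5_s4, nat_lit 16), (nat_lit 12, t3_5_5_s6, nat_lit 7)]
noncomputable def t3_5_5_lev2 : Core.Lev := Core.mkLev m23_n m23_w m23_mask m23_L m23_maskL m23_idc (nat_lit 2) [t3_5_5_s6, t3_5_5_s4, t3_5_5_s5, t3_5_5_s3, t3_5_5_s2] [(nat_lit 4, t3_5_5_s2, nat_lit 2), (nat_lit 12, t3_5_5_s4, nat_lit 4), (nat_lit 11, t3_5_5_s5, nat_lit 4), (nat_lit 13, t3_5_5_s3, nat_lit 4), (nat_lit 10, t3_5_5_s2, nat_lit 4), (nat_lit 9, t3_5_5_s5, nat_lit 12), (nat_lit 5, t3_5_5_s2, nat_lit 12), (nat_lit 20, t3_5_5_s6, nat_lit 11), (nat_lit 22, t3_5_5_s4, nat_lit 11), (nat_lit 8, t3_5_5_s3, nat_lit 11), (nat_lit 16, t3_5_5_s6, nat_lit 13), (nat_lit 18, t3_5_5_s4,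 nat_lit 13), (nat_lit 14, t3_5_5_s2, nat_lit 13), (nat_lit 7, t3_5_5_s6, nat_lit 10), (nat_lit 19, t3_5_5_s3, nat_lit 10), (nat_lit 21, t3_5_5_s6, nat_lit 9), (nat_lit 6, t3_5_5_s4, nat_lit 9), (nat_lit 17, t3_5_5_s6, nat_lit 5), (nat_lit 3, t3_5_5_s2, nat_lit 20), (nat_lit 15, t3_5_5_s5, nat_lit 8)]
noncomputable def t3_5_5_lev3 : Core.Lev := Core.mkLev m23_n m23_w m23_mask m23_L m23_maskL m23_idc (nat_lit 3) [t3_5_5_s6, t3_5_5_s4, t3_5_5_s5, t3_5_5_s3] [(nat_lit 10, t3_5_5_s3, nat_lit 3), (nat_lit 7, t3_5_5_s6, nat_lit 10), (nat_lit 22, t3_5_5_s5, nat_lit 10), (nat_lit 19, t3_5_5_s3, nat_lit 10), (nat_lit 12, t3_5_5_s6, nat_lit 7), (nat_lit 6, t3_5_5_s5, nat_lit 7), (nat_lit 14, t3_5_5_s3, nat_lit 7), (nat_lit 13, t3_5_5_s6, nat_lit 22), (nat_lit 11, t3_5_5_s4, nat_lit 22), (nat_lit 18, t3_5_5_s5, nat_lit 22), (nat_lit 15, t3_5_5_s4, nat_lit 19),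 (nat_lit 4, t3_5_5_s4, nat_lit 12), (nat_lit 9, t3_5_5_s5, nat_lit 12), (nat_lit 21, t3_5_5_s5, nat_lit 6), (nat_lit 5, t3_5_5_s3, nat_lit 6), (nat_lit 17, t3_5_5_s5, nat_lit 14), (nat_lit 16, t3_5_5_s6, nat_lit 13), (nat_lit 20, t3_5_5_s6, nat_lit 11), (nat_lit 8, t3_5_5_s3, nat_lit 11)]
noncomputable def t3_5_5_lev4 : Core.Lev := Core.mkLev m23_n m23_w m23_mask m23_L m23_maskL m23_idc (nat_lit 4) [t3_5_5_s6, t3_5_5_s4, t3_5_5_s5] [(nat_lit 12, t3_5_5_s4, nat_lit 4), (nat_lit 11, t3_5_5_s5, nat_lit 4), (nat_lit 10, t3_5_5_s6, nat_lit 12), (nat_lit 9, t3_5_5_s5, nat_lit 12), (nat_lit 20, t3_5_5_s6, nat_lit 11), (nat_lit 22, t3_5_5_s4, nat_lit 11), (nat_lit 7, t3_5_5_s6, nat_lit 10), (nat_lit 21, t3_5_5_s6, nat_lit 9), (nat_lit 6, t3_5_5_s4, nat_lit 9), (nat_lit 13, t3_5_5_s5, nat_lit 9), (nat_lit 19, t3_5_5_s6, nat_lit 20), (nat_lit 18, t3_5_5_s5,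 nat_lit 22), (nat_lit 8, t3_5_5_s6, nat_lit 21), (nat_lit 16, t3_5_5_s6, nat_lit 13), (nat_lit 15, t3_5_5_s4, nat_lit 19)]
noncomputable def t3_5_5_lev5 : Core.Lev := Core.mkLev m23_n m23_w m23_mask m23_L m23_maskL m23_idc (nat_lit 5) [t3_5_5_s6] [(nat_lit 17, t3_5_5_s6, nat_lit 5), (nat_lit 14, t3_5_5_s6, nat_lit 17)]
noncomputable def t3_5_5_levels : List Core.Lev := [t3_5_5_lev0, t3_5_5_lev1, t3_5_5_lev2, t3_5_5_lev3, t3_5_5_lev4, t3_5_5_lev5]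
theorem t3_5_5_ok : Core.checkAll m23_n m23_w m23_mask m23_L m23_maskL m23_idc [t3_5_5_X, t3_5_5_Y] t3_5_5_prog t3_5_5_levels = true := by decide +kernel
theorem t3_5_5_ord : Core.orderC t3_5_5_levels = 10200960 := by decide +kernel
theorem t3_5_5_tr : tripleOK 3 5 5 t3_5_5_X t3_5_5_Y = true := by decide +kernel
theorem wit_3_5_5 : WitP 3 5 5 := wit_of (by norm_num) (by norm_num) (by norm_num) t3_5_5_ok t3_5_5_ord t3_5_5_tr

def t3_5_7_X : Nat := nat_lit 0xb9ac97ca0874da0a0571554ac188e4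
def t3_5_7_Y : Nat := nat_lit 0xbb291519156946e5ca70124963bc20
def t3_5_7_prog : List (Nat × Nat × Nat) := [(nat_lit 1, nat_lit 1, nat_lit 0), (nat_lit 1, nat_lit 1, nat_lit 0), (nat_lit 0, nat_lit 3, nat_lit 2), (nat_lit 0, nat_lit 0, nat_lit 4), (nat_lit 0, nat_lit 0, nat_lit 4), (nat_lit 0, nat_lit 0, nat_lit 5), (nat_lit 0, nat_lit 5, nat_lit 4), (nat_lit 0, nat_lit 0, nat_lit 6), (nat_lit 0, nat_lit 0, nat_lit 2), (nat_lit 0, nat_lit 9, nat_lit 10), (nat_lit 0, nat_lit 0, nat_lit 11), (nat_lit 0, nat_lit 0, nat_lit 11), (nat_lit 0, nat_lit 0, nat_lit 13), (nat_lit 0, nat_lit 0, nat_lit 13), (nat_lit 0, nat_lit 0, nat_lit 14), (nat_lit 0, nat_lit 0, nat_lit 16), (nat_lit 0, nat_lit 0, nat_lit 16), (nat_lit 0, nat_lit 0, nat_lit 17), (nat_lit 0, nat_lit 17, nat_lit 17), (nat_lit 0, nat_lit 0, nat_lit 17), (nat_lit 0, nat_lit 0, nat_lit 2), (nat_lit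 1, nat_lit 0, nat_lit 0), (nat_lit 1, nat_lit 13, nat_lit 0), (nat_lit 0, nat_lit 14, nat_lit 2), (nat_lit 0, nat_lit 0, nat_lit 15), (nat_lit 0, nat_lit 0, nat_lit 16), (nat_lit 0, nat_lit 0, nat_lit 17), (nat_lit 0, nat_lit 5, nat_lit 4), (nat_lit 0, nat_lit 0, nat_lit 1), (nat_lit 0, nat_lit 20, nat_lit 20), (nat_lit 0, nat_lit 0, nat_lit 9), (nat_lit 0, nat_lit 0, nat_lit 22), (nat_lit 0, nat_lit 0, nat_lit 23), (nat_lit 0, nat_lit 0, nat_lit 12), (nat_lit 0, nat_lit 0, nat_lit 13), (nat_lit 0, nat_lit 0, nat_lit 26), (nat_lit 0, nat_lit 0, nat_lit 15), (nat_lit 0, nat_lit 0, nat_lit 28), (nat_lit 0, nat_lit 16, nat_lit 16), (nat_lit 0, nat_lit 0, nat_lit 1), (nat_lit 1, nat_lit 11, nat_lit 0), (nat_lit 1, nat_lit 1, nat_lit 0), (nat_lit 0, nat_lit 13, nat_lit 2), (nat_lit 0, nat_lit 0, nat_lit 14), (nat_lit 0, nat_lit 0, nat_lit 4), (nat_lit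 0, nat_lit 0, nat_lit 16), (nat_lit 0, nat_lit 0, nat_lit 17), (nat_lit 0, nat_lit 0, nat_lit 7), (nat_lit 0, nat_lit 0, nat_lit 19), (nat_lit 0, nat_lit 0, nat_lit 9), (nat_lit 0, nat_lit 0, nat_lit 10), (nat_lit 0, nat_lit 0, nat_lit 22), (nat_lit 0, nat_lit 11, nat_lit 11), (nat_lit 0, nat_lit 0, nat_lit 12), (nat_lit 0, nat_lit 0, nat_lit 13), (nat_lit 0, nat_lit 0, nat_lit 3), (nat_lit 0, nat_lit 16, nat_lit 16), (nat_lit 0, nat_lit 0, nat_lit 17), (nat_lit 0, nat_lit 0, nat_lit 29), (nat_lit 0, nat_lit 0, nat_lit 19), (nat_lit 0, nat_lit 0, nat_lit 31), (nat_lit 0, nat_lit 0, nat_lit 21), (nat_lit 0, nat_lit 0, nat_lit 22), (nat_lit 0, nat_lit 21, nat_lit 22), (nat_lit 0, nat_lit 0, nat_lit 22), (nat_lit 0, nat_lit 0, nat_lit 2), (nat_lit 0, nat_lit 18, nat_lit 26), (nat_lit 0, nat_lit 0, nat_lit 27), (nat_lit 0, nat_lit 4, nat_lit 0), (nat_lit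 1, nat_lit 13, nat_lit 0), (nat_lit 1, nat_lit 4, nat_lit 0), (nat_lit 0, nat_lit 2, nat_lit 5), (nat_lit 0, nat_lit 0, nat_lit 16), (nat_lit 0, nat_lit 0, nat_lit 7), (nat_lit 0, nat_lit 3, nat_lit 3), (nat_lit 0, nat_lit 0, nat_lit 1), (nat_lit 0, nat_lit 7, nat_lit 7), (nat_lit 0, nat_lit 0, nat_lit 21), (nat_lit 0, nat_lit 0, nat_lit 22), (nat_lit 0, nat_lit 0, nat_lit 10), (nat_lit 0, nat_lit 0, nat_lit 24), (nat_lit 0, nat_lit 0, nat_lit 25), (nat_lit 0, nat_lit 0, nat_lit 26), (nat_lit 0, nat_lit 0, nat_lit 14), (nat_lit 0, nat_lit 0, nat_lit 15), (nat_lit 0, nat_lit 14, nat_lit 15), (nat_lit 0, nat_lit 0, nat_lit 16), (nat_lit 0, nat_lit 0, nat_lit 16), (nat_lit 0, nat_lit 0, nat_lit 3), (nat_lit 0, nat_lit 33, nat_lit 20), (nat_lit 0, nat_lit 0, nat_lit 24), (nat_lit 0, nat_lit 0, nat_lit 22), (nat_lit 0, nat_lit 0, nat_lit 26), (nat_lit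 0, nat_lit 0, nat_lit 27), (nat_lit 0, nat_lit 0, nat_lit 28), (nat_lit 0, nat_lit 0, nat_lit 26), (nat_lit 0, nat_lit 0, nat_lit 27), (nat_lit 0, nat_lit 0, nat_lit 28), (nat_lit 0, nat_lit 11, nat_lit 0), (nat_lit 0, nat_lit 27, nat_lit 30), (nat_lit 0, nat_lit 0, nat_lit 31), (nat_lit 0, nat_lit 26, nat_lit 0), (nat_lit 1, nat_lit 26, nat_lit 0), (nat_lit 1, nat_lit 1, nat_lit 0), (nat_lit 0, nat_lit 28, nat_lit 28), (nat_lit 0, nat_lit 0, nat_lit 6), (nat_lit 0, nat_lit 0, nat_lit 17), (nat_lit 0, nat_lit 0, nat_lit 8), (nat_lit 0, nat_lit 0, nat_lit 32), (nat_lit 0, nat_lit 0, nat_lit 20), (nat_lit 0, nat_lit 0, nat_lit 11), (nat_lit 0, nat_lit 0, nat_lit 12), (nat_lit 0, nat_lit 0, nat_lit 36), (nat_lit 0, nat_lit 0, nat_lit 24), (nat_lit 0, nat_lit 10, nat_lit 11), (nat_lit 0, nat_lit 0, nat_lit 1)]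
def t3_5_7_s0 : Nat := nat_lit 0xb9ac97ca0874da0a0571554ac188e4
def t3_5_7_s1 : Nat := nat_lit 0xb9a705c581792894544a71db61c8a0
def t3_5_7_s2 : Nat := nat_lit 0xbb291519156946e5ca70124963bc20
def t3_5_7_s3 : Nat := nat_lit 0xbc8f13354b1d110238b6acdec48820
def t3_5_7_s4 : Nat := nat_lit 0xbb2c9819c8795753d1536923218820
def t3_5_7_s5 : Nat := nat_lit 0xbac8a69dd2a159333d3585a2818820
def t3_5_7_s6 : Nat := nat_lit 0xbc12ba18ad946c79b11553dc418820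
noncomputable def t3_5_7_lev0 : Core.Lev := Core.mkLev m23_n m23_w m23_mask m23_L m23_maskL m23_idc (nat_lit 0) [t3_5_7_s6, t3_5_7_s4, t3_5_7_s5, t3_5_7_s3, t3_5_7_s2, t3_5_7_s1, t3_5_7_s0] [(nat_lit 4, t3_5_7_s0, nat_lit 0), (nat_lit 18, t3_5_7_s4, nat_lit 4), (nat_lit 8, t3_5_7_s5, nat_lit 4), (nat_lit 12, t3_5_7_s3, nat_lit 4), (nat_lit 22, t3_5_7_s2, nat_lit 4), (nat_lit 6, t3_5_7_s6, nat_lit 18), (nat_lit 7, t3_5_7_s5, nat_lit 18), (nat_lit 13, t3_5_7_s3, nat_lit 18), (nat_lit 17, t3_5_7_s1, nat_lit 18), (nat_lit 21, t3_5_7_s6, nat_lit 8), (nat_lit 19, t3_5_7_s4, nat_lit 8), (nat_lit 16, t3_5_7_s2, nat_lit 8), (nat_lit 10, t3_5_7_s1, nat_lit 8), (nat_lit 14, t3_5_7_s2, nat_lit 12), (nat_lit 9, t3_5_7_s1, nat_lit 12), (nat_lit 11, t3_5_7_s5, nat_lit 22), (nat_lit 15, t3_5_7_s6, nat_lit 6), (nat_lit 2, t3_5_7_s2, nat_lit 7), (nat_lit 3, t3_5_7_s2,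 nat_lit 13), (nat_lit 20, t3_5_7_s1, nat_lit 13), (nat_lit 5, t3_5_7_s6, nat_lit 17), (nat_lit 1, t3_5_7_s1, nat_lit 16)]
noncomputable def t3_5_7_lev1 : Core.Lev := Core.mkLev m23_n m23_w m23_mask m23_L m23_maskL m23_idc (nat_lit 1) [t3_5_7_s6, t3_5_7_s4, t3_5_7_s5, t3_5_7_s3, t3_5_7_s2, t3_5_7_s1] [(nat_lit 5, t3_5_7_s1, nat_lit 1), (nat_lit 14, t3_5_7_s6, nat_lit 5), (nat_lit 17, t3_5_7_s4, nat_lit 5), (nat_lit 15, t3_5_7_s3, nat_lit 5), (nat_lit 4, t3_5_7_s2, nat_lit 5), (nat_lit 13, t3_5_7_s1, nat_lit 5), (nat_lit 20, t3_5_7_s3, nat_lit 14), (nat_lit 10, t3_5_7_s3, nat_lit 17), (nat_lit 8, t3_5_7_s2, nat_lit 17), (nat_lit 12, t3_5_7_s1, nat_lit 17), (nat_lit 18, t3_5_7_s6, nat_lit 15), (nat_lit 3, t3_5_7_s3, nat_lit 15), (nat_lit 22, t3_5_7_s2, nat_lit 4), (nat_lit 11, t3_5_7_s4, nat_lit 13), (nat_lit 9, t3_5_7_s4, nat_lit 20), (nat_lit 16,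 t3_5_7_s1, nat_lit 20), (nat_lit 21, t3_5_7_s1, nat_lit 10), (nat_lit 19, t3_5_7_s4, nat_lit 8), (nat_lit 7, t3_5_7_s6, nat_lit 12), (nat_lit 6, t3_5_7_s6, nat_lit 18), (nat_lit 2, t3_5_7_s1, nat_lit 9)]
noncomputable def t3_5_7_lev2 : Core.Lev := Core.mkLev m23_n m23_w m23_mask m23_L m23_maskL m23_idc (nat_lit 2) [t3_5_7_s6, t3_5_7_s4, t3_5_7_s5, t3_5_7_s3, t3_5_7_s2] [(nat_lit 15, t3_5_7_s2, nat_lit 2), (nat_lit 18, t3_5_7_s6, nat_lit 15), (nat_lit 20, t3_5_7_s5, nat_lit 15), (nat_lit 3, t3_5_7_s3, nat_lit 15), (nat_lit 13, t3_5_7_s2, nat_lit 15), (nat_lit 6, t3_5_7_s6, nat_lit 18), (nat_lit 7, t3_5_7_s5, nat_lit 18), (nat_lit 11, t3_5_7_s6, nat_lit 20), (nat_lit 9, t3_5_7_s4, nat_lit 20), (nat_lit 10, t3_5_7_s5, nat_lit 20), (nat_lit 17, t3_5_7_s3, nat_lit 20), (nat_lit 22, t3_5_7_s6, nat_lit 13), (nat_lit 12, t3_5_7_s5, nat_lit 13), (nat_lit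 8, t3_5_7_s3, nat_lit 13), (nat_lit 4, t3_5_7_s4, nat_lit 6), (nat_lit 19, t3_5_7_s3, nat_lit 6), (nat_lit 16, t3_5_7_s5, nat_lit 7), (nat_lit 21, t3_5_7_s3, nat_lit 7), (nat_lit 5, t3_5_7_s3, nat_lit 9), (nat_lit 14, t3_5_7_s3, nat_lit 10)]
noncomputable def t3_5_7_lev3 : Core.Lev := Core.mkLev m23_n m23_w m23_mask m23_L m23_maskL m23_idc (nat_lit 3) [t3_5_7_s6, t3_5_7_s4, t3_5_7_s5, t3_5_7_s3] [(nat_lit 9, t3_5_7_s3, nat_lit 3), (nat_lit 8, t3_5_7_s6, nat_lit 9), (nat_lit 10, t3_5_7_s4, nat_lit 9), (nat_lit 5, t3_5_7_s3, nat_lit 9), (nat_lit 21, t3_5_7_s6, nat_lit 8), (nat_lit 19, t3_5_7_s4, nat_lit 8), (nat_lit 22, t3_5_7_s3, nat_lit 8), (nat_lit 12, t3_5_7_s6, nat_lit 10), (nat_lit 20, t3_5_7_s4, nat_lit 10), (nat_lit 15, t3_5_7_s5, nat_lit 10), (nat_lit 14, t3_5_7_s3, nat_lit 10), (nat_lit 17, t3_5_7_s4, nat_lit 5), (nat_lit 4, t3_5_7_s5, nat_lit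 21), (nat_lit 7, t3_5_7_s3, nat_lit 21), (nat_lit 16, t3_5_7_s4, nat_lit 19), (nat_lit 13, t3_5_7_s5, nat_lit 19), (nat_lit 6, t3_5_7_s3, nat_lit 19), (nat_lit 11, t3_5_7_s5, nat_lit 22), (nat_lit 18, t3_5_7_s3, nat_lit 22)]
noncomputable def t3_5_7_lev4 : Core.Lev := Core.mkLev m23_n m23_w m23_mask m23_L m23_maskL m23_idc (nat_lit 4) [t3_5_7_s6, t3_5_7_s4, t3_5_7_s5] [(nat_lit 18, t3_5_7_s4, nat_lit 4), (nat_lit 8, t3_5_7_s5, nat_lit 4), (nat_lit 6, t3_5_7_s6, nat_lit 18), (nat_lit 7, t3_5_7_s5, nat_lit 18), (nat_lit 21, t3_5_7_s6, nat_lit 8), (nat_lit 19, t3_5_7_s4, nat_lit 8), (nat_lit 15, t3_5_7_s6, nat_lit 6), (nat_lit 22, t3_5_7_s5, nat_lit 6), (nat_lit 10, t3_5_7_s6, nat_lit 7), (nat_lit 13, t3_5_7_s4, nat_lit 7), (nat_lit 16, t3_5_7_s5, nat_lit 7), (nat_lit 9, t3_5_7_s6, nat_lit 21), (nat_lit 20, t3_5_7_s6, nat_lit 19), (nat_lit 12, t3_5_7_s4,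 nat_lit 22), (nat_lit 11, t3_5_7_s5, nat_lit 22)]
noncomputable def t3_5_7_lev5 : Core.Lev := Core.mkLev m23_n m23_w m23_mask m23_L m23_maskL m23_idc (nat_lit 5) [t3_5_7_s6] [(nat_lit 14, t3_5_7_s6, nat_lit 5), (nat_lit 17, t3_5_7_s6, nat_lit 14)]
noncomputable def t3_5_7_levels : List Core.Lev := [t3_5_7_lev0, t3_5_7_lev1, t3_5_7_lev2, t3_5_7_lev3, t3_5_7_lev4, t3_5_7_lev5]
theorem t3_5_7_ok : Core.checkAll m23_n m23_w m23_mask m23_L m23_maskL m23_idc [t3_5_7_X, t3_5_7_Y] t3_5_7_prog t3_5_7_levels = true := by decide +kernel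
theorem t3_5_7_ord : Core.orderC t3_5_7_levels = 10200960 := by decide +kernel
theorem t3_5_7_tr : tripleOK 3 5 7 t3_5_7_X t3_5_7_Y = true := by decide +kernel
theorem wit_3_5_7 : WitP 3 5 7 := wit_of (by norm_num) (by norm_num) (by norm_num) t3_5_7_ok t3_5_7_ord t3_5_7_tr

def t3_5_11_X : Nat := nat_lit 0xb9ac97ca0874da0a0571554ac188e4
def t3_5_11_Y : Nat := nat_lit 0xb944771230b4a8b5192caa0039b5e1
def t3_5_11_prog : List (Nat × Nat × Nat) := [(nat_lit 1, nat_lit 1, nat_lit 0), (nat_lit 1, nat_lit 1, nat_lit 0), (nat_lit 0, nat_lit 3, nat_lit 2), (nat_lit 0, nat_lit 0, nat_lit 4), (nat_lit 0, nat_lit 0, nat_lit 4), (nat_lit 0, nat_lit 0, nat_lit 5), (nat_lit 0, nat_lit 4, nat_lit 4), (nat_lit 0, nat_lit 0, nat_lit 6), (nat_lit 0, nat_lit 0, nat_lit 6), (nat_lit 0, nat_lit 0, nat_lit 3), (nat_lit 0, nat_lit 10, nat_lit 11), (nat_lit 0, nat_lit 0,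 nat_lit 12), (nat_lit 0, nat_lit 0, nat_lit 12), (nat_lit 0, nat_lit 0, nat_lit 14), (nat_lit 0, nat_lit 0, nat_lit 14), (nat_lit 0, nat_lit 0, nat_lit 15), (nat_lit 0, nat_lit 0, nat_lit 17), (nat_lit 0, nat_lit 0, nat_lit 17), (nat_lit 0, nat_lit 0, nat_lit 18), (nat_lit 0, nat_lit 18, nat_lit 18), (nat_lit 0, nat_lit 0, nat_lit 18), (nat_lit 0, nat_lit 0, nat_lit 20), (nat_lit 0, nat_lit 0, nat_lit 21), (nat_lit 0, nat_lit 0, nat_lit 4), (nat_lit 0, nat_lit 22, nat_lit 23), (nat_lit 0, nat_lit 26, nat_lit 26), (nat_lit 0, nat_lit 0, nat_lit 26), (nat_lit 0, nat_lit 0, nat_lit 28), (nat_lit 0, nat_lit 0, nat_lit 29), (nat_lit 0, nat_lit 0, nat_lit 29), (nat_lit 0, nat_lit 0, nat_lit 30), (nat_lit 0, nat_lit 0, nat_lit 32), (nat_lit 0, nat_lit 0, nat_lit 32), (nat_lit 0, nat_lit 0, nat_lit 34), (nat_lit 0, nat_lit 9, nat_lit 32), (nat_lit 0, nat_lit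 0, nat_lit 1), (nat_lit 1, nat_lit 26, nat_lit 0), (nat_lit 1, nat_lit 13, nat_lit 0), (nat_lit 0, nat_lit 2, nat_lit 14), (nat_lit 0, nat_lit 0, nat_lit 15), (nat_lit 0, nat_lit 0, nat_lit 30), (nat_lit 0, nat_lit 0, nat_lit 17), (nat_lit 0, nat_lit 0, nat_lit 6), (nat_lit 0, nat_lit 0, nat_lit 7), (nat_lit 0, nat_lit 7, nat_lit 7), (nat_lit 0, nat_lit 0, nat_lit 7), (nat_lit 0, nat_lit 0, nat_lit 2), (nat_lit 0, nat_lit 37, nat_lit 11), (nat_lit 0, nat_lit 0, nat_lit 12), (nat_lit 0, nat_lit 0, nat_lit 25), (nat_lit 0, nat_lit 0, nat_lit 40), (nat_lit 0, nat_lit 0, nat_lit 15), (nat_lit 0, nat_lit 6, nat_lit 15), (nat_lit 0, nat_lit 0, nat_lit 1), (nat_lit 1, nat_lit 7, nat_lit 0), (nat_lit 1, nat_lit 1, nat_lit 0), (nat_lit 0, nat_lit 2, nat_lit 2), (nat_lit 0, nat_lit 0, nat_lit 10), (nat_lit 0, nat_lit 0, nat_lit 4), (nat_lit 0, nat_lit 0,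 nat_lit 5), (nat_lit 0, nat_lit 0, nat_lit 6), (nat_lit 0, nat_lit 0, nat_lit 7), (nat_lit 0, nat_lit 0, nat_lit 15), (nat_lit 0, nat_lit 0, nat_lit 9), (nat_lit 0, nat_lit 0, nat_lit 17), (nat_lit 0, nat_lit 0, nat_lit 11), (nat_lit 0, nat_lit 0, nat_lit 12), (nat_lit 0, nat_lit 12, nat_lit 0), (nat_lit 0, nat_lit 21, nat_lit 14), (nat_lit 0, nat_lit 0, nat_lit 22), (nat_lit 0, nat_lit 0, nat_lit 16), (nat_lit 0, nat_lit 0, nat_lit 24), (nat_lit 0, nat_lit 0, nat_lit 25), (nat_lit 0, nat_lit 0, nat_lit 19), (nat_lit 0, nat_lit 0, nat_lit 20), (nat_lit 0, nat_lit 0, nat_lit 21), (nat_lit 0, nat_lit 20, nat_lit 0), (nat_lit 1, nat_lit 9, nat_lit 0), (nat_lit 1, nat_lit 1, nat_lit 0), (nat_lit 0, nat_lit 11, nat_lit 11), (nat_lit 0, nat_lit 0, nat_lit 3), (nat_lit 0, nat_lit 0, nat_lit 4), (nat_lit 0, nat_lit 0, nat_lit 14), (nat_lit 0, nat_lit 0,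 nat_lit 15), (nat_lit 0, nat_lit 0, nat_lit 16), (nat_lit 0, nat_lit 0, nat_lit 17), (nat_lit 0, nat_lit 0, nat_lit 18), (nat_lit 0, nat_lit 0, nat_lit 19), (nat_lit 0, nat_lit 0, nat_lit 11), (nat_lit 0, nat_lit 10, nat_lit 10), (nat_lit 0, nat_lit 0, nat_lit 12), (nat_lit 0, nat_lit 0, nat_lit 12), (nat_lit 0, nat_lit 0, nat_lit 14), (nat_lit 0, nat_lit 0, nat_lit 4), (nat_lit 0, nat_lit 17, nat_lit 17), (nat_lit 0, nat_lit 0, nat_lit 18), (nat_lit 0, nat_lit 0, nat_lit 28), (nat_lit 0, nat_lit 0, nat_lit 20), (nat_lit 0, nat_lit 0, nat_lit 30), (nat_lit 0, nat_lit 0, nat_lit 31), (nat_lit 0, nat_lit 0, nat_lit 23), (nat_lit 0, nat_lit 0, nat_lit 33), (nat_lit 0, nat_lit 23, nat_lit 0), (nat_lit 0, nat_lit 26, nat_lit 35), (nat_lit 0, nat_lit 0, nat_lit 27), (nat_lit 0, nat_lit 0, nat_lit 28), (nat_lit 0, nat_lit 0, nat_lit 29), (nat_lit 0, nat_lit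 0, nat_lit 30), (nat_lit 0, nat_lit 0, nat_lit 31), (nat_lit 0, nat_lit 0, nat_lit 41), (nat_lit 0, nat_lit 0, nat_lit 33), (nat_lit 0, nat_lit 21, nat_lit 0), (nat_lit 1, nat_lit 0, nat_lit 0), (nat_lit 0, nat_lit 10, nat_lit 19), (nat_lit 0, nat_lit 0, nat_lit 2), (nat_lit 0, nat_lit 0, nat_lit 21), (nat_lit 0, nat_lit 3, nat_lit 0)]
def t3_5_11_s0 : Nat := nat_lit 0xb9ac97ca0874da0a0571554ac188e4
def t3_5_11_s1 : Nat := nat_lit 0xbd8548302f9d4a35c4c93a08d93940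
def t3_5_11_s2 : Nat := nat_lit 0xbb8a7ad10f8ca039d9444b58612c20
def t3_5_11_s3 : Nat := nat_lit 0xbb693545643a2ce2d4c34be5060820
def t3_5_11_s4 : Nat := nat_lit 0xbd268341c9595e46b2563d62a18820
def t3_5_11_s5 : Nat := nat_lit 0xbb4c93ae2453ac893e8c9d4b018820
def t3_5_11_s6 : Nat := nat_lit 0xbb5135bdd63160aa1ea964a2418820
noncomputable def t3_5_11_lev0 : Core.Lev := Core.mkLev m23_n m23_w m23_mask m23_L m23_maskL m23_idc (nat_lit 0) [t3_5_11_s6, t3_5_11_s4, t3_5_11_s5, t3_5_11_s3, t3_5_11_s2, t3_5_11_s1, t3_5_11_s0] [(nat_lit 4, t3_5_11_s0, nat_lit 0), (nat_lit 10, t3_5_11_s4, nat_lit 4), (nat_lit 16, t3_5_11_s5, nat_lit 4), (nat_lit 6, t3_5_11_s2, nat_lit 4), (nat_lit 13, t3_5_11_s1, nat_lit 4), (nat_lit 12, t3_5_11_s0, nat_lit 4), (nat_lit 7, t3_5_11_s6, nat_lit 10), (nat_lit 15, t3_5_11_s5, nat_lit 10), (nat_lit 21, t3_5_11_s3, nat_lit 10),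 (nat_lit 22, t3_5_11_s2, nat_lit 10), (nat_lit 17, t3_5_11_s1, nat_lit 10), (nat_lit 1, t3_5_11_s0, nat_lit 10), (nat_lit 9, t3_5_11_s4, nat_lit 16), (nat_lit 8, t3_5_11_s0, nat_lit 16), (nat_lit 18, t3_5_11_s6, nat_lit 6), (nat_lit 5, t3_5_11_s1, nat_lit 13), (nat_lit 14, t3_5_11_s3, nat_lit 12), (nat_lit 3, t3_5_11_s2, nat_lit 12), (nat_lit 19, t3_5_11_s5, nat_lit 7), (nat_lit 11, t3_5_11_s4, nat_lit 15), (nat_lit 20, t3_5_11_s3, nat_lit 21), (nat_lit 2, t3_5_11_s1, nat_lit 21)]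
noncomputable def t3_5_11_lev1 : Core.Lev := Core.mkLev m23_n m23_w m23_mask m23_L m23_maskL m23_idc (nat_lit 1) [t3_5_11_s6, t3_5_11_s4, t3_5_11_s5, t3_5_11_s3, t3_5_11_s2, t3_5_11_s1] [(nat_lit 10, t3_5_11_s1, nat_lit 1), (nat_lit 7, t3_5_11_s6, nat_lit 10), (nat_lit 12, t3_5_11_s4, nat_lit 10), (nat_lit 15, t3_5_11_s5, nat_lit 10), (nat_lit 21, t3_5_11_s3, nat_lit 10), (nat_lit 22, t3_5_11_s2, nat_lit 10), (nat_lit 17, t3_5_11_s1, nat_lit 10), (nat_lit 19, t3_5_11_s5, nat_lit 7), (nat_lit 9, t3_5_11_s3, nat_lit 7), (nat_lit 4, t3_5_11_s4, nat_lit 12), (nat_lit 8, t3_5_11_s5, nat_lit 12), (nat_lit 14, t3_5_11_s3, nat_lit 12), (nat_lit 3, t3_5_11_s2, nat_lit 12), (nat_lit 6, t3_5_11_s6, nat_lit 15), (nat_lit 11, t3_5_11_s4, nat_lit 15), (nat_lit 20, t3_5_11_s3, nat_lit 21), (nat_lit 5, t3_5_11_s2, nat_lit 21), (nat_lit 2, t3_5_11_s1, nat_lit 21),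 (nat_lit 13, t3_5_11_s6, nat_lit 22), (nat_lit 16, t3_5_11_s1, nat_lit 19), (nat_lit 18, t3_5_11_s4, nat_lit 9)]
noncomputable def t3_5_11_lev2 : Core.Lev := Core.mkLev m23_n m23_w m23_mask m23_L m23_maskL m23_idc (nat_lit 2) [t3_5_11_s6, t3_5_11_s4, t3_5_11_s5, t3_5_11_s3, t3_5_11_s2] [(nat_lit 11, t3_5_11_s2, nat_lit 2), (nat_lit 20, t3_5_11_s6, nat_lit 11), (nat_lit 13, t3_5_11_s4, nat_lit 11), (nat_lit 18, t3_5_11_s5, nat_lit 11), (nat_lit 5, t3_5_11_s3, nat_lit 11), (nat_lit 19, t3_5_11_s2, nat_lit 11), (nat_lit 8, t3_5_11_s4, nat_lit 20), (nat_lit 9, t3_5_11_s5, nat_lit 20), (nat_lit 7, t3_5_11_s2, nat_lit 20), (nat_lit 16, t3_5_11_s6, nat_lit 13), (nat_lit 15, t3_5_11_s4, nat_lit 13), (nat_lit 22, t3_5_11_s5, nat_lit 13), (nat_lit 17, t3_5_11_s3, nat_lit 18), (nat_lit 12, t3_5_11_s2, nat_lit 5), (nat_lit 6, t3_5_11_s4, nat_lit 19), (nat_lit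 10, t3_5_11_s3, nat_lit 19), (nat_lit 21, t3_5_11_s2, nat_lit 19), (nat_lit 3, t3_5_11_s3, nat_lit 8), (nat_lit 4, t3_5_11_s2, nat_lit 8), (nat_lit 14, t3_5_11_s2, nat_lit 22)]
noncomputable def t3_5_11_lev3 : Core.Lev := Core.mkLev m23_n m23_w m23_mask m23_L m23_maskL m23_idc (nat_lit 3) [t3_5_11_s6, t3_5_11_s4, t3_5_11_s5, t3_5_11_s3] [(nat_lit 12, t3_5_11_s3, nat_lit 3), (nat_lit 10, t3_5_11_s6, nat_lit 12), (nat_lit 4, t3_5_11_s4, nat_lit 12), (nat_lit 8, t3_5_11_s5, nat_lit 12), (nat_lit 14, t3_5_11_s3, nat_lit 12), (nat_lit 7, t3_5_11_s6, nat_lit 10), (nat_lit 15, t3_5_11_s5, nat_lit 10), (nat_lit 21, t3_5_11_s3, nat_lit 10), (nat_lit 16, t3_5_11_s5, nat_lit 4), (nat_lit 9, t3_5_11_s6, nat_lit 8), (nat_lit 22, t3_5_11_s4, nat_lit 8), (nat_lit 5, t3_5_11_s6, nat_lit 14), (nat_lit 19, t3_5_11_s5, nat_lit 7), (nat_lit 6, t3_5_11_s6, nat_lit 15),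 (nat_lit 11, t3_5_11_s4, nat_lit 15), (nat_lit 20, t3_5_11_s3, nat_lit 21), (nat_lit 18, t3_5_11_s4, nat_lit 9), (nat_lit 13, t3_5_11_s6, nat_lit 22), (nat_lit 17, t3_5_11_s6, nat_lit 5)]
noncomputable def t3_5_11_lev4 : Core.Lev := Core.mkLev m23_n m23_w m23_mask m23_L m23_maskL m23_idc (nat_lit 4) [t3_5_11_s6, t3_5_11_s4, t3_5_11_s5] [(nat_lit 10, t3_5_11_s4, nat_lit 4), (nat_lit 16, t3_5_11_s5, nat_lit 4), (nat_lit 7, t3_5_11_s6, nat_lit 10), (nat_lit 12, t3_5_11_s4, nat_lit 10), (nat_lit 15, t3_5_11_s5, nat_lit 10), (nat_lit 22, t3_5_11_s6, nat_lit 16), (nat_lit 9, t3_5_11_s4, nat_lit 16), (nat_lit 19, t3_5_11_s5, nat_lit 7), (nat_lit 8, t3_5_11_s5, nat_lit 12), (nat_lit 6, t3_5_11_s6, nat_lit 15), (nat_lit 11, t3_5_11_s4, nat_lit 15), (nat_lit 13, t3_5_11_s6, nat_lit 22), (nat_lit 20, t3_5_11_s4, nat_lit 22), (nat_lit 21, t3_5_11_s6, nat_lit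 9), (nat_lit 18, t3_5_11_s4, nat_lit 9)]
noncomputable def t3_5_11_lev5 : Core.Lev := Core.mkLev m23_n m23_w m23_mask m23_L m23_maskL m23_idc (nat_lit 5) [t3_5_11_s6] [(nat_lit 17, t3_5_11_s6, nat_lit 5), (nat_lit 14, t3_5_11_s6, nat_lit 17)]
noncomputable def t3_5_11_levels : List Core.Lev := [t3_5_11_lev0, t3_5_11_lev1, t3_5_11_lev2, t3_5_11_lev3, t3_5_11_lev4, t3_5_11_lev5]
theorem t3_5_11_ok : Core.checkAll m23_n m23_w m23_mask m23_L m23_maskL m23_idc [t3_5_11_X, t3_5_11_Y] t3_5_11_prog t3_5_11_levels = true := by decide +kernel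
theorem t3_5_11_ord : Core.orderC t3_5_11_levels = 10200960 := by decide +kernel
theorem t3_5_11_tr : tripleOK 3 5 11 t3_5_11_X t3_5_11_Y = true := by decide +kernel
theorem wit_3_5_11 : WitP 3 5 11 := wit_of (by norm_num) (by norm_num) (by norm_num) t3_5_11_ok t3_5_11_ord t3_5_11_tr

def t3_5_23_X : Nat := nat_lit 0xb9ac97ca0874da0a0571554ac188e4
def t3_5_23_Y : Nat := nat_lit 0xb948caae537ba8050a1668cc944427
def t3_5_23_prog : List (Nat × Nat × Nat) := [(nat_lit 1, nat_lit 1, nat_lit 0), (nat_lit 1, nat_lit 1, nat_lit 0), (nat_lit 0, nat_lit 3, nat_lit 2), (nat_lit 0, nat_lit 0, nat_lit 4), (nat_lit 0, nat_lit 0, nat_lit 4), (nat_lit 0, nat_lit 0, nat_lit 5), (nat_lit 0, nat_lit 5, nat_lit 4), (nat_lit 0, nat_lit 0, nat_lit 1), (nat_lit 0, nat_lit 8, nat_lit 9), (nat_lit 0, nat_lit 0, nat_lit 10), (nat_lit 0, nat_lit 0, nat_lit 10), (nat_lit 0,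 nat_lit 0, nat_lit 12), (nat_lit 0, nat_lit 0, nat_lit 12), (nat_lit 0, nat_lit 0, nat_lit 13), (nat_lit 0, nat_lit 0, nat_lit 15), (nat_lit 0, nat_lit 0, nat_lit 15), (nat_lit 0, nat_lit 0, nat_lit 16), (nat_lit 0, nat_lit 15, nat_lit 16), (nat_lit 0, nat_lit 0, nat_lit 17), (nat_lit 0, nat_lit 0, nat_lit 2), (nat_lit 1, nat_lit 0, nat_lit 0), (nat_lit 1, nat_lit 13, nat_lit 0), (nat_lit 0, nat_lit 14, nat_lit 2), (nat_lit 0, nat_lit 0, nat_lit 15), (nat_lit 0, nat_lit 0, nat_lit 16), (nat_lit 0, nat_lit 0, nat_lit 17), (nat_lit 0, nat_lit 5, nat_lit 4), (nat_lit 0, nat_lit 0, nat_lit 1), (nat_lit 0, nat_lit 20, nat_lit 20), (nat_lit 0, nat_lit 0, nat_lit 9), (nat_lit 0, nat_lit 0, nat_lit 22), (nat_lit 0, nat_lit 0, nat_lit 23), (nat_lit 0, nat_lit 0, nat_lit 12), (nat_lit 0, nat_lit 0, nat_lit 13), (nat_lit 0, nat_lit 0, nat_lit 26), (nat_lit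 0, nat_lit 0, nat_lit 15), (nat_lit 0, nat_lit 0, nat_lit 28), (nat_lit 0, nat_lit 10, nat_lit 16), (nat_lit 0, nat_lit 0, nat_lit 1), (nat_lit 1, nat_lit 11, nat_lit 0), (nat_lit 1, nat_lit 1, nat_lit 0), (nat_lit 0, nat_lit 13, nat_lit 2), (nat_lit 0, nat_lit 0, nat_lit 14), (nat_lit 0, nat_lit 0, nat_lit 4), (nat_lit 0, nat_lit 0, nat_lit 16), (nat_lit 0, nat_lit 0, nat_lit 17), (nat_lit 0, nat_lit 0, nat_lit 7), (nat_lit 0, nat_lit 0, nat_lit 19), (nat_lit 0, nat_lit 0, nat_lit 9), (nat_lit 0, nat_lit 0, nat_lit 10), (nat_lit 0, nat_lit 0, nat_lit 22), (nat_lit 0, nat_lit 11, nat_lit 11), (nat_lit 0, nat_lit 0, nat_lit 11), (nat_lit 0, nat_lit 0, nat_lit 13), (nat_lit 0, nat_lit 0, nat_lit 3), (nat_lit 0, nat_lit 16, nat_lit 16), (nat_lit 0, nat_lit 0, nat_lit 17), (nat_lit 0, nat_lit 0, nat_lit 29), (nat_lit 0, nat_lit 0, nat_lit 19), (nat_lit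 0, nat_lit 0, nat_lit 31), (nat_lit 0, nat_lit 0, nat_lit 21), (nat_lit 0, nat_lit 0, nat_lit 22), (nat_lit 0, nat_lit 9, nat_lit 0), (nat_lit 1, nat_lit 8, nat_lit 0), (nat_lit 1, nat_lit 1, nat_lit 0), (nat_lit 0, nat_lit 10, nat_lit 2), (nat_lit 0, nat_lit 0, nat_lit 11), (nat_lit 0, nat_lit 0, nat_lit 4), (nat_lit 0, nat_lit 0, nat_lit 13), (nat_lit 0, nat_lit 0, nat_lit 14), (nat_lit 0, nat_lit 0, nat_lit 7), (nat_lit 0, nat_lit 0, nat_lit 8), (nat_lit 0, nat_lit 0, nat_lit 9), (nat_lit 0, nat_lit 18, nat_lit 18), (nat_lit 0, nat_lit 0, nat_lit 11), (nat_lit 0, nat_lit 0, nat_lit 12), (nat_lit 0, nat_lit 0, nat_lit 21), (nat_lit 0, nat_lit 0, nat_lit 22), (nat_lit 0, nat_lit 0, nat_lit 23), (nat_lit 0, nat_lit 0, nat_lit 24), (nat_lit 0, nat_lit 0, nat_lit 25), (nat_lit 0, nat_lit 0, nat_lit 26), (nat_lit 0, nat_lit 0, nat_lit 19), (nat_lit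 0, nat_lit 19, nat_lit 19), (nat_lit 0, nat_lit 0, nat_lit 20), (nat_lit 0, nat_lit 0, nat_lit 2), (nat_lit 0, nat_lit 23, nat_lit 23), (nat_lit 0, nat_lit 0, nat_lit 24), (nat_lit 0, nat_lit 0, nat_lit 33), (nat_lit 0, nat_lit 0, nat_lit 26), (nat_lit 0, nat_lit 0, nat_lit 35), (nat_lit 0, nat_lit 0, nat_lit 36), (nat_lit 0, nat_lit 0, nat_lit 29), (nat_lit 0, nat_lit 0, nat_lit 38), (nat_lit 0, nat_lit 29, nat_lit 29), (nat_lit 0, nat_lit 0, nat_lit 31), (nat_lit 0, nat_lit 0, nat_lit 31), (nat_lit 0, nat_lit 0, nat_lit 32), (nat_lit 0, nat_lit 0, nat_lit 4), (nat_lit 1, nat_lit 26, nat_lit 0), (nat_lit 0, nat_lit 14, nat_lit 1), (nat_lit 0, nat_lit 0, nat_lit 2), (nat_lit 0, nat_lit 0, nat_lit 3), (nat_lit 0, nat_lit 3, nat_lit 0)]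
def t3_5_23_s0 : Nat := nat_lit 0xb9ac97ca0874da0a0571554ac188e4
def t3_5_23_s1 : Nat := nat_lit 0xb9cb44918b354301cdcf448566aa20
def t3_5_23_s2 : Nat := nat_lit 0xbc8c770c532aa36620955c12da3c20
def t3_5_23_s3 : Nat := nat_lit 0xb91cc1a4ed94e0a7a1742c4d6a8820
def t3_5_23_s4 : Nat := nat_lit 0xba4eca91d491550b216d99a2f18820
def t3_5_23_s5 : Nat := nat_lit 0xbac8a69dd2a159333d3585a2818820
def t3_5_23_s6 : Nat := nat_lit 0xbb5135bdd63160aa1ea964a2418820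
noncomputable def t3_5_23_lev0 : Core.Lev := Core.mkLev m23_n m23_w m23_mask m23_L m23_maskL m23_idc (nat_lit 0) [t3_5_23_s6, t3_5_23_s4, t3_5_23_s5, t3_5_23_s3, t3_5_23_s2, t3_5_23_s1, t3_5_23_s0] [(nat_lit 4, t3_5_23_s0, nat_lit 0), (nat_lit 15, t3_5_23_s4, nat_lit 4), (nat_lit 8, t3_5_23_s5, nat_lit 4), (nat_lit 22, t3_5_23_s3, nat_lit 4), (nat_lit 13, t3_5_23_s2, nat_lit 4), (nat_lit 12, t3_5_23_s0, nat_lit 4), (nat_lit 6, t3_5_23_s6, nat_lit 15), (nat_lit 18, t3_5_23_s4, nat_lit 15), (nat_lit 20, t3_5_23_s5, nat_lit 15), (nat_lit 5, t3_5_23_s2, nat_lit 15), (nat_lit 14, t3_5_23_s0, nat_lit 15), (nat_lit 9, t3_5_23_s6, nat_lit 8), (nat_lit 21, t3_5_23_s5, nat_lit 8), (nat_lit 17, t3_5_23_s0, nat_lit 8), (nat_lit 11, t3_5_23_s5, nat_lit 22), (nat_lit 7, t3_5_23_s1, nat_lit 22), (nat_lit 16, t3_5_23_s6, nat_lit 13), (nat_lit 10, t3_5_23_s4, nat_lit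 13), (nat_lit 1, t3_5_23_s1, nat_lit 13), (nat_lit 19, t3_5_23_s5, nat_lit 12), (nat_lit 3, t3_5_23_s2, nat_lit 18), (nat_lit 2, t3_5_23_s1, nat_lit 5)]
noncomputable def t3_5_23_lev1 : Core.Lev := Core.mkLev m23_n m23_w m23_mask m23_L m23_maskL m23_idc (nat_lit 1) [t3_5_23_s6, t3_5_23_s4, t3_5_23_s5, t3_5_23_s3, t3_5_23_s2, t3_5_23_s1] [(nat_lit 17, t3_5_23_s1, nat_lit 1), (nat_lit 14, t3_5_23_s6, nat_lit 17), (nat_lit 7, t3_5_23_s3, nat_lit 17), (nat_lit 2, t3_5_23_s2, nat_lit 17), (nat_lit 12, t3_5_23_s1, nat_lit 17), (nat_lit 5, t3_5_23_s6, nat_lit 14), (nat_lit 19, t3_5_23_s3, nat_lit 14), (nat_lit 10, t3_5_23_s2, nat_lit 14), (nat_lit 21, t3_5_23_s1, nat_lit 14), (nat_lit 16, t3_5_23_s5, nat_lit 7), (nat_lit 11, t3_5_23_s2, nat_lit 7), (nat_lit 8, t3_5_23_s1, nat_lit 7), (nat_lit 15, t3_5_23_s2, nat_lit 2), (nat_lit 22, t3_5_23_s2, nat_lit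 12), (nat_lit 6, t3_5_23_s3, nat_lit 5), (nat_lit 9, t3_5_23_s2, nat_lit 5), (nat_lit 13, t3_5_23_s5, nat_lit 19), (nat_lit 3, t3_5_23_s3, nat_lit 19), (nat_lit 4, t3_5_23_s5, nat_lit 21), (nat_lit 20, t3_5_23_s4, nat_lit 16), (nat_lit 18, t3_5_23_s5, nat_lit 16)]
noncomputable def t3_5_23_lev2 : Core.Lev := Core.mkLev m23_n m23_w m23_mask m23_L m23_maskL m23_idc (nat_lit 2) [t3_5_23_s6, t3_5_23_s4, t3_5_23_s5, t3_5_23_s3, t3_5_23_s2] [(nat_lit 15, t3_5_23_s2, nat_lit 2), (nat_lit 6, t3_5_23_s6, nat_lit 15), (nat_lit 18, t3_5_23_s4, nat_lit 15), (nat_lit 20, t3_5_23_s5, nat_lit 15), (nat_lit 5, t3_5_23_s2, nat_lit 15), (nat_lit 22, t3_5_23_s5, nat_lit 6), (nat_lit 17, t3_5_23_s3, nat_lit 6), (nat_lit 16, t3_5_23_s2, nat_lit 6), (nat_lit 4, t3_5_23_s4, nat_lit 18), (nat_lit 7, t3_5_23_s5, nat_lit 18), (nat_lit 9, t3_5_23_s3, nat_lit 18), (nat_lit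 3, t3_5_23_s2, nat_lit 18), (nat_lit 19, t3_5_23_s6, nat_lit 20), (nat_lit 12, t3_5_23_s4, nat_lit 20), (nat_lit 10, t3_5_23_s5, nat_lit 20), (nat_lit 13, t3_5_23_s6, nat_lit 22), (nat_lit 11, t3_5_23_s5, nat_lit 22), (nat_lit 14, t3_5_23_s6, nat_lit 17), (nat_lit 8, t3_5_23_s5, nat_lit 4), (nat_lit 21, t3_5_23_s6, nat_lit 9)]
noncomputable def t3_5_23_lev3 : Core.Lev := Core.mkLev m23_n m23_w m23_mask m23_L m23_maskL m23_idc (nat_lit 3) [t3_5_23_s6, t3_5_23_s4, t3_5_23_s5, t3_5_23_s3] [(nat_lit 21, t3_5_23_s3, nat_lit 3), (nat_lit 8, t3_5_23_s6, nat_lit 21), (nat_lit 7, t3_5_23_s4, nat_lit 21), (nat_lit 4, t3_5_23_s5, nat_lit 21), (nat_lit 14, t3_5_23_s3, nat_lit 21), (nat_lit 9, t3_5_23_s6, nat_lit 8), (nat_lit 13, t3_5_23_s4, nat_lit 8), (nat_lit 20, t3_5_23_s3, nat_lit 8), (nat_lit 12, t3_5_23_s6, nat_lit 7), (nat_lit 19, t3_5_23_s4, nat_lit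 7), (nat_lit 16, t3_5_23_s5, nat_lit 7), (nat_lit 5, t3_5_23_s3, nat_lit 7), (nat_lit 15, t3_5_23_s4, nat_lit 4), (nat_lit 22, t3_5_23_s3, nat_lit 4), (nat_lit 11, t3_5_23_s4, nat_lit 9), (nat_lit 10, t3_5_23_s4, nat_lit 13), (nat_lit 18, t3_5_23_s5, nat_lit 16), (nat_lit 17, t3_5_23_s6, nat_lit 5), (nat_lit 6, t3_5_23_s3, nat_lit 5)]
noncomputable def t3_5_23_lev4 : Core.Lev := Core.mkLev m23_n m23_w m23_mask m23_L m23_maskL m23_idc (nat_lit 4) [t3_5_23_s6, t3_5_23_s4, t3_5_23_s5] [(nat_lit 15, t3_5_23_s4, nat_lit 4), (nat_lit 8, t3_5_23_s5, nat_lit 4), (nat_lit 6, t3_5_23_s6, nat_lit 15), (nat_lit 18, t3_5_23_s4, nat_lit 15), (nat_lit 20, t3_5_23_s5, nat_lit 15), (nat_lit 9, t3_5_23_s6, nat_lit 8), (nat_lit 13, t3_5_23_s4, nat_lit 8), (nat_lit 21, t3_5_23_s5, nat_lit 8), (nat_lit 22, t3_5_23_s5, nat_lit 6), (nat_lit 7, t3_5_23_s5, nat_lit 18),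 (nat_lit 19, t3_5_23_s6, nat_lit 20), (nat_lit 12, t3_5_23_s4, nat_lit 20), (nat_lit 10, t3_5_23_s5, nat_lit 20), (nat_lit 11, t3_5_23_s4, nat_lit 9), (nat_lit 16, t3_5_23_s6, nat_lit 13)]
noncomputable def t3_5_23_lev5 : Core.Lev := Core.mkLev m23_n m23_w m23_mask m23_L m23_maskL m23_idc (nat_lit 5) [t3_5_23_s6] [(nat_lit 17, t3_5_23_s6, nat_lit 5), (nat_lit 14, t3_5_23_s6, nat_lit 17)]
noncomputable def t3_5_23_levels : List Core.Lev := [t3_5_23_lev0, t3_5_23_lev1, t3_5_23_lev2, t3_5_23_lev3, t3_5_23_lev4, t3_5_23_lev5]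
theorem t3_5_23_ok : Core.checkAll m23_n m23_w m23_mask m23_L m23_maskL m23_idc [t3_5_23_X, t3_5_23_Y] t3_5_23_prog t3_5_23_levels = true := by decide +kernel
theorem t3_5_23_ord : Core.orderC t3_5_23_levels = 10200960 := by decide +kernel
theorem t3_5_23_tr : tripleOK 3 5 23 t3_5_23_X t3_5_23_Y = true := by decide +kernel
theorem wit_3_5_23 : WitP 3 5 23 := wit_of (by norm_num) (by norm_num) (by norm_num) t3_5_23_ok t3_5_23_ord t3_5_23_tr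

def t3_7_7_X : Nat := nat_lit 0xb9ac97ca0874da0a0571554ac188e4
def t3_7_7_Y : Nat := nat_lit 0xbad4243e91a812c234703cc2e91ac5
def t3_7_7_prog : List (Nat × Nat × Nat) := [(nat_lit 1, nat_lit 1, nat_lit 0), (nat_lit 1, nat_lit 1, nat_lit 0), (nat_lit 0, nat_lit 3, nat_lit 2), (nat_lit 0, nat_lit 0, nat_lit 4), (nat_lit 0, nat_lit 0, nat_lit 4), (nat_lit 0, nat_lit 0, nat_lit 5), (nat_lit 0, nat_lit 4, nat_lit 4), (nat_lit 0, nat_lit 0, nat_lit 6), (nat_lit 0, nat_lit 0, nat_lit 7), (nat_lit 0, nat_lit 0, nat_lit 3), (nat_lit 0, nat_lit 10, nat_lit 11), (nat_lit 0, nat_lit 0, nat_lit 12), (nat_lit 0, nat_lit 0, nat_lit 12), (nat_lit 0, nat_lit 0, nat_lit 14), (nat_lit 0, nat_lit 0, nat_lit 14), (nat_lit 0, nat_lit 0, nat_lit 15), (nat_lit 0, nat_lit 0, nat_lit 17), (nat_lit 0, nat_lit 0, nat_lit 17), (nat_lit 0, nat_lit 0, nat_lit 18), (nat_lit 0,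 nat_lit 10, nat_lit 17), (nat_lit 0, nat_lit 0, nat_lit 18), (nat_lit 0, nat_lit 0, nat_lit 2), (nat_lit 0, nat_lit 18, nat_lit 23), (nat_lit 0, nat_lit 0, nat_lit 24), (nat_lit 0, nat_lit 22, nat_lit 0), (nat_lit 1, nat_lit 3, nat_lit 0), (nat_lit 0, nat_lit 1, nat_lit 16), (nat_lit 0, nat_lit 0, nat_lit 5), (nat_lit 0, nat_lit 0, nat_lit 3), (nat_lit 0, nat_lit 0, nat_lit 19), (nat_lit 0, nat_lit 0, nat_lit 8), (nat_lit 0, nat_lit 0, nat_lit 6), (nat_lit 0, nat_lit 0, nat_lit 22), (nat_lit 0, nat_lit 0, nat_lit 8), (nat_lit 0, nat_lit 0, nat_lit 24), (nat_lit 0, nat_lit 0, nat_lit 13), (nat_lit 0, nat_lit 0, nat_lit 14), (nat_lit 0, nat_lit 11, nat_lit 11), (nat_lit 0, nat_lit 0, nat_lit 1), (nat_lit 0, nat_lit 14, nat_lit 17), (nat_lit 0, nat_lit 0, nat_lit 30), (nat_lit 0, nat_lit 0, nat_lit 16), (nat_lit 0, nat_lit 0, nat_lit 32), (nat_lit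 0, nat_lit 0, nat_lit 21), (nat_lit 0, nat_lit 0, nat_lit 22), (nat_lit 1, nat_lit 6, nat_lit 0), (nat_lit 1, nat_lit 1, nat_lit 0), (nat_lit 0, nat_lit 8, nat_lit 8), (nat_lit 0, nat_lit 0, nat_lit 9), (nat_lit 0, nat_lit 0, nat_lit 4), (nat_lit 0, nat_lit 0, nat_lit 11), (nat_lit 0, nat_lit 0, nat_lit 6), (nat_lit 0, nat_lit 0, nat_lit 7), (nat_lit 0, nat_lit 0, nat_lit 14), (nat_lit 0, nat_lit 0, nat_lit 9), (nat_lit 0, nat_lit 0, nat_lit 10), (nat_lit 0, nat_lit 10, nat_lit 9), (nat_lit 0, nat_lit 0, nat_lit 1), (nat_lit 0, nat_lit 13, nat_lit 13), (nat_lit 0, nat_lit 0, nat_lit 20), (nat_lit 0, nat_lit 0, nat_lit 15), (nat_lit 0, nat_lit 0, nat_lit 22), (nat_lit 0, nat_lit 0, nat_lit 17), (nat_lit 0, nat_lit 0, nat_lit 18), (nat_lit 0, nat_lit 0, nat_lit 25), (nat_lit 0, nat_lit 0, nat_lit 20), (nat_lit 0, nat_lit 0, nat_lit 21), (nat_lit 0,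 nat_lit 0, nat_lit 28), (nat_lit 0, nat_lit 0, nat_lit 23), (nat_lit 0, nat_lit 12, nat_lit 22), (nat_lit 0, nat_lit 0, nat_lit 23), (nat_lit 0, nat_lit 0, nat_lit 2), (nat_lit 1, nat_lit 14, nat_lit 0), (nat_lit 1, nat_lit 1, nat_lit 0), (nat_lit 0, nat_lit 16, nat_lit 2), (nat_lit 0, nat_lit 0, nat_lit 3), (nat_lit 0, nat_lit 0, nat_lit 4), (nat_lit 0, nat_lit 0, nat_lit 19), (nat_lit 0, nat_lit 0, nat_lit 6), (nat_lit 0, nat_lit 5, nat_lit 6), (nat_lit 0, nat_lit 8, nat_lit 8), (nat_lit 0, nat_lit 0, nat_lit 9), (nat_lit 0, nat_lit 0, nat_lit 10), (nat_lit 0, nat_lit 0, nat_lit 11), (nat_lit 0, nat_lit 0, nat_lit 26), (nat_lit 0, nat_lit 0, nat_lit 13), (nat_lit 0, nat_lit 0, nat_lit 28), (nat_lit 0, nat_lit 0, nat_lit 29), (nat_lit 0, nat_lit 0, nat_lit 16), (nat_lit 0, nat_lit 0, nat_lit 31), (nat_lit 0, nat_lit 0, nat_lit 18), (nat_lit 0,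 nat_lit 11, nat_lit 18), (nat_lit 0, nat_lit 0, nat_lit 1), (nat_lit 0, nat_lit 21, nat_lit 35), (nat_lit 0, nat_lit 0, nat_lit 22), (nat_lit 0, nat_lit 0, nat_lit 23), (nat_lit 0, nat_lit 0, nat_lit 24), (nat_lit 0, nat_lit 0, nat_lit 25), (nat_lit 0, nat_lit 0, nat_lit 26), (nat_lit 0, nat_lit 0, nat_lit 41), (nat_lit 0, nat_lit 0, nat_lit 28), (nat_lit 0, nat_lit 0, nat_lit 29), (nat_lit 0, nat_lit 0, nat_lit 44), (nat_lit 0, nat_lit 0, nat_lit 45), (nat_lit 0, nat_lit 30, nat_lit 30), (nat_lit 0, nat_lit 0, nat_lit 1), (nat_lit 0, nat_lit 48, nat_lit 48), (nat_lit 0, nat_lit 0, nat_lit 49), (nat_lit 0, nat_lit 0, nat_lit 36), (nat_lit 0, nat_lit 0, nat_lit 51), (nat_lit 0, nat_lit 0, nat_lit 52), (nat_lit 0, nat_lit 0, nat_lit 53), (nat_lit 0, nat_lit 0, nat_lit 54), (nat_lit 0, nat_lit 0, nat_lit 41), (nat_lit 0, nat_lit 0, nat_lit 56), (nat_lit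 0, nat_lit 0, nat_lit 43), (nat_lit 0, nat_lit 0, nat_lit 58), (nat_lit 0, nat_lit 43, nat_lit 0), (nat_lit 1, nat_lit 0, nat_lit 0), (nat_lit 0, nat_lit 13, nat_lit 1), (nat_lit 0, nat_lit 0, nat_lit 41), (nat_lit 0, nat_lit 0, nat_lit 42), (nat_lit 0, nat_lit 0, nat_lit 16), (nat_lit 0, nat_lit 0, nat_lit 5), (nat_lit 0, nat_lit 0, nat_lit 18), (nat_lit 0, nat_lit 0, nat_lit 7), (nat_lit 0, nat_lit 0, nat_lit 33), (nat_lit 0, nat_lit 0, nat_lit 21), (nat_lit 0, nat_lit 0, nat_lit 49), (nat_lit 0, nat_lit 10, nat_lit 0)]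
def t3_7_7_s0 : Nat := nat_lit 0xb9ac97ca0874da0a0571554ac188e4
def t3_7_7_s1 : Nat := nat_lit 0xbda07428ad93d2e99046a856365220
def t3_7_7_s2 : Nat := nat_lit 0xb94c8811a3b3052aa66a5bcf1a3820
def t3_7_7_s3 : Nat := nat_lit 0xbb6ac339f65aa058c90399e8448820
def t3_7_7_s4 : Nat := nat_lit 0xbae703bcac245144b6caa99d218820
def t3_7_7_s5 : Nat := nat_lit 0xbcd69958b5a44c4829ed621c718820
def t3_7_7_s6 : Nat := nat_lit 0xbb5135bdd63160aa1ea964a2418820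
noncomputable def t3_7_7_lev0 : Core.Lev := Core.mkLev m23_n m23_w m23_mask m23_L m23_maskL m23_idc (nat_lit 0) [t3_7_7_s6, t3_7_7_s4, t3_7_7_s5, t3_7_7_s3, t3_7_7_s2, t3_7_7_s1, t3_7_7_s0] [(nat_lit 4, t3_7_7_s0, nat_lit 0), (nat_lit 18, t3_7_7_s4, nat_lit 4), (nat_lit 7, t3_7_7_s5, nat_lit 4), (nat_lit 17, t3_7_7_s2, nat_lit 4), (nat_lit 3, t3_7_7_s1, nat_lit 4), (nat_lit 12, t3_7_7_s0, nat_lit 4), (nat_lit 15, t3_7_7_s6, nat_lit 18), (nat_lit 22, t3_7_7_s5, nat_lit 18), (nat_lit 14, t3_7_7_s3, nat_lit 18), (nat_lit 10, t3_7_7_s1, nat_lit 18), (nat_lit 21, t3_7_7_s4, nat_lit 7), (nat_lit 19, t3_7_7_s3, nat_lit 7), (nat_lit 11, t3_7_7_s2, nat_lit 7), (nat_lit 5, t3_7_7_s4, nat_lit 17), (nat_lit 13, t3_7_7_s2, nat_lit 17), (nat_lit 16, t3_7_7_s0, nat_lit 17), (nat_lit 9, t3_7_7_s3, nat_lit 3), (nat_lit 20, t3_7_7_s2, nat_lit 3), (nat_lit 6, t3_7_7_s6,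 nat_lit 15), (nat_lit 1, t3_7_7_s0, nat_lit 10), (nat_lit 8, t3_7_7_s6, nat_lit 21), (nat_lit 2, t3_7_7_s2, nat_lit 13)]
noncomputable def t3_7_7_lev1 : Core.Lev := Core.mkLev m23_n m23_w m23_mask m23_L m23_maskL m23_idc (nat_lit 1) [t3_7_7_s6, t3_7_7_s4, t3_7_7_s5, t3_7_7_s3, t3_7_7_s2, t3_7_7_s1] [(nat_lit 17, t3_7_7_s1, nat_lit 1), (nat_lit 14, t3_7_7_s6, nat_lit 17), (nat_lit 5, t3_7_7_s4, nat_lit 17), (nat_lit 15, t3_7_7_s3, nat_lit 17), (nat_lit 13, t3_7_7_s2, nat_lit 17), (nat_lit 10, t3_7_7_s3, nat_lit 14), (nat_lit 12, t3_7_7_s2, nat_lit 14), (nat_lit 20, t3_7_7_s3, nat_lit 5), (nat_lit 7, t3_7_7_s2, nat_lit 5), (nat_lit 11, t3_7_7_s1, nat_lit 5), (nat_lit 6, t3_7_7_s6, nat_lit 15), (nat_lit 4, t3_7_7_s4, nat_lit 15), (nat_lit 22, t3_7_7_s2, nat_lit 15), (nat_lit 18, t3_7_7_s1, nat_lit 15), (nat_lit 16, t3_7_7_s6, nat_lit 13), (nat_lit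 8, t3_7_7_s4, nat_lit 13), (nat_lit 2, t3_7_7_s2, nat_lit 13), (nat_lit 9, t3_7_7_s1, nat_lit 13), (nat_lit 19, t3_7_7_s6, nat_lit 20), (nat_lit 21, t3_7_7_s4, nat_lit 7), (nat_lit 3, t3_7_7_s1, nat_lit 4)]
noncomputable def t3_7_7_lev2 : Core.Lev := Core.mkLev m23_n m23_w m23_mask m23_L m23_maskL m23_idc (nat_lit 2) [t3_7_7_s6, t3_7_7_s4, t3_7_7_s5, t3_7_7_s3, t3_7_7_s2] [(nat_lit 14, t3_7_7_s2, nat_lit 2), (nat_lit 5, t3_7_7_s6, nat_lit 14), (nat_lit 17, t3_7_7_s4, nat_lit 14), (nat_lit 10, t3_7_7_s3, nat_lit 14), (nat_lit 12, t3_7_7_s2, nat_lit 14), (nat_lit 20, t3_7_7_s3, nat_lit 5), (nat_lit 7, t3_7_7_s2, nat_lit 5), (nat_lit 15, t3_7_7_s3, nat_lit 17), (nat_lit 13, t3_7_7_s2, nat_lit 17), (nat_lit 18, t3_7_7_s3, nat_lit 10), (nat_lit 9, t3_7_7_s2, nat_lit 10), (nat_lit 4, t3_7_7_s5, nat_lit 12), (nat_lit 19, t3_7_7_s6, nat_lit 20), (nat_lit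 16, t3_7_7_s4, nat_lit 20), (nat_lit 8, t3_7_7_s2, nat_lit 20), (nat_lit 21, t3_7_7_s4, nat_lit 7), (nat_lit 11, t3_7_7_s2, nat_lit 7), (nat_lit 6, t3_7_7_s6, nat_lit 15), (nat_lit 22, t3_7_7_s2, nat_lit 15), (nat_lit 3, t3_7_7_s2, nat_lit 16)]
noncomputable def t3_7_7_lev3 : Core.Lev := Core.mkLev m23_n m23_w m23_mask m23_L m23_maskL m23_idc (nat_lit 3) [t3_7_7_s6, t3_7_7_s4, t3_7_7_s5, t3_7_7_s3] [(nat_lit 9, t3_7_7_s3, nat_lit 3), (nat_lit 21, t3_7_7_s6, nat_lit 9), (nat_lit 22, t3_7_7_s4, nat_lit 9), (nat_lit 15, t3_7_7_s5, nat_lit 9), (nat_lit 8, t3_7_7_s3, nat_lit 9), (nat_lit 19, t3_7_7_s4, nat_lit 21), (nat_lit 11, t3_7_7_s5, nat_lit 21), (nat_lit 13, t3_7_7_s6, nat_lit 22), (nat_lit 6, t3_7_7_s6, nat_lit 15), (nat_lit 4, t3_7_7_s4, nat_lit 15), (nat_lit 20, t3_7_7_s5, nat_lit 15), (nat_lit 10, t3_7_7_s4, nat_lit 8), (nat_lit 7, t3_7_7_s4,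 nat_lit 19), (nat_lit 18, t3_7_7_s5, nat_lit 19), (nat_lit 16, t3_7_7_s5, nat_lit 11), (nat_lit 17, t3_7_7_s3, nat_lit 11), (nat_lit 12, t3_7_7_s3, nat_lit 20), (nat_lit 14, t3_7_7_s3, nat_lit 18), (nat_lit 5, t3_7_7_s4, nat_lit 17)]
noncomputable def t3_7_7_lev4 : Core.Lev := Core.mkLev m23_n m23_w m23_mask m23_L m23_maskL m23_idc (nat_lit 4) [t3_7_7_s6, t3_7_7_s4, t3_7_7_s5] [(nat_lit 18, t3_7_7_s4, nat_lit 4), (nat_lit 7, t3_7_7_s5, nat_lit 4), (nat_lit 15, t3_7_7_s6, nat_lit 18), (nat_lit 22, t3_7_7_s5, nat_lit 18), (nat_lit 12, t3_7_7_s6, nat_lit 7), (nat_lit 21, t3_7_7_s4, nat_lit 7), (nat_lit 6, t3_7_7_s6, nat_lit 15), (nat_lit 20, t3_7_7_s5, nat_lit 15), (nat_lit 13, t3_7_7_s6, nat_lit 22), (nat_lit 11, t3_7_7_s4, nat_lit 22), (nat_lit 19, t3_7_7_s5, nat_lit 22), (nat_lit 10, t3_7_7_s6, nat_lit 12), (nat_lit 8, t3_7_7_s6, nat_lit 21), (nat_lit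 16, t3_7_7_s4, nat_lit 20), (nat_lit 9, t3_7_7_s5, nat_lit 20)]
noncomputable def t3_7_7_lev5 : Core.Lev := Core.mkLev m23_n m23_w m23_mask m23_L m23_maskL m23_idc (nat_lit 5) [t3_7_7_s6] [(nat_lit 17, t3_7_7_s6, nat_lit 5), (nat_lit 14, t3_7_7_s6, nat_lit 17)]
noncomputable def t3_7_7_levels : List Core.Lev := [t3_7_7_lev0, t3_7_7_lev1, t3_7_7_lev2, t3_7_7_lev3, t3_7_7_lev4, t3_7_7_lev5]
theorem t3_7_7_ok : Core.checkAll m23_n m23_w m23_mask m23_L m23_maskL m23_idc [t3_7_7_X, t3_7_7_Y] t3_7_7_prog t3_7_7_levels = true := by decide +kernel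
theorem t3_7_7_ord : Core.orderC t3_7_7_levels = 10200960 := by decide +kernel
theorem t3_7_7_tr : tripleOK 3 7 7 t3_7_7_X t3_7_7_Y = true := by decide +kernel
theorem wit_3_7_7 : WitP 3 7 7 := wit_of (by norm_num) (by norm_num) (by norm_num) t3_7_7_ok t3_7_7_ord t3_7_7_tr

def t3_7_11_X : Nat := nat_lit 0xb9ac97ca0874da0a0571554ac188e4
def t3_7_11_Y : Nat := nat_lit 0xbae12ab4547c506225933d86a015c1
def t3_7_11_prog : List (Nat × Nat × Nat) := [(nat_lit 1, nat_lit 1, nat_lit 0), (nat_lit 1, nat_lit 1, nat_lit 0), (nat_lit 0, nat_lit 3, nat_lit 2), (nat_lit 0, nat_lit 0, nat_lit 4), (nat_lit 0, nat_lit 0, nat_lit 4), (nat_lit 0, nat_lit 0, nat_lit 5), (nat_lit 0, nat_lit 5, nat_lit 5), (nat_lit 0, nat_lit 0, nat_lit 5), (nat_lit 0, nat_lit 0, nat_lit 6), (nat_lit 0, nat_lit 0, nat_lit 3), (nat_lit 0, nat_lit 10, nat_lit 11), (nat_lit 0, nat_lit 0,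 nat_lit 12), (nat_lit 0, nat_lit 0, nat_lit 12), (nat_lit 0, nat_lit 0, nat_lit 14), (nat_lit 0, nat_lit 0, nat_lit 14), (nat_lit 0, nat_lit 0, nat_lit 15), (nat_lit 0, nat_lit 0, nat_lit 17), (nat_lit 0, nat_lit 0, nat_lit 17), (nat_lit 0, nat_lit 0, nat_lit 18), (nat_lit 0, nat_lit 17, nat_lit 17), (nat_lit 0, nat_lit 0, nat_lit 18), (nat_lit 0, nat_lit 0, nat_lit 2), (nat_lit 1, nat_lit 12, nat_lit 0), (nat_lit 1, nat_lit 1, nat_lit 0), (nat_lit 0, nat_lit 14, nat_lit 2), (nat_lit 0, nat_lit 0, nat_lit 15), (nat_lit 0, nat_lit 0, nat_lit 16), (nat_lit 0, nat_lit 0, nat_lit 17), (nat_lit 0, nat_lit 5, nat_lit 5), (nat_lit 0, nat_lit 0, nat_lit 5), (nat_lit 0, nat_lit 0, nat_lit 6), (nat_lit 0, nat_lit 0, nat_lit 3), (nat_lit 0, nat_lit 22, nat_lit 22), (nat_lit 0, nat_lit 0, nat_lit 11), (nat_lit 0, nat_lit 0, nat_lit 24), (nat_lit 0, nat_lit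 0, nat_lit 25), (nat_lit 0, nat_lit 0, nat_lit 14), (nat_lit 0, nat_lit 0, nat_lit 15), (nat_lit 0, nat_lit 0, nat_lit 28), (nat_lit 0, nat_lit 0, nat_lit 17), (nat_lit 0, nat_lit 0, nat_lit 30), (nat_lit 0, nat_lit 17, nat_lit 18), (nat_lit 0, nat_lit 0, nat_lit 19), (nat_lit 0, nat_lit 0, nat_lit 20), (nat_lit 0, nat_lit 0, nat_lit 3), (nat_lit 1, nat_lit 13, nat_lit 0), (nat_lit 1, nat_lit 1, nat_lit 0), (nat_lit 0, nat_lit 15, nat_lit 2), (nat_lit 0, nat_lit 0, nat_lit 16), (nat_lit 0, nat_lit 0, nat_lit 4), (nat_lit 0, nat_lit 0, nat_lit 18), (nat_lit 0, nat_lit 0, nat_lit 19), (nat_lit 0, nat_lit 0, nat_lit 7), (nat_lit 0, nat_lit 0, nat_lit 21), (nat_lit 0, nat_lit 0, nat_lit 9), (nat_lit 0, nat_lit 0, nat_lit 10), (nat_lit 0, nat_lit 0, nat_lit 24), (nat_lit 0, nat_lit 10, nat_lit 11), (nat_lit 0, nat_lit 0, nat_lit 11), (nat_lit 0, nat_lit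 0, nat_lit 12), (nat_lit 0, nat_lit 0, nat_lit 14), (nat_lit 0, nat_lit 0, nat_lit 4), (nat_lit 0, nat_lit 17, nat_lit 17), (nat_lit 0, nat_lit 0, nat_lit 18), (nat_lit 0, nat_lit 0, nat_lit 32), (nat_lit 0, nat_lit 0, nat_lit 20), (nat_lit 0, nat_lit 0, nat_lit 34), (nat_lit 0, nat_lit 0, nat_lit 22), (nat_lit 0, nat_lit 0, nat_lit 23), (nat_lit 0, nat_lit 23, nat_lit 23), (nat_lit 0, nat_lit 0, nat_lit 24), (nat_lit 0, nat_lit 0, nat_lit 2), (nat_lit 0, nat_lit 19, nat_lit 27), (nat_lit 0, nat_lit 0, nat_lit 28), (nat_lit 0, nat_lit 27, nat_lit 27), (nat_lit 0, nat_lit 0, nat_lit 29), (nat_lit 0, nat_lit 0, nat_lit 2), (nat_lit 1, nat_lit 15, nat_lit 0), (nat_lit 1, nat_lit 6, nat_lit 0), (nat_lit 1, nat_lit 2, nat_lit 0), (nat_lit 0, nat_lit 3, nat_lit 8), (nat_lit 0, nat_lit 0, nat_lit 19), (nat_lit 0, nat_lit 0, nat_lit 10), (nat_lit 0, nat_lit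 3, nat_lit 0), (nat_lit 0, nat_lit 7, nat_lit 7), (nat_lit 0, nat_lit 0, nat_lit 23), (nat_lit 0, nat_lit 0, nat_lit 24), (nat_lit 0, nat_lit 0, nat_lit 10), (nat_lit 0, nat_lit 0, nat_lit 26), (nat_lit 0, nat_lit 0, nat_lit 27), (nat_lit 0, nat_lit 0, nat_lit 28), (nat_lit 0, nat_lit 0, nat_lit 14), (nat_lit 0, nat_lit 0, nat_lit 15), (nat_lit 0, nat_lit 15, nat_lit 13), (nat_lit 0, nat_lit 0, nat_lit 1), (nat_lit 0, nat_lit 33, nat_lit 18), (nat_lit 0, nat_lit 0, nat_lit 24), (nat_lit 0, nat_lit 0, nat_lit 20), (nat_lit 0, nat_lit 0, nat_lit 26), (nat_lit 0, nat_lit 0, nat_lit 27), (nat_lit 0, nat_lit 0, nat_lit 28), (nat_lit 0, nat_lit 0, nat_lit 24), (nat_lit 0, nat_lit 0, nat_lit 25), (nat_lit 0, nat_lit 0, nat_lit 26), (nat_lit 0, nat_lit 26, nat_lit 25), (nat_lit 0, nat_lit 0, nat_lit 27), (nat_lit 0, nat_lit 0, nat_lit 26), (nat_lit 0, nat_lit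 0, nat_lit 3), (nat_lit 1, nat_lit 0, nat_lit 0), (nat_lit 0, nat_lit 1, nat_lit 14), (nat_lit 0, nat_lit 0, nat_lit 2), (nat_lit 0, nat_lit 0, nat_lit 3), (nat_lit 0, nat_lit 3, nat_lit 0)]
def t3_7_11_s0 : Nat := nat_lit 0xb9ac97ca0874da0a0571554ac188e4
def t3_7_11_s1 : Nat := nat_lit 0xbc4a774c497c08b6aa56aa061a1980
def t3_7_11_s2 : Nat := nat_lit 0xb92305891560e49796743d9ae32820
def t3_7_11_s3 : Nat := nat_lit 0xbbe64a95746b131742c331d0a90820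
def t3_7_11_s4 : Nat := nat_lit 0xbc92655a2c3b9706cea47d0a818820
def t3_7_11_s5 : Nat := nat_lit 0xbc0ea332364b892451ebaccad18820
def t3_7_11_s6 : Nat := nat_lit 0xbb5135bdd63160aa1ea964a2418820
noncomputable def t3_7_11_lev0 : Core.Lev := Core.mkLev m23_n m23_w m23_mask m23_L m23_maskL m23_idc (nat_lit 0) [t3_7_11_s6, t3_7_11_s4, t3_7_11_s5, t3_7_11_s3, t3_7_11_s2, t3_7_11_s1, t3_7_11_s0] [(nat_lit 4, t3_7_11_s0, nat_lit 0), (nat_lit 8, t3_7_11_s4, nat_lit 4), (nat_lit 13, t3_7_11_s5, nat_lit 4), (nat_lit 10, t3_7_11_s3, nat_lit 4), (nat_lit 14, t3_7_11_s2, nat_lit 4), (nat_lit 1, t3_7_11_s1, nat_lit 4), (nat_lit 12, t3_7_11_s0, nat_lit 4), (nat_lit 9, t3_7_11_s6, nat_lit 8), (nat_lit 11, t3_7_11_s5, nat_lit 8), (nat_lit 3, t3_7_11_s3, nat_lit 8), (nat_lit 20, t3_7_11_s2, nat_lit 8), (nat_lit 22, t3_7_11_s1, nat_lit 8), (nat_lit 17, t3_7_11_s0,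 nat_lit 8), (nat_lit 16, t3_7_11_s6, nat_lit 13), (nat_lit 18, t3_7_11_s2, nat_lit 13), (nat_lit 7, t3_7_11_s6, nat_lit 10), (nat_lit 19, t3_7_11_s4, nat_lit 10), (nat_lit 5, t3_7_11_s2, nat_lit 10), (nat_lit 21, t3_7_11_s6, nat_lit 9), (nat_lit 15, t3_7_11_s5, nat_lit 9), (nat_lit 6, t3_7_11_s2, nat_lit 3), (nat_lit 2, t3_7_11_s1, nat_lit 17)]
noncomputable def t3_7_11_lev1 : Core.Lev := Core.mkLev m23_n m23_w m23_mask m23_L m23_maskL m23_idc (nat_lit 1) [t3_7_11_s6, t3_7_11_s4, t3_7_11_s5, t3_7_11_s3, t3_7_11_s2, t3_7_11_s1] [(nat_lit 12, t3_7_11_s1, nat_lit 1), (nat_lit 10, t3_7_11_s6, nat_lit 12), (nat_lit 16, t3_7_11_s4, nat_lit 12), (nat_lit 18, t3_7_11_s5, nat_lit 12), (nat_lit 17, t3_7_11_s3, nat_lit 12), (nat_lit 9, t3_7_11_s2, nat_lit 12), (nat_lit 11, t3_7_11_s1, nat_lit 12), (nat_lit 7, t3_7_11_s6, nat_lit 10), (nat_lit 19, t3_7_11_s4,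 nat_lit 10), (nat_lit 20, t3_7_11_s5, nat_lit 10), (nat_lit 5, t3_7_11_s2, nat_lit 10), (nat_lit 22, t3_7_11_s6, nat_lit 16), (nat_lit 21, t3_7_11_s2, nat_lit 16), (nat_lit 15, t3_7_11_s6, nat_lit 18), (nat_lit 2, t3_7_11_s2, nat_lit 18), (nat_lit 14, t3_7_11_s6, nat_lit 17), (nat_lit 8, t3_7_11_s2, nat_lit 17), (nat_lit 13, t3_7_11_s4, nat_lit 11), (nat_lit 6, t3_7_11_s3, nat_lit 7), (nat_lit 4, t3_7_11_s3, nat_lit 20), (nat_lit 3, t3_7_11_s1, nat_lit 5)]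
noncomputable def t3_7_11_lev2 : Core.Lev := Core.mkLev m23_n m23_w m23_mask m23_L m23_maskL m23_idc (nat_lit 2) [t3_7_11_s6, t3_7_11_s4, t3_7_11_s5, t3_7_11_s3, t3_7_11_s2] [(nat_lit 10, t3_7_11_s2, nat_lit 2), (nat_lit 7, t3_7_11_s6, nat_lit 10), (nat_lit 19, t3_7_11_s4, nat_lit 10), (nat_lit 20, t3_7_11_s5, nat_lit 10), (nat_lit 16, t3_7_11_s3, nat_lit 10), (nat_lit 5, t3_7_11_s2, nat_lit 10), (nat_lit 12, t3_7_11_s6, nat_lit 7), (nat_lit 15, t3_7_11_s4, nat_lit 7), (nat_lit 21, t3_7_11_s5, nat_lit 7), (nat_lit 6, t3_7_11_s3, nat_lit 7), (nat_lit 11, t3_7_11_s6, nat_lit 19), (nat_lit 4, t3_7_11_s3, nat_lit 20), (nat_lit 22, t3_7_11_s6, nat_lit 16), (nat_lit 17, t3_7_11_s6, nat_lit 5), (nat_lit 8, t3_7_11_s3, nat_lit 5), (nat_lit 13, t3_7_11_s2, nat_lit 5), (nat_lit 18, t3_7_11_s5, nat_lit 12), (nat_lit 9, t3_7_11_s2, nat_lit 12), (nat_lit 14,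 t3_7_11_s3, nat_lit 11), (nat_lit 3, t3_7_11_s3, nat_lit 8)]
noncomputable def t3_7_11_lev3 : Core.Lev := Core.mkLev m23_n m23_w m23_mask m23_L m23_maskL m23_idc (nat_lit 3) [t3_7_11_s6, t3_7_11_s4, t3_7_11_s5, t3_7_11_s3] [(nat_lit 18, t3_7_11_s3, nat_lit 3), (nat_lit 15, t3_7_11_s6, nat_lit 18), (nat_lit 22, t3_7_11_s4, nat_lit 18), (nat_lit 12, t3_7_11_s5, nat_lit 18), (nat_lit 5, t3_7_11_s3, nat_lit 18), (nat_lit 6, t3_7_11_s6, nat_lit 15), (nat_lit 7, t3_7_11_s4, nat_lit 15), (nat_lit 9, t3_7_11_s5, nat_lit 15), (nat_lit 13, t3_7_11_s3, nat_lit 15), (nat_lit 16, t3_7_11_s5, nat_lit 22), (nat_lit 10, t3_7_11_s6, nat_lit 12), (nat_lit 17, t3_7_11_s3, nat_lit 12), (nat_lit 8, t3_7_11_s3, nat_lit 5), (nat_lit 20, t3_7_11_s4, nat_lit 6), (nat_lit 19, t3_7_11_s5, nat_lit 6), (nat_lit 21, t3_7_11_s5, nat_lit 7), (nat_lit 11, t3_7_11_s4, nat_lit 13),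 (nat_lit 4, t3_7_11_s5, nat_lit 13), (nat_lit 14, t3_7_11_s6, nat_lit 17)]
noncomputable def t3_7_11_lev4 : Core.Lev := Core.mkLev m23_n m23_w m23_mask m23_L m23_maskL m23_idc (nat_lit 4) [t3_7_11_s6, t3_7_11_s4, t3_7_11_s5] [(nat_lit 8, t3_7_11_s4, nat_lit 4), (nat_lit 13, t3_7_11_s5, nat_lit 4), (nat_lit 9, t3_7_11_s6, nat_lit 8), (nat_lit 11, t3_7_11_s5, nat_lit 8), (nat_lit 16, t3_7_11_s6, nat_lit 13), (nat_lit 21, t3_7_11_s6, nat_lit 9), (nat_lit 15, t3_7_11_s5, nat_lit 9), (nat_lit 20, t3_7_11_s6, nat_lit 11), (nat_lit 22, t3_7_11_s6, nat_lit 16), (nat_lit 12, t3_7_11_s4, nat_lit 16), (nat_lit 7, t3_7_11_s5, nat_lit 21), (nat_lit 6, t3_7_11_s6, nat_lit 15), (nat_lit 19, t3_7_11_s6, nat_lit 20), (nat_lit 10, t3_7_11_s5, nat_lit 20), (nat_lit 18, t3_7_11_s4, nat_lit 22)]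
noncomputable def t3_7_11_lev5 : Core.Lev := Core.mkLev m23_n m23_w m23_mask m23_L m23_maskL m23_idc (nat_lit 5) [t3_7_11_s6] [(nat_lit 17, t3_7_11_s6, nat_lit 5), (nat_lit 14, t3_7_11_s6, nat_lit 17)]
noncomputable def t3_7_11_levels : List Core.Lev := [t3_7_11_lev0, t3_7_11_lev1, t3_7_11_lev2, t3_7_11_lev3, t3_7_11_lev4, t3_7_11_lev5]
theorem t3_7_11_ok : Core.checkAll m23_n m23_w m23_mask m23_L m23_maskL m23_idc [t3_7_11_X, t3_7_11_Y] t3_7_11_prog t3_7_11_levels = true := by decide +kernel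
theorem t3_7_11_ord : Core.orderC t3_7_11_levels = 10200960 := by decide +kernel
theorem t3_7_11_tr : tripleOK 3 7 11 t3_7_11_X t3_7_11_Y = true := by decide +kernel
theorem wit_3_7_11 : WitP 3 7 11 := wit_of (by norm_num) (by norm_num) (by norm_num) t3_7_11_ok t3_7_11_ord t3_7_11_tr

def t3_7_23_X : Nat := nat_lit 0xb9ac97ca0874da0a0571554ac188e4
def t3_7_23_Y : Nat := nat_lit 0xbc4a8612433bac97b57502846a4033
def t3_7_23_prog : List (Nat × Nat × Nat) := [(nat_lit 1, nat_lit 1, nat_lit 0), (nat_lit 1, nat_lit 1, nat_lit 0), (nat_lit 0, nat_lit 3, nat_lit 2), (nat_lit 0, nat_lit 0, nat_lit 4), (nat_lit 0, nat_lit 0, nat_lit 4), (nat_lit 0, nat_lit 0, nat_lit 5), (nat_lit 0, nat_lit 4, nat_lit 5), (nat_lit 0, nat_lit 0, nat_lit 1), (nat_lit 0, nat_lit 8, nat_lit 9), (nat_lit 0, nat_lit 0, nat_lit 10), (nat_lit 0, nat_lit 0, nat_lit 10), (nat_lit 0,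 nat_lit 0, nat_lit 12), (nat_lit 0, nat_lit 0, nat_lit 12), (nat_lit 0, nat_lit 0, nat_lit 13), (nat_lit 0, nat_lit 0, nat_lit 15), (nat_lit 0, nat_lit 0, nat_lit 15), (nat_lit 0, nat_lit 0, nat_lit 16), (nat_lit 0, nat_lit 10, nat_lit 16), (nat_lit 0, nat_lit 0, nat_lit 1), (nat_lit 1, nat_lit 11, nat_lit 0), (nat_lit 1, nat_lit 1, nat_lit 0), (nat_lit 0, nat_lit 13, nat_lit 2), (nat_lit 0, nat_lit 0, nat_lit 14), (nat_lit 0, nat_lit 0, nat_lit 15), (nat_lit 0, nat_lit 0, nat_lit 16), (nat_lit 0, nat_lit 4, nat_lit 5), (nat_lit 0, nat_lit 0, nat_lit 5), (nat_lit 0, nat_lit 0, nat_lit 7), (nat_lit 0, nat_lit 0, nat_lit 3), (nat_lit 0, nat_lit 21, nat_lit 21), (nat_lit 0, nat_lit 0, nat_lit 11), (nat_lit 0, nat_lit 0, nat_lit 23), (nat_lit 0, nat_lit 0, nat_lit 24), (nat_lit 0, nat_lit 0, nat_lit 14), (nat_lit 0, nat_lit 0, nat_lit 15), (nat_lit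 0, nat_lit 0, nat_lit 27), (nat_lit 0, nat_lit 0, nat_lit 17), (nat_lit 0, nat_lit 0, nat_lit 29), (nat_lit 0, nat_lit 18, nat_lit 17), (nat_lit 0, nat_lit 0, nat_lit 19), (nat_lit 0, nat_lit 0, nat_lit 19), (nat_lit 0, nat_lit 0, nat_lit 21), (nat_lit 0, nat_lit 0, nat_lit 4), (nat_lit 0, nat_lit 20, nat_lit 24), (nat_lit 0, nat_lit 0, nat_lit 36), (nat_lit 0, nat_lit 0, nat_lit 37), (nat_lit 0, nat_lit 0, nat_lit 27), (nat_lit 0, nat_lit 0, nat_lit 39), (nat_lit 0, nat_lit 0, nat_lit 29), (nat_lit 0, nat_lit 0, nat_lit 30), (nat_lit 0, nat_lit 0, nat_lit 42), (nat_lit 0, nat_lit 30, nat_lit 30), (nat_lit 0, nat_lit 0, nat_lit 31), (nat_lit 0, nat_lit 0, nat_lit 2), (nat_lit 1, nat_lit 25, nat_lit 0), (nat_lit 1, nat_lit 12, nat_lit 0), (nat_lit 1, nat_lit 2, nat_lit 0), (nat_lit 0, nat_lit 14, nat_lit 3), (nat_lit 0, nat_lit 0, nat_lit 15), (nat_lit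 0, nat_lit 0, nat_lit 5), (nat_lit 0, nat_lit 0, nat_lit 17), (nat_lit 0, nat_lit 0, nat_lit 7), (nat_lit 0, nat_lit 0, nat_lit 33), (nat_lit 0, nat_lit 0, nat_lit 20), (nat_lit 0, nat_lit 35, nat_lit 21), (nat_lit 0, nat_lit 0, nat_lit 11), (nat_lit 0, nat_lit 0, nat_lit 37), (nat_lit 0, nat_lit 0, nat_lit 24), (nat_lit 0, nat_lit 0, nat_lit 14), (nat_lit 0, nat_lit 0, nat_lit 15), (nat_lit 0, nat_lit 0, nat_lit 16), (nat_lit 0, nat_lit 0, nat_lit 17), (nat_lit 0, nat_lit 0, nat_lit 29), (nat_lit 0, nat_lit 16, nat_lit 17), (nat_lit 0, nat_lit 0, nat_lit 1), (nat_lit 0, nat_lit 46, nat_lit 21), (nat_lit 0, nat_lit 0, nat_lit 22), (nat_lit 0, nat_lit 0, nat_lit 48), (nat_lit 0, nat_lit 0, nat_lit 49), (nat_lit 0, nat_lit 0, nat_lit 25), (nat_lit 0, nat_lit 0, nat_lit 37), (nat_lit 0, nat_lit 0, nat_lit 38), (nat_lit 0, nat_lit 0, nat_lit 39), (nat_lit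 0, nat_lit 0, nat_lit 29), (nat_lit 0, nat_lit 0, nat_lit 55), (nat_lit 0, nat_lit 28, nat_lit 30), (nat_lit 0, nat_lit 0, nat_lit 1), (nat_lit 1, nat_lit 23, nat_lit 0), (nat_lit 1, nat_lit 13, nat_lit 0), (nat_lit 1, nat_lit 2, nat_lit 0), (nat_lit 0, nat_lit 15, nat_lit 15), (nat_lit 0, nat_lit 2, nat_lit 2), (nat_lit 0, nat_lit 2, nat_lit 4), (nat_lit 0, nat_lit 29, nat_lit 6), (nat_lit 0, nat_lit 0, nat_lit 19), (nat_lit 0, nat_lit 0, nat_lit 8), (nat_lit 0, nat_lit 0, nat_lit 21), (nat_lit 0, nat_lit 0, nat_lit 22), (nat_lit 0, nat_lit 0, nat_lit 23), (nat_lit 0, nat_lit 0, nat_lit 12), (nat_lit 0, nat_lit 0, nat_lit 13), (nat_lit 0, nat_lit 0, nat_lit 14), (nat_lit 0, nat_lit 10, nat_lit 0), (nat_lit 0, nat_lit 9, nat_lit 39), (nat_lit 0, nat_lit 0, nat_lit 29), (nat_lit 0, nat_lit 0, nat_lit 41), (nat_lit 0, nat_lit 0, nat_lit 31), (nat_lit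 0, nat_lit 0, nat_lit 32), (nat_lit 0, nat_lit 0, nat_lit 21), (nat_lit 0, nat_lit 0, nat_lit 22), (nat_lit 0, nat_lit 0, nat_lit 46), (nat_lit 0, nat_lit 0, nat_lit 24), (nat_lit 0, nat_lit 0, nat_lit 37), (nat_lit 0, nat_lit 20, nat_lit 0), (nat_lit 0, nat_lit 23, nat_lit 39), (nat_lit 0, nat_lit 0, nat_lit 51), (nat_lit 0, nat_lit 0, nat_lit 29), (nat_lit 0, nat_lit 0, nat_lit 30), (nat_lit 0, nat_lit 0, nat_lit 31), (nat_lit 0, nat_lit 0, nat_lit 32), (nat_lit 0, nat_lit 0, nat_lit 45), (nat_lit 0, nat_lit 34, nat_lit 57), (nat_lit 0, nat_lit 0, nat_lit 35), (nat_lit 0, nat_lit 0, nat_lit 48), (nat_lit 0, nat_lit 0, nat_lit 60), (nat_lit 0, nat_lit 0, nat_lit 38), (nat_lit 0, nat_lit 38, nat_lit 0), (nat_lit 1, nat_lit 13, nat_lit 0), (nat_lit 1, nat_lit 7, nat_lit 0), (nat_lit 0, nat_lit 15, nat_lit 26), (nat_lit 0, nat_lit 0, nat_lit 3), (nat_lit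 0, nat_lit 0, nat_lit 17), (nat_lit 0, nat_lit 0, nat_lit 11), (nat_lit 0, nat_lit 0, nat_lit 12), (nat_lit 0, nat_lit 0, nat_lit 31), (nat_lit 0, nat_lit 0, nat_lit 21), (nat_lit 0, nat_lit 7, nat_lit 8), (nat_lit 0, nat_lit 0, nat_lit 1)]
def t3_7_23_s0 : Nat := nat_lit 0xb9ac97ca0874da0a0571554ac188e4
def t3_7_23_s1 : Nat := nat_lit 0xbc8565d58924e14519c57b50188ce0
def t3_7_23_s2 : Nat := nat_lit 0xba9ab79cb545083830499c6ce34820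
def t3_7_23_s3 : Nat := nat_lit 0xbb26f30db251105751313d6cb80820
def t3_7_23_s4 : Nat := nat_lit 0xba613220aa3c5f25d4cc6d9d418820
def t3_7_23_s5 : Nat := nat_lit 0xbae957b6289ba44b1cd0524ac18820
def t3_7_23_s6 : Nat := nat_lit 0xbb5135bdd63160aa1ea964a2418820
noncomputable def t3_7_23_lev0 : Core.Lev := Core.mkLev m23_n m23_w m23_mask m23_L m23_maskL m23_idc (nat_lit 0) [t3_7_23_s6, t3_7_23_s4, t3_7_23_s5, t3_7_23_s3, t3_7_23_s2, t3_7_23_s1, t3_7_23_s0] [(nat_lit 4, t3_7_23_s0, nat_lit 0), (nat_lit 20, t3_7_23_s4, nat_lit 4), (nat_lit 12, t3_7_23_s5, nat_lit 4), (nat_lit 11, t3_7_23_s3, nat_lit 4), (nat_lit 14, t3_7_23_s2, nat_lit 4), (nat_lit 1, t3_7_23_s1, nat_lit 4), (nat_lit 19, t3_7_23_s6, nat_lit 20), (nat_lit 21, t3_7_23_s5, nat_lit 20), (nat_lit 15, t3_7_23_s3, nat_lit 20), (nat_lit 22, t3_7_23_s1, nat_lit 20), (nat_lit 9, t3_7_23_s0, nat_lit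 20), (nat_lit 10, t3_7_23_s6, nat_lit 12), (nat_lit 18, t3_7_23_s4, nat_lit 12), (nat_lit 5, t3_7_23_s3, nat_lit 12), (nat_lit 3, t3_7_23_s2, nat_lit 12), (nat_lit 16, t3_7_23_s2, nat_lit 11), (nat_lit 17, t3_7_23_s4, nat_lit 14), (nat_lit 7, t3_7_23_s1, nat_lit 1), (nat_lit 6, t3_7_23_s3, nat_lit 19), (nat_lit 8, t3_7_23_s6, nat_lit 21), (nat_lit 13, t3_7_23_s2, nat_lit 21), (nat_lit 2, t3_7_23_s1, nat_lit 21)]
noncomputable def t3_7_23_lev1 : Core.Lev := Core.mkLev m23_n m23_w m23_mask m23_L m23_maskL m23_idc (nat_lit 1) [t3_7_23_s6, t3_7_23_s4, t3_7_23_s5, t3_7_23_s3, t3_7_23_s2, t3_7_23_s1] [(nat_lit 7, t3_7_23_s1, nat_lit 1), (nat_lit 12, t3_7_23_s6, nat_lit 7), (nat_lit 13, t3_7_23_s4, nat_lit 7), (nat_lit 10, t3_7_23_s5, nat_lit 7), (nat_lit 19, t3_7_23_s2, nat_lit 7), (nat_lit 15, t3_7_23_s1, nat_lit 7), (nat_lit 18, t3_7_23_s4, nat_lit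 12), (nat_lit 4, t3_7_23_s5, nat_lit 12), (nat_lit 5, t3_7_23_s3, nat_lit 12), (nat_lit 3, t3_7_23_s2, nat_lit 12), (nat_lit 20, t3_7_23_s1, nat_lit 12), (nat_lit 16, t3_7_23_s6, nat_lit 13), (nat_lit 8, t3_7_23_s3, nat_lit 13), (nat_lit 21, t3_7_23_s4, nat_lit 10), (nat_lit 6, t3_7_23_s1, nat_lit 10), (nat_lit 11, t3_7_23_s6, nat_lit 19), (nat_lit 14, t3_7_23_s2, nat_lit 4), (nat_lit 17, t3_7_23_s6, nat_lit 5), (nat_lit 22, t3_7_23_s3, nat_lit 5), (nat_lit 9, t3_7_23_s1, nat_lit 16), (nat_lit 2, t3_7_23_s1, nat_lit 21)]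
noncomputable def t3_7_23_lev2 : Core.Lev := Core.mkLev m23_n m23_w m23_mask m23_L m23_maskL m23_idc (nat_lit 2) [t3_7_23_s6, t3_7_23_s4, t3_7_23_s5, t3_7_23_s3, t3_7_23_s2] [(nat_lit 18, t3_7_23_s2, nat_lit 2), (nat_lit 15, t3_7_23_s6, nat_lit 18), (nat_lit 8, t3_7_23_s4, nat_lit 18), (nat_lit 13, t3_7_23_s5, nat_lit 18), (nat_lit 3, t3_7_23_s3, nat_lit 18), (nat_lit 7, t3_7_23_s2, nat_lit 18), (nat_lit 6, t3_7_23_s6, nat_lit 15), (nat_lit 19, t3_7_23_s5, nat_lit 15), (nat_lit 10, t3_7_23_s3, nat_lit 15), (nat_lit 9, t3_7_23_s6, nat_lit 8), (nat_lit 12, t3_7_23_s4, nat_lit 8), (nat_lit 16, t3_7_23_s5, nat_lit 8), (nat_lit 17, t3_7_23_s3, nat_lit 8), (nat_lit 4, t3_7_23_s2, nat_lit 13), (nat_lit 22, t3_7_23_s4, nat_lit 6), (nat_lit 21, t3_7_23_s3, nat_lit 6), (nat_lit 11, t3_7_23_s6, nat_lit 19), (nat_lit 20, t3_7_23_s3, nat_lit 10), (nat_lit 5,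 t3_7_23_s3, nat_lit 12), (nat_lit 14, t3_7_23_s6, nat_lit 17)]
noncomputable def t3_7_23_lev3 : Core.Lev := Core.mkLev m23_n m23_w m23_mask m23_L m23_maskL m23_idc (nat_lit 3) [t3_7_23_s6, t3_7_23_s4, t3_7_23_s5, t3_7_23_s3] [(nat_lit 16, t3_7_23_s3, nat_lit 3), (nat_lit 22, t3_7_23_s6, nat_lit 16), (nat_lit 10, t3_7_23_s4, nat_lit 16), (nat_lit 8, t3_7_23_s5, nat_lit 16), (nat_lit 18, t3_7_23_s3, nat_lit 16), (nat_lit 13, t3_7_23_s6, nat_lit 22), (nat_lit 9, t3_7_23_s4, nat_lit 22), (nat_lit 11, t3_7_23_s5, nat_lit 22), (nat_lit 12, t3_7_23_s3, nat_lit 22), (nat_lit 7, t3_7_23_s6, nat_lit 10), (nat_lit 21, t3_7_23_s4, nat_lit 10), (nat_lit 20, t3_7_23_s3, nat_lit 10), (nat_lit 17, t3_7_23_s3, nat_lit 8), (nat_lit 15, t3_7_23_s6, nat_lit 18), (nat_lit 6, t3_7_23_s4, nat_lit 9), (nat_lit 14, t3_7_23_s3, nat_lit 11), (nat_lit 4, t3_7_23_s5, nat_lit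 12), (nat_lit 5, t3_7_23_s3, nat_lit 12), (nat_lit 19, t3_7_23_s3, nat_lit 21)]
noncomputable def t3_7_23_lev4 : Core.Lev := Core.mkLev m23_n m23_w m23_mask m23_L m23_maskL m23_idc (nat_lit 4) [t3_7_23_s6, t3_7_23_s4, t3_7_23_s5] [(nat_lit 20, t3_7_23_s4, nat_lit 4), (nat_lit 12, t3_7_23_s5, nat_lit 4), (nat_lit 19, t3_7_23_s6, nat_lit 20), (nat_lit 21, t3_7_23_s5, nat_lit 20), (nat_lit 10, t3_7_23_s6, nat_lit 12), (nat_lit 18, t3_7_23_s4, nat_lit 12), (nat_lit 11, t3_7_23_s6, nat_lit 19), (nat_lit 15, t3_7_23_s5, nat_lit 19), (nat_lit 8, t3_7_23_s6, nat_lit 21), (nat_lit 16, t3_7_23_s4, nat_lit 21), (nat_lit 7, t3_7_23_s6, nat_lit 10), (nat_lit 13, t3_7_23_s5, nat_lit 18), (nat_lit 22, t3_7_23_s5, nat_lit 11), (nat_lit 6, t3_7_23_s6, nat_lit 15), (nat_lit 9, t3_7_23_s6, nat_lit 8)]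
noncomputable def t3_7_23_lev5 : Core.Lev := Core.mkLev m23_n m23_w m23_mask m23_L m23_maskL m23_idc (nat_lit 5) [t3_7_23_s6] [(nat_lit 17, t3_7_23_s6, nat_lit 5), (nat_lit 14, t3_7_23_s6, nat_lit 17)]
noncomputable def t3_7_23_levels : List Core.Lev := [t3_7_23_lev0, t3_7_23_lev1, t3_7_23_lev2, t3_7_23_lev3, t3_7_23_lev4, t3_7_23_lev5]
theorem t3_7_23_ok : Core.checkAll m23_n m23_w m23_mask m23_L m23_maskL m23_idc [t3_7_23_X, t3_7_23_Y] t3_7_23_prog t3_7_23_levels = true := by decide +kernel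
theorem t3_7_23_ord : Core.orderC t3_7_23_levels = 10200960 := by decide +kernel
theorem t3_7_23_tr : tripleOK 3 7 23 t3_7_23_X t3_7_23_Y = true := by decide +kernel
theorem wit_3_7_23 : WitP 3 7 23 := wit_of (by norm_num) (by norm_num) (by norm_num) t3_7_23_ok t3_7_23_ord t3_7_23_tr

def t3_11_11_X : Nat := nat_lit 0xb9ac97ca0874da0a0571554ac188e4
def t3_11_11_Y : Nat := nat_lit 0xbd9337820822e253b0d46c84e0d543
def t3_11_11_prog : List (Nat × Nat × Nat) := [(nat_lit 1, nat_lit 1, nat_lit 0), (nat_lit 1, nat_lit 1, nat_lit 0), (nat_lit 0, nat_lit 3, nat_lit 2), (nat_lit 0, nat_lit 0, nat_lit 4), (nat_lit 0, nat_lit 0, nat_lit 4), (nat_lit 0, nat_lit 0, nat_lit 5), (nat_lit 0, nat_lit 4, nat_lit 4), (nat_lit 0, nat_lit 0, nat_lit 6), (nat_lit 0, nat_lit 0, nat_lit 6), (nat_lit 0, nat_lit 0, nat_lit 3), (nat_lit 0, nat_lit 10, nat_lit 11), (nat_lit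 0, nat_lit 0, nat_lit 12), (nat_lit 0, nat_lit 0, nat_lit 12), (nat_lit 0, nat_lit 0, nat_lit 14), (nat_lit 0, nat_lit 0, nat_lit 14), (nat_lit 0, nat_lit 0, nat_lit 15), (nat_lit 0, nat_lit 0, nat_lit 17), (nat_lit 0, nat_lit 0, nat_lit 17), (nat_lit 0, nat_lit 0, nat_lit 18), (nat_lit 0, nat_lit 10, nat_lit 17), (nat_lit 0, nat_lit 0, nat_lit 19), (nat_lit 0, nat_lit 0, nat_lit 20), (nat_lit 0, nat_lit 0, nat_lit 3), (nat_lit 1, nat_lit 0, nat_lit 0), (nat_lit 1, nat_lit 14, nat_lit 0), (nat_lit 0, nat_lit 15, nat_lit 2), (nat_lit 0, nat_lit 0, nat_lit 16), (nat_lit 0, nat_lit 3, nat_lit 2), (nat_lit 0, nat_lit 18, nat_lit 18), (nat_lit 0, nat_lit 0, nat_lit 6), (nat_lit 0, nat_lit 0, nat_lit 20), (nat_lit 0, nat_lit 0, nat_lit 21), (nat_lit 0, nat_lit 0, nat_lit 9), (nat_lit 0, nat_lit 0, nat_lit 10), (nat_lit 0, nat_lit 0, nat_lit 24), (nat_lit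 0, nat_lit 0, nat_lit 12), (nat_lit 0, nat_lit 0, nat_lit 26), (nat_lit 0, nat_lit 13, nat_lit 13), (nat_lit 0, nat_lit 0, nat_lit 13), (nat_lit 0, nat_lit 0, nat_lit 14), (nat_lit 0, nat_lit 0, nat_lit 3), (nat_lit 0, nat_lit 14, nat_lit 18), (nat_lit 0, nat_lit 0, nat_lit 32), (nat_lit 0, nat_lit 0, nat_lit 33), (nat_lit 0, nat_lit 0, nat_lit 21), (nat_lit 0, nat_lit 0, nat_lit 35), (nat_lit 0, nat_lit 0, nat_lit 23), (nat_lit 0, nat_lit 0, nat_lit 24), (nat_lit 0, nat_lit 0, nat_lit 38), (nat_lit 0, nat_lit 21, nat_lit 24), (nat_lit 0, nat_lit 0, nat_lit 26), (nat_lit 0, nat_lit 0, nat_lit 26), (nat_lit 0, nat_lit 0, nat_lit 27), (nat_lit 0, nat_lit 0, nat_lit 29), (nat_lit 0, nat_lit 0, nat_lit 30), (nat_lit 0, nat_lit 0, nat_lit 6), (nat_lit 1, nat_lit 15, nat_lit 0), (nat_lit 1, nat_lit 1, nat_lit 0), (nat_lit 0, nat_lit 2, nat_lit 2), (nat_lit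 0, nat_lit 0, nat_lit 3), (nat_lit 0, nat_lit 0, nat_lit 19), (nat_lit 0, nat_lit 0, nat_lit 5), (nat_lit 0, nat_lit 0, nat_lit 21), (nat_lit 0, nat_lit 0, nat_lit 7), (nat_lit 0, nat_lit 0, nat_lit 8), (nat_lit 0, nat_lit 7, nat_lit 8), (nat_lit 0, nat_lit 0, nat_lit 1), (nat_lit 0, nat_lit 26, nat_lit 11), (nat_lit 0, nat_lit 0, nat_lit 27), (nat_lit 0, nat_lit 0, nat_lit 13), (nat_lit 0, nat_lit 0, nat_lit 29), (nat_lit 0, nat_lit 0, nat_lit 30), (nat_lit 0, nat_lit 0, nat_lit 16), (nat_lit 0, nat_lit 0, nat_lit 17), (nat_lit 0, nat_lit 0, nat_lit 18), (nat_lit 0, nat_lit 9, nat_lit 18), (nat_lit 0, nat_lit 0, nat_lit 19), (nat_lit 0, nat_lit 0, nat_lit 19), (nat_lit 0, nat_lit 0, nat_lit 3), (nat_lit 1, nat_lit 12, nat_lit 0), (nat_lit 1, nat_lit 1, nat_lit 0), (nat_lit 0, nat_lit 2, nat_lit 2), (nat_lit 0, nat_lit 0, nat_lit 3), (nat_lit 0,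 nat_lit 0, nat_lit 16), (nat_lit 0, nat_lit 0, nat_lit 5), (nat_lit 0, nat_lit 0, nat_lit 18), (nat_lit 0, nat_lit 0, nat_lit 19), (nat_lit 0, nat_lit 0, nat_lit 8), (nat_lit 0, nat_lit 0, nat_lit 21), (nat_lit 0, nat_lit 9, nat_lit 8), (nat_lit 0, nat_lit 0, nat_lit 9), (nat_lit 0, nat_lit 0, nat_lit 11), (nat_lit 0, nat_lit 0, nat_lit 3), (nat_lit 0, nat_lit 14, nat_lit 26), (nat_lit 0, nat_lit 0, nat_lit 15), (nat_lit 0, nat_lit 0, nat_lit 16), (nat_lit 0, nat_lit 0, nat_lit 17), (nat_lit 0, nat_lit 0, nat_lit 18), (nat_lit 0, nat_lit 0, nat_lit 19), (nat_lit 0, nat_lit 0, nat_lit 32), (nat_lit 0, nat_lit 0, nat_lit 21), (nat_lit 0, nat_lit 21, nat_lit 0), (nat_lit 0, nat_lit 35, nat_lit 23), (nat_lit 0, nat_lit 0, nat_lit 36), (nat_lit 0, nat_lit 0, nat_lit 37), (nat_lit 0, nat_lit 0, nat_lit 38), (nat_lit 0, nat_lit 0, nat_lit 27), (nat_lit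 0, nat_lit 0, nat_lit 40), (nat_lit 0, nat_lit 0, nat_lit 29), (nat_lit 0, nat_lit 0, nat_lit 30), (nat_lit 0, nat_lit 29, nat_lit 30), (nat_lit 0, nat_lit 0, nat_lit 30), (nat_lit 0, nat_lit 0, nat_lit 32), (nat_lit 0, nat_lit 0, nat_lit 32), (nat_lit 0, nat_lit 0, nat_lit 4), (nat_lit 1, nat_lit 0, nat_lit 0), (nat_lit 0, nat_lit 23, nat_lit 23), (nat_lit 0, nat_lit 0, nat_lit 15), (nat_lit 0, nat_lit 0, nat_lit 3), (nat_lit 0, nat_lit 0, nat_lit 4), (nat_lit 0, nat_lit 0, nat_lit 27), (nat_lit 0, nat_lit 0, nat_lit 6), (nat_lit 0, nat_lit 0, nat_lit 20), (nat_lit 0, nat_lit 7, nat_lit 0)]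
def t3_11_11_s0 : Nat := nat_lit 0xb9ac97ca0874da0a0571554ac188e4
def t3_11_11_s1 : Nat := nat_lit 0xb8c8d80a2e9952191ac8a9deaa3160
def t3_11_11_s2 : Nat := nat_lit 0xbcc8d33e1659dd4516a2646481a420
def t3_11_11_s3 : Nat := nat_lit 0xb9c6f722d54b6725aa8c8948680820
def t3_11_11_s4 : Nat := nat_lit 0xbbec66acb4ac52c41e72241ca18820
def t3_11_11_s5 : Nat := nat_lit 0xbc255651c4395a979a6a5a23618820
def t3_11_11_s6 : Nat := nat_lit 0xbc12ba18ad946c79b11553dc418820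
noncomputable def t3_11_11_lev0 : Core.Lev := Core.mkLev m23_n m23_w m23_mask m23_L m23_maskL m23_idc (nat_lit 0) [t3_11_11_s6, t3_11_11_s4, t3_11_11_s5, t3_11_11_s3, t3_11_11_s2, t3_11_11_s1, t3_11_11_s0] [(nat_lit 4, t3_11_11_s0, nat_lit 0), (nat_lit 10, t3_11_11_s4, nat_lit 4), (nat_lit 22, t3_11_11_s5, nat_lit 4), (nat_lit 6, t3_11_11_s3, nat_lit 4), (nat_lit 8, t3_11_11_s2, nat_lit 4), (nat_lit 12, t3_11_11_s0, nat_lit 4), (nat_lit 7, t3_11_11_s4, nat_lit 10), (nat_lit 5, t3_11_11_s2, nat_lit 10), (nat_lit 1, t3_11_11_s0, nat_lit 10), (nat_lit 16, t3_11_11_s6, nat_lit 22), (nat_lit 15, t3_11_11_s4, nat_lit 22), (nat_lit 19, t3_11_11_s2, nat_lit 22), (nat_lit 3, t3_11_11_s1, nat_lit 22), (nat_lit 17, t3_11_11_s2, nat_lit 6), (nat_lit 21, t3_11_11_s0, nat_lit 6), (nat_lit 18, t3_11_11_s4, nat_lit 8), (nat_lit 2, t3_11_11_s2, nat_lit 8), (nat_lit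 9, t3_11_11_s5, nat_lit 12), (nat_lit 20, t3_11_11_s2, nat_lit 12), (nat_lit 11, t3_11_11_s5, nat_lit 7), (nat_lit 14, t3_11_11_s6, nat_lit 5), (nat_lit 13, t3_11_11_s6, nat_lit 16)]
noncomputable def t3_11_11_lev1 : Core.Lev := Core.mkLev m23_n m23_w m23_mask m23_L m23_maskL m23_idc (nat_lit 1) [t3_11_11_s6, t3_11_11_s4, t3_11_11_s5, t3_11_11_s3, t3_11_11_s2, t3_11_11_s1] [(nat_lit 11, t3_11_11_s1, nat_lit 1), (nat_lit 19, t3_11_11_s6, nat_lit 11), (nat_lit 8, t3_11_11_s4, nat_lit 11), (nat_lit 15, t3_11_11_s5, nat_lit 11), (nat_lit 10, t3_11_11_s2, nat_lit 11), (nat_lit 18, t3_11_11_s1, nat_lit 11), (nat_lit 20, t3_11_11_s6, nat_lit 19), (nat_lit 13, t3_11_11_s4, nat_lit 19), (nat_lit 12, t3_11_11_s5, nat_lit 19), (nat_lit 14, t3_11_11_s3, nat_lit 19), (nat_lit 6, t3_11_11_s2, nat_lit 19), (nat_lit 16, t3_11_11_s1, nat_lit 19), (nat_lit 21, t3_11_11_s6,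 nat_lit 8), (nat_lit 2, t3_11_11_s2, nat_lit 8), (nat_lit 7, t3_11_11_s5, nat_lit 15), (nat_lit 9, t3_11_11_s3, nat_lit 15), (nat_lit 5, t3_11_11_s2, nat_lit 10), (nat_lit 22, t3_11_11_s6, nat_lit 13), (nat_lit 17, t3_11_11_s6, nat_lit 14), (nat_lit 4, t3_11_11_s5, nat_lit 16), (nat_lit 3, t3_11_11_s3, nat_lit 21)]
noncomputable def t3_11_11_lev2 : Core.Lev := Core.mkLev m23_n m23_w m23_mask m23_L m23_maskL m23_idc (nat_lit 2) [t3_11_11_s6, t3_11_11_s4, t3_11_11_s5, t3_11_11_s3, t3_11_11_s2] [(nat_lit 9, t3_11_11_s2, nat_lit 2), (nat_lit 8, t3_11_11_s6, nat_lit 9), (nat_lit 19, t3_11_11_s4, nat_lit 9), (nat_lit 20, t3_11_11_s3, nat_lit 9), (nat_lit 21, t3_11_11_s2, nat_lit 9), (nat_lit 18, t3_11_11_s4, nat_lit 8), (nat_lit 10, t3_11_11_s5, nat_lit 8), (nat_lit 12, t3_11_11_s3, nat_lit 8), (nat_lit 13, t3_11_11_s4, nat_lit 19), (nat_lit 14, t3_11_11_s3,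 nat_lit 19), (nat_lit 6, t3_11_11_s2, nat_lit 19), (nat_lit 11, t3_11_11_s6, nat_lit 20), (nat_lit 15, t3_11_11_s3, nat_lit 20), (nat_lit 22, t3_11_11_s4, nat_lit 21), (nat_lit 3, t3_11_11_s3, nat_lit 21), (nat_lit 4, t3_11_11_s2, nat_lit 21), (nat_lit 7, t3_11_11_s4, nat_lit 10), (nat_lit 5, t3_11_11_s2, nat_lit 10), (nat_lit 17, t3_11_11_s6, nat_lit 14), (nat_lit 16, t3_11_11_s4, nat_lit 6)]
noncomputable def t3_11_11_lev3 : Core.Lev := Core.mkLev m23_n m23_w m23_mask m23_L m23_maskL m23_idc (nat_lit 3) [t3_11_11_s6, t3_11_11_s4, t3_11_11_s5, t3_11_11_s3] [(nat_lit 16, t3_11_11_s3, nat_lit 3), (nat_lit 13, t3_11_11_s6, nat_lit 16), (nat_lit 20, t3_11_11_s4, nat_lit 16), (nat_lit 4, t3_11_11_s5, nat_lit 16), (nat_lit 21, t3_11_11_s3, nat_lit 16), (nat_lit 22, t3_11_11_s6, nat_lit 13), (nat_lit 9, t3_11_11_s4, nat_lit 13), (nat_lit 19, t3_11_11_s3,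 nat_lit 13), (nat_lit 11, t3_11_11_s6, nat_lit 20), (nat_lit 6, t3_11_11_s4, nat_lit 20), (nat_lit 15, t3_11_11_s3, nat_lit 20), (nat_lit 10, t3_11_11_s4, nat_lit 4), (nat_lit 18, t3_11_11_s5, nat_lit 21), (nat_lit 7, t3_11_11_s3, nat_lit 22), (nat_lit 8, t3_11_11_s6, nat_lit 9), (nat_lit 12, t3_11_11_s5, nat_lit 19), (nat_lit 14, t3_11_11_s3, nat_lit 19), (nat_lit 5, t3_11_11_s3, nat_lit 6), (nat_lit 17, t3_11_11_s3, nat_lit 7)]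
noncomputable def t3_11_11_lev4 : Core.Lev := Core.mkLev m23_n m23_w m23_mask m23_L m23_maskL m23_idc (nat_lit 4) [t3_11_11_s6, t3_11_11_s4, t3_11_11_s5] [(nat_lit 10, t3_11_11_s4, nat_lit 4), (nat_lit 22, t3_11_11_s5, nat_lit 4), (nat_lit 12, t3_11_11_s6, nat_lit 10), (nat_lit 7, t3_11_11_s4, nat_lit 10), (nat_lit 6, t3_11_11_s5, nat_lit 10), (nat_lit 16, t3_11_11_s6, nat_lit 22), (nat_lit 15, t3_11_11_s4, nat_lit 22), (nat_lit 9, t3_11_11_s5, nat_lit 12), (nat_lit 11, t3_11_11_s5, nat_lit 7), (nat_lit 8, t3_11_11_s5, nat_lit 6), (nat_lit 13, t3_11_11_s6, nat_lit 16), (nat_lit 20, t3_11_11_s4, nat_lit 16), (nat_lit 18, t3_11_11_s6, nat_lit 15), (nat_lit 21, t3_11_11_s4, nat_lit 15), (nat_lit 19, t3_11_11_s4, nat_lit 9)]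
noncomputable def t3_11_11_lev5 : Core.Lev := Core.mkLev m23_n m23_w m23_mask m23_L m23_maskL m23_idc (nat_lit 5) [t3_11_11_s6] [(nat_lit 14, t3_11_11_s6, nat_lit 5), (nat_lit 17, t3_11_11_s6, nat_lit 14)]
noncomputable def t3_11_11_levels : List Core.Lev := [t3_11_11_lev0, t3_11_11_lev1, t3_11_11_lev2, t3_11_11_lev3, t3_11_11_lev4, t3_11_11_lev5]
theorem t3_11_11_ok : Core.checkAll m23_n m23_w m23_mask m23_L m23_maskL m23_idc [t3_11_11_X, t3_11_11_Y] t3_11_11_prog t3_11_11_levels = true := by decide +kernel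
theorem t3_11_11_ord : Core.orderC t3_11_11_levels = 10200960 := by decide +kernel
theorem t3_11_11_tr : tripleOK 3 11 11 t3_11_11_X t3_11_11_Y = true := by decide +kernel
theorem wit_3_11_11 : WitP 3 11 11 := wit_of (by norm_num) (by norm_num) (by norm_num) t3_11_11_ok t3_11_11_ord t3_11_11_tr

def t3_11_23_X : Nat := nat_lit 0xb9ac97ca0874da0a0571554ac188e4
def t3_11_23_Y : Nat := nat_lit 0xbd826a89ae945671a0057a68a64093
def t3_11_23_prog : List (Nat × Nat × Nat) := [(nat_lit 1, nat_lit 1, nat_lit 0), (nat_lit 1, nat_lit 1, nat_lit 0), (nat_lit 0, nat_lit 3, nat_lit 2), (nat_lit 0, nat_lit 0, nat_lit 4), (nat_lit 0, nat_lit 0, nat_lit 4), (nat_lit 0, nat_lit 0, nat_lit 5), (nat_lit 0, nat_lit 4, nat_lit 4), (nat_lit 0, nat_lit 0, nat_lit 6), (nat_lit 0, nat_lit 0, nat_lit 7), (nat_lit 0, nat_lit 0, nat_lit 3), (nat_lit 0, nat_lit 10, nat_lit 11),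 (nat_lit 0, nat_lit 0, nat_lit 12), (nat_lit 0, nat_lit 0, nat_lit 12), (nat_lit 0, nat_lit 0, nat_lit 14), (nat_lit 0, nat_lit 0, nat_lit 14), (nat_lit 0, nat_lit 0, nat_lit 15), (nat_lit 0, nat_lit 0, nat_lit 17), (nat_lit 0, nat_lit 0, nat_lit 17), (nat_lit 0, nat_lit 0, nat_lit 18), (nat_lit 0, nat_lit 10, nat_lit 0), (nat_lit 1, nat_lit 10, nat_lit 0), (nat_lit 1, nat_lit 1, nat_lit 0), (nat_lit 0, nat_lit 12, nat_lit 2), (nat_lit 0, nat_lit 0, nat_lit 13), (nat_lit 0, nat_lit 0, nat_lit 14), (nat_lit 0, nat_lit 0, nat_lit 15), (nat_lit 0, nat_lit 5, nat_lit 0), (nat_lit 0, nat_lit 17, nat_lit 17), (nat_lit 0, nat_lit 0, nat_lit 8), (nat_lit 0, nat_lit 0, nat_lit 19), (nat_lit 0, nat_lit 0, nat_lit 20), (nat_lit 0, nat_lit 0, nat_lit 11), (nat_lit 0, nat_lit 0, nat_lit 12), (nat_lit 0, nat_lit 0, nat_lit 23), (nat_lit 0, nat_lit 0, nat_lit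 14), (nat_lit 0, nat_lit 0, nat_lit 25), (nat_lit 0, nat_lit 14, nat_lit 15), (nat_lit 0, nat_lit 0, nat_lit 16), (nat_lit 0, nat_lit 0, nat_lit 17), (nat_lit 0, nat_lit 0, nat_lit 3), (nat_lit 1, nat_lit 13, nat_lit 0), (nat_lit 0, nat_lit 14, nat_lit 1), (nat_lit 0, nat_lit 0, nat_lit 15), (nat_lit 0, nat_lit 0, nat_lit 3), (nat_lit 0, nat_lit 0, nat_lit 17), (nat_lit 0, nat_lit 0, nat_lit 18), (nat_lit 0, nat_lit 0, nat_lit 6), (nat_lit 0, nat_lit 0, nat_lit 20), (nat_lit 0, nat_lit 0, nat_lit 8), (nat_lit 0, nat_lit 0, nat_lit 9), (nat_lit 0, nat_lit 0, nat_lit 23), (nat_lit 0, nat_lit 10, nat_lit 10), (nat_lit 0, nat_lit 0, nat_lit 1), (nat_lit 0, nat_lit 13, nat_lit 13), (nat_lit 0, nat_lit 0, nat_lit 14), (nat_lit 0, nat_lit 0, nat_lit 28), (nat_lit 0, nat_lit 0, nat_lit 16), (nat_lit 0, nat_lit 0, nat_lit 30), (nat_lit 0, nat_lit 0, nat_lit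 18), (nat_lit 0, nat_lit 0, nat_lit 19), (nat_lit 0, nat_lit 8, nat_lit 0), (nat_lit 1, nat_lit 8, nat_lit 0), (nat_lit 1, nat_lit 1, nat_lit 0), (nat_lit 0, nat_lit 10, nat_lit 2), (nat_lit 0, nat_lit 0, nat_lit 11), (nat_lit 0, nat_lit 0, nat_lit 4), (nat_lit 0, nat_lit 0, nat_lit 13), (nat_lit 0, nat_lit 0, nat_lit 14), (nat_lit 0, nat_lit 0, nat_lit 7), (nat_lit 0, nat_lit 0, nat_lit 8), (nat_lit 0, nat_lit 0, nat_lit 9), (nat_lit 0, nat_lit 8, nat_lit 8), (nat_lit 0, nat_lit 0, nat_lit 10), (nat_lit 0, nat_lit 0, nat_lit 2), (nat_lit 0, nat_lit 21, nat_lit 21), (nat_lit 0, nat_lit 0, nat_lit 14), (nat_lit 0, nat_lit 0, nat_lit 15), (nat_lit 0, nat_lit 0, nat_lit 24), (nat_lit 0, nat_lit 0, nat_lit 25), (nat_lit 0, nat_lit 0, nat_lit 26), (nat_lit 0, nat_lit 0, nat_lit 27), (nat_lit 0, nat_lit 0, nat_lit 28), (nat_lit 0, nat_lit 0, nat_lit 29),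 (nat_lit 0, nat_lit 0, nat_lit 22), (nat_lit 0, nat_lit 21, nat_lit 0), (nat_lit 0, nat_lit 24, nat_lit 24), (nat_lit 0, nat_lit 0, nat_lit 25), (nat_lit 0, nat_lit 0, nat_lit 34), (nat_lit 0, nat_lit 0, nat_lit 27), (nat_lit 0, nat_lit 0, nat_lit 36), (nat_lit 0, nat_lit 0, nat_lit 37), (nat_lit 0, nat_lit 0, nat_lit 30), (nat_lit 0, nat_lit 0, nat_lit 39), (nat_lit 0, nat_lit 31, nat_lit 30), (nat_lit 0, nat_lit 0, nat_lit 31), (nat_lit 0, nat_lit 0, nat_lit 2), (nat_lit 1, nat_lit 22, nat_lit 0), (nat_lit 1, nat_lit 12, nat_lit 0), (nat_lit 0, nat_lit 13, nat_lit 2), (nat_lit 0, nat_lit 0, nat_lit 3), (nat_lit 0, nat_lit 0, nat_lit 26), (nat_lit 0, nat_lit 0, nat_lit 5), (nat_lit 0, nat_lit 0, nat_lit 17), (nat_lit 0, nat_lit 0, nat_lit 18), (nat_lit 0, nat_lit 0, nat_lit 19), (nat_lit 0, nat_lit 0, nat_lit 20), (nat_lit 0, nat_lit 8, nat_lit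 9), (nat_lit 0, nat_lit 0, nat_lit 1)]
def t3_11_23_s0 : Nat := nat_lit 0xb9ac97ca0874da0a0571554ac188e4
def t3_11_23_s1 : Nat := nat_lit 0xba26d4aacc852a4144eb78c2e914c0
def t3_11_23_s2 : Nat := nat_lit 0xbda84888732a9d263cebac1a932020
def t3_11_23_s3 : Nat := nat_lit 0xbc8732bc8b3d909554d4745ac80820
def t3_11_23_s4 : Nat := nat_lit 0xbb2ad350abb464f5408999dc818820
def t3_11_23_s5 : Nat := nat_lit 0xbb54c79cb044486aae534d1d618820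
def t3_11_23_s6 : Nat := nat_lit 0xbc12ba18ad946c79b11553dc418820
noncomputable def t3_11_23_lev0 : Core.Lev := Core.mkLev m23_n m23_w m23_mask m23_L m23_maskL m23_idc (nat_lit 0) [t3_11_23_s6, t3_11_23_s4, t3_11_23_s5, t3_11_23_s3, t3_11_23_s2, t3_11_23_s1, t3_11_23_s0] [(nat_lit 4, t3_11_23_s0, nat_lit 0), (nat_lit 8, t3_11_23_s4, nat_lit 4), (nat_lit 22, t3_11_23_s5, nat_lit 4), (nat_lit 12, t3_11_23_s3, nat_lit 4), (nat_lit 9, t3_11_23_s2, nat_lit 4), (nat_lit 14, t3_11_23_s1, nat_lit 4), (nat_lit 21, t3_11_23_s6, nat_lit 8), (nat_lit 19, t3_11_23_s5, nat_lit 8), (nat_lit 20, t3_11_23_s3, nat_lit 8), (nat_lit 11, t3_11_23_s2, nat_lit 8), (nat_lit 17, t3_11_23_s0, nat_lit 8), (nat_lit 16, t3_11_23_s6, nat_lit 22), (nat_lit 13, t3_11_23_s5, nat_lit 22), (nat_lit 18, t3_11_23_s3, nat_lit 22), (nat_lit 6, t3_11_23_s0, nat_lit 22), (nat_lit 7, t3_11_23_s6,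 nat_lit 12), (nat_lit 15, t3_11_23_s4, nat_lit 12), (nat_lit 10, t3_11_23_s2, nat_lit 14), (nat_lit 3, t3_11_23_s3, nat_lit 21), (nat_lit 5, t3_11_23_s3, nat_lit 19), (nat_lit 2, t3_11_23_s1, nat_lit 11), (nat_lit 1, t3_11_23_s0, nat_lit 10)]
noncomputable def t3_11_23_lev1 : Core.Lev := Core.mkLev m23_n m23_w m23_mask m23_L m23_maskL m23_idc (nat_lit 1) [t3_11_23_s6, t3_11_23_s4, t3_11_23_s5, t3_11_23_s3, t3_11_23_s2, t3_11_23_s1] [(nat_lit 6, t3_11_23_s1, nat_lit 1), (nat_lit 15, t3_11_23_s6, nat_lit 6), (nat_lit 7, t3_11_23_s4, nat_lit 6), (nat_lit 20, t3_11_23_s5, nat_lit 6), (nat_lit 17, t3_11_23_s3, nat_lit 6), (nat_lit 16, t3_11_23_s2, nat_lit 6), (nat_lit 3, t3_11_23_s1, nat_lit 6), (nat_lit 18, t3_11_23_s6, nat_lit 15), (nat_lit 22, t3_11_23_s4, nat_lit 15), (nat_lit 8, t3_11_23_s5, nat_lit 15), (nat_lit 5, t3_11_23_s2, nat_lit 15), (nat_lit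 10, t3_11_23_s6, nat_lit 7), (nat_lit 19, t3_11_23_s4, nat_lit 7), (nat_lit 9, t3_11_23_s5, nat_lit 7), (nat_lit 14, t3_11_23_s3, nat_lit 7), (nat_lit 21, t3_11_23_s2, nat_lit 7), (nat_lit 11, t3_11_23_s6, nat_lit 20), (nat_lit 13, t3_11_23_s4, nat_lit 20), (nat_lit 12, t3_11_23_s5, nat_lit 20), (nat_lit 4, t3_11_23_s2, nat_lit 20), (nat_lit 2, t3_11_23_s2, nat_lit 18)]
noncomputable def t3_11_23_lev2 : Core.Lev := Core.mkLev m23_n m23_w m23_mask m23_L m23_maskL m23_idc (nat_lit 2) [t3_11_23_s6, t3_11_23_s4, t3_11_23_s5, t3_11_23_s3, t3_11_23_s2] [(nat_lit 8, t3_11_23_s2, nat_lit 2), (nat_lit 21, t3_11_23_s6, nat_lit 8), (nat_lit 9, t3_11_23_s4, nat_lit 8), (nat_lit 19, t3_11_23_s5, nat_lit 8), (nat_lit 20, t3_11_23_s3, nat_lit 8), (nat_lit 11, t3_11_23_s2, nat_lit 8), (nat_lit 10, t3_11_23_s5, nat_lit 21), (nat_lit 3, t3_11_23_s3, nat_lit 21),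 (nat_lit 4, t3_11_23_s4, nat_lit 9), (nat_lit 18, t3_11_23_s5, nat_lit 9), (nat_lit 6, t3_11_23_s3, nat_lit 9), (nat_lit 7, t3_11_23_s2, nat_lit 9), (nat_lit 15, t3_11_23_s5, nat_lit 19), (nat_lit 5, t3_11_23_s3, nat_lit 19), (nat_lit 17, t3_11_23_s2, nat_lit 19), (nat_lit 13, t3_11_23_s4, nat_lit 20), (nat_lit 12, t3_11_23_s5, nat_lit 20), (nat_lit 16, t3_11_23_s4, nat_lit 10), (nat_lit 22, t3_11_23_s5, nat_lit 4), (nat_lit 14, t3_11_23_s3, nat_lit 7)]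
noncomputable def t3_11_23_lev3 : Core.Lev := Core.mkLev m23_n m23_w m23_mask m23_L m23_maskL m23_idc (nat_lit 3) [t3_11_23_s6, t3_11_23_s4, t3_11_23_s5, t3_11_23_s3] [(nat_lit 16, t3_11_23_s3, nat_lit 3), (nat_lit 13, t3_11_23_s6, nat_lit 16), (nat_lit 11, t3_11_23_s4, nat_lit 16), (nat_lit 22, t3_11_23_s6, nat_lit 13), (nat_lit 18, t3_11_23_s4, nat_lit 13), (nat_lit 4, t3_11_23_s5, nat_lit 13), (nat_lit 8, t3_11_23_s3, nat_lit 13), (nat_lit 19, t3_11_23_s6, nat_lit 11), (nat_lit 10, t3_11_23_s4, nat_lit 11), (nat_lit 21, t3_11_23_s5, nat_lit 11), (nat_lit 12, t3_11_23_s4, nat_lit 22), (nat_lit 6, t3_11_23_s6, nat_lit 18), (nat_lit 20, t3_11_23_s4, nat_lit 18), (nat_lit 7, t3_11_23_s5, nat_lit 18), (nat_lit 15, t3_11_23_s3, nat_lit 18), (nat_lit 9, t3_11_23_s4, nat_lit 8), (nat_lit 5, t3_11_23_s3, nat_lit 19), (nat_lit 17, t3_11_23_s3, nat_lit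 6), (nat_lit 14, t3_11_23_s3, nat_lit 7)]
noncomputable def t3_11_23_lev4 : Core.Lev := Core.mkLev m23_n m23_w m23_mask m23_L m23_maskL m23_idc (nat_lit 4) [t3_11_23_s6, t3_11_23_s4, t3_11_23_s5] [(nat_lit 8, t3_11_23_s4, nat_lit 4), (nat_lit 22, t3_11_23_s5, nat_lit 4), (nat_lit 21, t3_11_23_s6, nat_lit 8), (nat_lit 9, t3_11_23_s4, nat_lit 8), (nat_lit 19, t3_11_23_s5, nat_lit 8), (nat_lit 16, t3_11_23_s6, nat_lit 22), (nat_lit 12, t3_11_23_s4, nat_lit 22), (nat_lit 13, t3_11_23_s5, nat_lit 22), (nat_lit 10, t3_11_23_s5, nat_lit 21), (nat_lit 18, t3_11_23_s5, nat_lit 9), (nat_lit 20, t3_11_23_s6, nat_lit 19), (nat_lit 6, t3_11_23_s4, nat_lit 19), (nat_lit 15, t3_11_23_s5, nat_lit 19), (nat_lit 11, t3_11_23_s4, nat_lit 16), (nat_lit 7, t3_11_23_s6, nat_lit 12)]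
noncomputable def t3_11_23_lev5 : Core.Lev := Core.mkLev m23_n m23_w m23_mask m23_L m23_maskL m23_idc (nat_lit 5) [t3_11_23_s6] [(nat_lit 14, t3_11_23_s6, nat_lit 5), (nat_lit 17, t3_11_23_s6, nat_lit 14)]
noncomputable def t3_11_23_levels : List Core.Lev := [t3_11_23_lev0, t3_11_23_lev1, t3_11_23_lev2, t3_11_23_lev3, t3_11_23_lev4, t3_11_23_lev5]
theorem t3_11_23_ok : Core.checkAll m23_n m23_w m23_mask m23_L m23_maskL m23_idc [t3_11_23_X, t3_11_23_Y] t3_11_23_prog t3_11_23_levels = true := by decide +kernel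
theorem t3_11_23_ord : Core.orderC t3_11_23_levels = 10200960 := by decide +kernel
theorem t3_11_23_tr : tripleOK 3 11 23 t3_11_23_X t3_11_23_Y = true := by decide +kernel
theorem wit_3_11_23 : WitP 3 11 23 := wit_of (by norm_num) (by norm_num) (by norm_num) t3_11_23_ok t3_11_23_ord t3_11_23_tr

def t3_23_23_X : Nat := nat_lit 0xb9ac97ca0874da0a0571554ac188e4
def t3_23_23_Y : Nat := nat_lit 0xbbd8503ad214e866c50a8106149d75
def t3_23_23_prog : List (Nat × Nat × Nat) := [(nat_lit 1, nat_lit 1, nat_lit 0), (nat_lit 1, nat_lit 1, nat_lit 0), (nat_lit 0, nat_lit 3, nat_lit 2), (nat_lit 0, nat_lit 0, nat_lit 4), (nat_lit 0, nat_lit 0, nat_lit 4), (nat_lit 0, nat_lit 0, nat_lit 5), (nat_lit 0, nat_lit 4, nat_lit 5), (nat_lit 0, nat_lit 0, nat_lit 1), (nat_lit 0, nat_lit 8, nat_lit 9), (nat_lit 0, nat_lit 0, nat_lit 10), (nat_lit 0, nat_lit 0, nat_lit 10),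 (nat_lit 0, nat_lit 0, nat_lit 12), (nat_lit 0, nat_lit 0, nat_lit 12), (nat_lit 0, nat_lit 0, nat_lit 13), (nat_lit 0, nat_lit 0, nat_lit 15), (nat_lit 0, nat_lit 0, nat_lit 15), (nat_lit 0, nat_lit 0, nat_lit 16), (nat_lit 0, nat_lit 16, nat_lit 0), (nat_lit 1, nat_lit 10, nat_lit 0), (nat_lit 1, nat_lit 1, nat_lit 0), (nat_lit 0, nat_lit 12, nat_lit 2), (nat_lit 0, nat_lit 0, nat_lit 13), (nat_lit 0, nat_lit 0, nat_lit 14), (nat_lit 0, nat_lit 0, nat_lit 15), (nat_lit 0, nat_lit 5, nat_lit 4), (nat_lit 0, nat_lit 0, nat_lit 5), (nat_lit 0, nat_lit 0, nat_lit 7), (nat_lit 0, nat_lit 0, nat_lit 3), (nat_lit 0, nat_lit 20, nat_lit 20), (nat_lit 0, nat_lit 0, nat_lit 11), (nat_lit 0, nat_lit 0, nat_lit 22), (nat_lit 0, nat_lit 0, nat_lit 23), (nat_lit 0, nat_lit 0, nat_lit 14), (nat_lit 0, nat_lit 0, nat_lit 15), (nat_lit 0, nat_lit 0, nat_lit 26),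 (nat_lit 0, nat_lit 0, nat_lit 17), (nat_lit 0, nat_lit 0, nat_lit 28), (nat_lit 0, nat_lit 17, nat_lit 18), (nat_lit 0, nat_lit 0, nat_lit 19), (nat_lit 0, nat_lit 0, nat_lit 2), (nat_lit 0, nat_lit 18, nat_lit 22), (nat_lit 0, nat_lit 0, nat_lit 33), (nat_lit 0, nat_lit 0, nat_lit 34), (nat_lit 0, nat_lit 0, nat_lit 25), (nat_lit 0, nat_lit 0, nat_lit 36), (nat_lit 0, nat_lit 0, nat_lit 27), (nat_lit 0, nat_lit 0, nat_lit 28), (nat_lit 0, nat_lit 0, nat_lit 39), (nat_lit 0, nat_lit 29, nat_lit 29), (nat_lit 0, nat_lit 0, nat_lit 1), (nat_lit 1, nat_lit 22, nat_lit 0), (nat_lit 1, nat_lit 11, nat_lit 0), (nat_lit 1, nat_lit 2, nat_lit 0), (nat_lit 0, nat_lit 13, nat_lit 3), (nat_lit 0, nat_lit 0, nat_lit 14), (nat_lit 0, nat_lit 0, nat_lit 5), (nat_lit 0, nat_lit 0, nat_lit 16), (nat_lit 0, nat_lit 0, nat_lit 7), (nat_lit 0, nat_lit 0, nat_lit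 30), (nat_lit 0, nat_lit 0, nat_lit 19), (nat_lit 0, nat_lit 8, nat_lit 8), (nat_lit 0, nat_lit 0, nat_lit 10), (nat_lit 0, nat_lit 0, nat_lit 11), (nat_lit 0, nat_lit 0, nat_lit 10), (nat_lit 0, nat_lit 0, nat_lit 4), (nat_lit 0, nat_lit 37, nat_lit 25), (nat_lit 0, nat_lit 0, nat_lit 16), (nat_lit 0, nat_lit 0, nat_lit 39), (nat_lit 0, nat_lit 0, nat_lit 28), (nat_lit 0, nat_lit 0, nat_lit 19), (nat_lit 0, nat_lit 0, nat_lit 20), (nat_lit 0, nat_lit 0, nat_lit 21), (nat_lit 0, nat_lit 0, nat_lit 22), (nat_lit 0, nat_lit 0, nat_lit 33), (nat_lit 0, nat_lit 23, nat_lit 22), (nat_lit 0, nat_lit 0, nat_lit 23), (nat_lit 0, nat_lit 0, nat_lit 24), (nat_lit 0, nat_lit 0, nat_lit 3), (nat_lit 0, nat_lit 50, nat_lit 28), (nat_lit 0, nat_lit 0, nat_lit 29), (nat_lit 0, nat_lit 0, nat_lit 52), (nat_lit 0, nat_lit 0, nat_lit 53), (nat_lit 0, nat_lit 0, nat_lit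 32), (nat_lit 0, nat_lit 0, nat_lit 43), (nat_lit 0, nat_lit 0, nat_lit 44), (nat_lit 0, nat_lit 0, nat_lit 45), (nat_lit 0, nat_lit 0, nat_lit 36), (nat_lit 0, nat_lit 0, nat_lit 59), (nat_lit 0, nat_lit 11, nat_lit 35), (nat_lit 0, nat_lit 0, nat_lit 1), (nat_lit 0, nat_lit 40, nat_lit 40), (nat_lit 0, nat_lit 0, nat_lit 63), (nat_lit 0, nat_lit 0, nat_lit 64), (nat_lit 0, nat_lit 0, nat_lit 43), (nat_lit 0, nat_lit 0, nat_lit 66), (nat_lit 0, nat_lit 0, nat_lit 67), (nat_lit 0, nat_lit 0, nat_lit 68), (nat_lit 0, nat_lit 0, nat_lit 47), (nat_lit 0, nat_lit 0, nat_lit 48), (nat_lit 0, nat_lit 48, nat_lit 48), (nat_lit 0, nat_lit 0, nat_lit 1), (nat_lit 1, nat_lit 23, nat_lit 0), (nat_lit 1, nat_lit 1, nat_lit 0), (nat_lit 1, nat_lit 38, nat_lit 0), (nat_lit 0, nat_lit 26, nat_lit 14), (nat_lit 0, nat_lit 0, nat_lit 15), (nat_lit 0, nat_lit 0,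 nat_lit 5), (nat_lit 0, nat_lit 0, nat_lit 17), (nat_lit 0, nat_lit 0, nat_lit 43), (nat_lit 0, nat_lit 0, nat_lit 8), (nat_lit 0, nat_lit 0, nat_lit 32), (nat_lit 0, nat_lit 0, nat_lit 33), (nat_lit 0, nat_lit 0, nat_lit 11), (nat_lit 0, nat_lit 11, nat_lit 10), (nat_lit 0, nat_lit 0, nat_lit 12), (nat_lit 0, nat_lit 0, nat_lit 2), (nat_lit 0, nat_lit 51, nat_lit 26), (nat_lit 0, nat_lit 0, nat_lit 39), (nat_lit 0, nat_lit 0, nat_lit 17), (nat_lit 0, nat_lit 0, nat_lit 18), (nat_lit 0, nat_lit 0, nat_lit 30), (nat_lit 0, nat_lit 0, nat_lit 20), (nat_lit 0, nat_lit 0, nat_lit 32), (nat_lit 0, nat_lit 0, nat_lit 58), (nat_lit 0, nat_lit 0, nat_lit 34), (nat_lit 0, nat_lit 0, nat_lit 24), (nat_lit 0, nat_lit 12, nat_lit 22), (nat_lit 0, nat_lit 0, nat_lit 23), (nat_lit 0, nat_lit 0, nat_lit 26), (nat_lit 0, nat_lit 0, nat_lit 3), (nat_lit 0, nat_lit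 65, nat_lit 52), (nat_lit 0, nat_lit 0, nat_lit 53), (nat_lit 0, nat_lit 0, nat_lit 67), (nat_lit 0, nat_lit 0, nat_lit 43), (nat_lit 0, nat_lit 0, nat_lit 69), (nat_lit 0, nat_lit 0, nat_lit 70), (nat_lit 0, nat_lit 34, nat_lit 32), (nat_lit 0, nat_lit 0, nat_lit 33), (nat_lit 0, nat_lit 0, nat_lit 2), (nat_lit 1, nat_lit 23, nat_lit 0), (nat_lit 1, nat_lit 1, nat_lit 0), (nat_lit 0, nat_lit 25, nat_lit 11), (nat_lit 0, nat_lit 0, nat_lit 26), (nat_lit 0, nat_lit 0, nat_lit 13), (nat_lit 0, nat_lit 3, nat_lit 4), (nat_lit 0, nat_lit 0, nat_lit 5), (nat_lit 0, nat_lit 0, nat_lit 2)]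
def t3_23_23_s0 : Nat := nat_lit 0xb9ac97ca0874da0a0571554ac188e4
def t3_23_23_s1 : Nat := nat_lit 0xb8aa3b3dd3510ac4983091d748a1a0
def t3_23_23_s2 : Nat := nat_lit 0xb95f41c92a3c6085b5c2ad8d323020
def t3_23_23_s3 : Nat := nat_lit 0xba2a39b5ec8a650215d63994ba0820
def t3_23_23_s4 : Nat := nat_lit 0xbd5f04a1c6b166c911ab5522718820
def t3_23_23_s5 : Nat := nat_lit 0xba8cb9d9cf4152d24990a9e3418820
def t3_23_23_s6 : Nat := nat_lit 0xbc12ba18ad946c79b11553dc418820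
noncomputable def t3_23_23_lev0 : Core.Lev := Core.mkLev m23_n m23_w m23_mask m23_L m23_maskL m23_idc (nat_lit 0) [t3_23_23_s6, t3_23_23_s4, t3_23_23_s5, t3_23_23_s3, t3_23_23_s2, t3_23_23_s1, t3_23_23_s0] [(nat_lit 4, t3_23_23_s0, nat_lit 0), (nat_lit 7, t3_23_23_s4, nat_lit 4), (nat_lit 20, t3_23_23_s5, nat_lit 4), (nat_lit 11, t3_23_23_s3, nat_lit 4), (nat_lit 19, t3_23_23_s2, nat_lit 4), (nat_lit 12, t3_23_23_s0, nat_lit 4), (nat_lit 10, t3_23_23_s6, nat_lit 7), (nat_lit 21, t3_23_23_s5, nat_lit 7), (nat_lit 18, t3_23_23_s1, nat_lit 7), (nat_lit 16, t3_23_23_s4, nat_lit 20), (nat_lit 3, t3_23_23_s3, nat_lit 20), (nat_lit 9, t3_23_23_s0, nat_lit 20), (nat_lit 22, t3_23_23_s1, nat_lit 19), (nat_lit 15, t3_23_23_s0, nat_lit 19), (nat_lit 13, t3_23_23_s5, nat_lit 12), (nat_lit 8, t3_23_23_s2, nat_lit 12), (nat_lit 5, t3_23_23_s3, nat_lit 10), (nat_lit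 6, t3_23_23_s1, nat_lit 10), (nat_lit 1, t3_23_23_s0, nat_lit 10), (nat_lit 17, t3_23_23_s1, nat_lit 3), (nat_lit 14, t3_23_23_s3, nat_lit 9), (nat_lit 2, t3_23_23_s1, nat_lit 22)]
noncomputable def t3_23_23_lev1 : Core.Lev := Core.mkLev m23_n m23_w m23_mask m23_L m23_maskL m23_idc (nat_lit 1) [t3_23_23_s6, t3_23_23_s4, t3_23_23_s5, t3_23_23_s3, t3_23_23_s2, t3_23_23_s1] [(nat_lit 13, t3_23_23_s1, nat_lit 1), (nat_lit 22, t3_23_23_s6, nat_lit 13), (nat_lit 19, t3_23_23_s4, nat_lit 13), (nat_lit 9, t3_23_23_s5, nat_lit 13), (nat_lit 18, t3_23_23_s3, nat_lit 13), (nat_lit 16, t3_23_23_s2, nat_lit 13), (nat_lit 5, t3_23_23_s1, nat_lit 13), (nat_lit 21, t3_23_23_s4, nat_lit 22), (nat_lit 10, t3_23_23_s5, nat_lit 22), (nat_lit 8, t3_23_23_s3, nat_lit 22), (nat_lit 2, t3_23_23_s1, nat_lit 22), (nat_lit 20, t3_23_23_s6, nat_lit 19), (nat_lit 3, t3_23_23_s2,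 nat_lit 19), (nat_lit 12, t3_23_23_s5, nat_lit 9), (nat_lit 14, t3_23_23_s3, nat_lit 9), (nat_lit 6, t3_23_23_s6, nat_lit 18), (nat_lit 15, t3_23_23_s1, nat_lit 18), (nat_lit 17, t3_23_23_s4, nat_lit 5), (nat_lit 11, t3_23_23_s1, nat_lit 5), (nat_lit 4, t3_23_23_s4, nat_lit 10), (nat_lit 7, t3_23_23_s6, nat_lit 12)]
noncomputable def t3_23_23_lev2 : Core.Lev := Core.mkLev m23_n m23_w m23_mask m23_L m23_maskL m23_idc (nat_lit 2) [t3_23_23_s6, t3_23_23_s4, t3_23_23_s5, t3_23_23_s3, t3_23_23_s2] [(nat_lit 12, t3_23_23_s2, nat_lit 2), (nat_lit 7, t3_23_23_s6, nat_lit 12), (nat_lit 13, t3_23_23_s5, nat_lit 12), (nat_lit 16, t3_23_23_s3, nat_lit 12), (nat_lit 8, t3_23_23_s2, nat_lit 12), (nat_lit 10, t3_23_23_s6, nat_lit 7), (nat_lit 21, t3_23_23_s5, nat_lit 7), (nat_lit 22, t3_23_23_s6, nat_lit 13), (nat_lit 19, t3_23_23_s4, nat_lit 13), (nat_lit 9,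 t3_23_23_s5, nat_lit 13), (nat_lit 18, t3_23_23_s3, nat_lit 13), (nat_lit 6, t3_23_23_s4, nat_lit 16), (nat_lit 15, t3_23_23_s5, nat_lit 16), (nat_lit 11, t3_23_23_s4, nat_lit 8), (nat_lit 4, t3_23_23_s4, nat_lit 10), (nat_lit 5, t3_23_23_s3, nat_lit 10), (nat_lit 20, t3_23_23_s6, nat_lit 19), (nat_lit 3, t3_23_23_s2, nat_lit 19), (nat_lit 14, t3_23_23_s3, nat_lit 9), (nat_lit 17, t3_23_23_s3, nat_lit 15)]
noncomputable def t3_23_23_lev3 : Core.Lev := Core.mkLev m23_n m23_w m23_mask m23_L m23_maskL m23_idc (nat_lit 3) [t3_23_23_s6, t3_23_23_s4, t3_23_23_s5, t3_23_23_s3] [(nat_lit 20, t3_23_23_s3, nat_lit 3), (nat_lit 11, t3_23_23_s6, nat_lit 20), (nat_lit 16, t3_23_23_s4, nat_lit 20), (nat_lit 19, t3_23_23_s6, nat_lit 11), (nat_lit 18, t3_23_23_s4, nat_lit 11), (nat_lit 4, t3_23_23_s5, nat_lit 11), (nat_lit 13, t3_23_23_s6, nat_lit 16), (nat_lit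 6, t3_23_23_s4, nat_lit 16), (nat_lit 15, t3_23_23_s5, nat_lit 16), (nat_lit 12, t3_23_23_s3, nat_lit 16), (nat_lit 9, t3_23_23_s4, nat_lit 19), (nat_lit 8, t3_23_23_s4, nat_lit 18), (nat_lit 22, t3_23_23_s5, nat_lit 18), (nat_lit 7, t3_23_23_s4, nat_lit 4), (nat_lit 17, t3_23_23_s3, nat_lit 15), (nat_lit 14, t3_23_23_s3, nat_lit 9), (nat_lit 21, t3_23_23_s6, nat_lit 8), (nat_lit 10, t3_23_23_s5, nat_lit 22), (nat_lit 5, t3_23_23_s6, nat_lit 17)]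
noncomputable def t3_23_23_lev4 : Core.Lev := Core.mkLev m23_n m23_w m23_mask m23_L m23_maskL m23_idc (nat_lit 4) [t3_23_23_s6, t3_23_23_s4, t3_23_23_s5] [(nat_lit 7, t3_23_23_s4, nat_lit 4), (nat_lit 20, t3_23_23_s5, nat_lit 4), (nat_lit 10, t3_23_23_s6, nat_lit 7), (nat_lit 21, t3_23_23_s5, nat_lit 7), (nat_lit 11, t3_23_23_s6, nat_lit 20), (nat_lit 16, t3_23_23_s4, nat_lit 20), (nat_lit 12, t3_23_23_s6, nat_lit 10), (nat_lit 18, t3_23_23_s5, nat_lit 10), (nat_lit 9, t3_23_23_s6, nat_lit 21), (nat_lit 15, t3_23_23_s4, nat_lit 21), (nat_lit 6, t3_23_23_s5, nat_lit 21), (nat_lit 19, t3_23_23_s6, nat_lit 11), (nat_lit 13, t3_23_23_s6, nat_lit 16), (nat_lit 8, t3_23_23_s4, nat_lit 18), (nat_lit 22, t3_23_23_s5, nat_lit 18)]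
noncomputable def t3_23_23_lev5 : Core.Lev := Core.mkLev m23_n m23_w m23_mask m23_L m23_maskL m23_idc (nat_lit 5) [t3_23_23_s6] [(nat_lit 14, t3_23_23_s6, nat_lit 5), (nat_lit 17, t3_23_23_s6, nat_lit 14)]
noncomputable def t3_23_23_levels : List Core.Lev := [t3_23_23_lev0, t3_23_23_lev1, t3_23_23_lev2, t3_23_23_lev3, t3_23_23_lev4, t3_23_23_lev5]
theorem t3_23_23_ok : Core.checkAll m23_n m23_w m23_mask m23_L m23_maskL m23_idc [t3_23_23_X, t3_23_23_Y] t3_23_23_prog t3_23_23_levels = true := by decide +kernel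
theorem t3_23_23_ord : Core.orderC t3_23_23_levels = 10200960 := by decide +kernel
theorem t3_23_23_tr : tripleOK 3 23 23 t3_23_23_X t3_23_23_Y = true := by decide +kernel
theorem wit_3_23_23 : WitP 3 23 23 := wit_of (by norm_num) (by norm_num) (by norm_num) t3_23_23_ok t3_23_23_ord t3_23_23_tr

end Cfsg.Agent.Lib.M23Triples.Cert1
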