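import Cfsg.Agent.Lib.M23Triples.Wit

/-!
# Certificates of generation, part 2
-/

set_option autoImplicit false

namespace Cfsg.Agent.Lib.M23Triples.Cert2

open Cfsg.Agent.Lib.PermComp Cfsg.Agent.Lib.PermComp.Mathieu.CertM23 Cfsg.Agent.Lib.M23Triples.Wit

def t5_5_5_X : Nat := nat_lit 0xbb4a9ac956744067ace36511098824
def t5_5_5_Y : Nat := nat_lit 0xbbdc6184903cda993282428ab05a35
def t5_5_5_prog : List (Nat × Nat × Nat) := [(nat_lit 1, nat_lit 1, nat_lit 0), (nat_lit 1, nat_lit 1, nat_lit 0), (nat_lit 0, nat_lit 3, nat_lit 2), (nat_lit 0, nat_lit 0, nat_lit 4), (nat_lit 0, nat_lit 0, nat_lit 4), (nat_lit 0, nat_lit 0, nat_lit 5), (nat_lit 0, nat_lit 5, nat_lit 5), (nat_lit 0, nat_lit 0, nat_lit 1), (nat_lit 0, nat_lit 8, nat_lit 9), (nat_lit 0, nat_lit 0, nat_lit 10), (nat_lit 0, nat_lit 0, nat_lit 10), (nat_lit 0, nat_lit 0, nat_lit 12), (nat_lit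 0, nat_lit 0, nat_lit 12), (nat_lit 0, nat_lit 0, nat_lit 13), (nat_lit 0, nat_lit 0, nat_lit 15), (nat_lit 0, nat_lit 0, nat_lit 15), (nat_lit 0, nat_lit 0, nat_lit 16), (nat_lit 0, nat_lit 15, nat_lit 15), (nat_lit 0, nat_lit 0, nat_lit 17), (nat_lit 0, nat_lit 0, nat_lit 18), (nat_lit 0, nat_lit 0, nat_lit 3), (nat_lit 1, nat_lit 13, nat_lit 0), (nat_lit 1, nat_lit 1, nat_lit 0), (nat_lit 0, nat_lit 15, nat_lit 2), (nat_lit 0, nat_lit 0, nat_lit 16), (nat_lit 0, nat_lit 0, nat_lit 17), (nat_lit 0, nat_lit 0, nat_lit 18), (nat_lit 0, nat_lit 4, nat_lit 4), (nat_lit 0, nat_lit 0, nat_lit 1), (nat_lit 0, nat_lit 21, nat_lit 21), (nat_lit 0, nat_lit 0, nat_lit 9), (nat_lit 0, nat_lit 0, nat_lit 23), (nat_lit 0, nat_lit 0, nat_lit 24), (nat_lit 0, nat_lit 0, nat_lit 12), (nat_lit 0, nat_lit 0, nat_lit 13), (nat_lit 0, nat_lit 0, nat_lit 27), (nat_lit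 0, nat_lit 0, nat_lit 15), (nat_lit 0, nat_lit 0, nat_lit 29), (nat_lit 0, nat_lit 16, nat_lit 15), (nat_lit 0, nat_lit 0, nat_lit 16), (nat_lit 0, nat_lit 0, nat_lit 2), (nat_lit 0, nat_lit 16, nat_lit 20), (nat_lit 0, nat_lit 0, nat_lit 34), (nat_lit 0, nat_lit 0, nat_lit 35), (nat_lit 0, nat_lit 0, nat_lit 23), (nat_lit 0, nat_lit 0, nat_lit 37), (nat_lit 0, nat_lit 0, nat_lit 25), (nat_lit 0, nat_lit 0, nat_lit 26), (nat_lit 0, nat_lit 0, nat_lit 40), (nat_lit 0, nat_lit 26, nat_lit 27), (nat_lit 0, nat_lit 0, nat_lit 28), (nat_lit 0, nat_lit 0, nat_lit 28), (nat_lit 0, nat_lit 0, nat_lit 3), (nat_lit 1, nat_lit 0, nat_lit 0), (nat_lit 0, nat_lit 13, nat_lit 1), (nat_lit 0, nat_lit 0, nat_lit 14), (nat_lit 0, nat_lit 0, nat_lit 3), (nat_lit 0, nat_lit 0, nat_lit 16), (nat_lit 0, nat_lit 0, nat_lit 5), (nat_lit 0, nat_lit 0, nat_lit 30), (nat_lit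 0, nat_lit 0, nat_lit 19), (nat_lit 0, nat_lit 32, nat_lit 20), (nat_lit 0, nat_lit 0, nat_lit 9), (nat_lit 0, nat_lit 0, nat_lit 34), (nat_lit 0, nat_lit 0, nat_lit 23), (nat_lit 0, nat_lit 0, nat_lit 12), (nat_lit 0, nat_lit 0, nat_lit 13), (nat_lit 0, nat_lit 0, nat_lit 14), (nat_lit 0, nat_lit 0, nat_lit 15), (nat_lit 0, nat_lit 0, nat_lit 28), (nat_lit 0, nat_lit 16, nat_lit 0), (nat_lit 0, nat_lit 42, nat_lit 18), (nat_lit 0, nat_lit 0, nat_lit 19), (nat_lit 0, nat_lit 0, nat_lit 44), (nat_lit 0, nat_lit 0, nat_lit 45), (nat_lit 0, nat_lit 0, nat_lit 22), (nat_lit 0, nat_lit 0, nat_lit 35), (nat_lit 0, nat_lit 0, nat_lit 36), (nat_lit 0, nat_lit 0, nat_lit 37), (nat_lit 0, nat_lit 0, nat_lit 26), (nat_lit 0, nat_lit 0, nat_lit 51), (nat_lit 0, nat_lit 27, nat_lit 27), (nat_lit 0, nat_lit 0, nat_lit 28), (nat_lit 0, nat_lit 0, nat_lit 2), (nat_lit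 1, nat_lit 23, nat_lit 0), (nat_lit 1, nat_lit 14, nat_lit 0), (nat_lit 1, nat_lit 2, nat_lit 0), (nat_lit 0, nat_lit 16, nat_lit 16), (nat_lit 0, nat_lit 0, nat_lit 4), (nat_lit 0, nat_lit 0, nat_lit 5), (nat_lit 0, nat_lit 5, nat_lit 4), (nat_lit 0, nat_lit 0, nat_lit 6), (nat_lit 0, nat_lit 0, nat_lit 2), (nat_lit 0, nat_lit 9, nat_lit 9), (nat_lit 0, nat_lit 0, nat_lit 33), (nat_lit 0, nat_lit 0, nat_lit 34), (nat_lit 0, nat_lit 0, nat_lit 12), (nat_lit 0, nat_lit 0, nat_lit 36), (nat_lit 0, nat_lit 0, nat_lit 37), (nat_lit 0, nat_lit 0, nat_lit 38), (nat_lit 0, nat_lit 0, nat_lit 16), (nat_lit 0, nat_lit 0, nat_lit 17), (nat_lit 0, nat_lit 17, nat_lit 15), (nat_lit 0, nat_lit 0, nat_lit 1), (nat_lit 0, nat_lit 43, nat_lit 20), (nat_lit 0, nat_lit 0, nat_lit 34), (nat_lit 0, nat_lit 0, nat_lit 22), (nat_lit 0, nat_lit 0, nat_lit 36), (nat_lit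 0, nat_lit 0, nat_lit 37), (nat_lit 0, nat_lit 0, nat_lit 38), (nat_lit 0, nat_lit 0, nat_lit 26), (nat_lit 0, nat_lit 0, nat_lit 27), (nat_lit 0, nat_lit 0, nat_lit 28), (nat_lit 0, nat_lit 21, nat_lit 0), (nat_lit 0, nat_lit 30, nat_lit 43), (nat_lit 0, nat_lit 0, nat_lit 31), (nat_lit 0, nat_lit 0, nat_lit 32), (nat_lit 0, nat_lit 32, nat_lit 32), (nat_lit 0, nat_lit 0, nat_lit 32), (nat_lit 0, nat_lit 0, nat_lit 32), (nat_lit 0, nat_lit 0, nat_lit 3), (nat_lit 1, nat_lit 28, nat_lit 0), (nat_lit 1, nat_lit 18, nat_lit 0), (nat_lit 0, nat_lit 19, nat_lit 19), (nat_lit 0, nat_lit 0, nat_lit 3), (nat_lit 0, nat_lit 0, nat_lit 32), (nat_lit 0, nat_lit 0, nat_lit 5), (nat_lit 0, nat_lit 0, nat_lit 13), (nat_lit 0, nat_lit 0, nat_lit 24), (nat_lit 0, nat_lit 0, nat_lit 8), (nat_lit 0, nat_lit 0, nat_lit 9), (nat_lit 0, nat_lit 0, nat_lit 17), (nat_lit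 0, nat_lit 0, nat_lit 11), (nat_lit 0, nat_lit 0, nat_lit 19), (nat_lit 0, nat_lit 12, nat_lit 11), (nat_lit 0, nat_lit 0, nat_lit 1)]
def t5_5_5_s0 : Nat := nat_lit 0xbb4a9ac956744067ace36511098824
def t5_5_5_s1 : Nat := nat_lit 0xbd1f251d2b6a2667159684441a8c80
def t5_5_5_s2 : Nat := nat_lit 0xba88c5c0c9759f5434f11cca295020
def t5_5_5_s3 : Nat := nat_lit 0xbc6096b0e3a4dc85a9f2b10c5a8820
def t5_5_5_s4 : Nat := nat_lit 0xbc0ea332364b892451ebaccad18820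
def t5_5_5_s5 : Nat := nat_lit 0xbb2c9819c8795753d1536923218820
def t5_5_5_s6 : Nat := nat_lit 0xbb5135bdd63160aa1ea964a2418820
noncomputable def t5_5_5_lev0 : Core.Lev := Core.mkLev m23_n m23_w m23_mask m23_L m23_maskL m23_idc (nat_lit 0) [t5_5_5_s6, t5_5_5_s4, t5_5_5_s5, t5_5_5_s3, t5_5_5_s2, t5_5_5_s1, t5_5_5_s0] [(nat_lit 4, t5_5_5_s0, nat_lit 0), (nat_lit 13, t5_5_5_s4, nat_lit 4), (nat_lit 18, t5_5_5_s5, nat_lit 4), (nat_lit 5, t5_5_5_s3, nat_lit 4), (nat_lit 2, t5_5_5_s2, nat_lit 4), (nat_lit 1, t5_5_5_s1, nat_lit 4), (nat_lit 16, t5_5_5_s0, nat_lit 4), (nat_lit 11, t5_5_5_s5, nat_lit 13), (nat_lit 14, t5_5_5_s3, nat_lit 13), (nat_lit 15, t5_5_5_s2, nat_lit 13), (nat_lit 19, t5_5_5_s1, nat_lit 13), (nat_lit 12, t5_5_5_s4, nat_lit 18), (nat_lit 6, t5_5_5_s5, nat_lit 18), (nat_lit 7, t5_5_5_s1, nat_lit 18), (nat_lit 17, t5_5_5_s6, nat_lit 5),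 (nat_lit 8, t5_5_5_s0, nat_lit 5), (nat_lit 20, t5_5_5_s2, nat_lit 2), (nat_lit 3, t5_5_5_s1, nat_lit 2), (nat_lit 22, t5_5_5_s6, nat_lit 16), (nat_lit 9, t5_5_5_s2, nat_lit 16), (nat_lit 10, t5_5_5_s1, nat_lit 19), (nat_lit 21, t5_5_5_s0, nat_lit 19)]
noncomputable def t5_5_5_lev1 : Core.Lev := Core.mkLev m23_n m23_w m23_mask m23_L m23_maskL m23_idc (nat_lit 1) [t5_5_5_s6, t5_5_5_s4, t5_5_5_s5, t5_5_5_s3, t5_5_5_s2, t5_5_5_s1] [(nat_lit 4, t5_5_5_s1, nat_lit 1), (nat_lit 13, t5_5_5_s4, nat_lit 4), (nat_lit 18, t5_5_5_s5, nat_lit 4), (nat_lit 5, t5_5_5_s3, nat_lit 4), (nat_lit 2, t5_5_5_s2, nat_lit 4), (nat_lit 16, t5_5_5_s6, nat_lit 13), (nat_lit 11, t5_5_5_s5, nat_lit 13), (nat_lit 14, t5_5_5_s3, nat_lit 13), (nat_lit 15, t5_5_5_s2, nat_lit 13), (nat_lit 19, t5_5_5_s1, nat_lit 13), (nat_lit 12, t5_5_5_s4, nat_lit 18), (nat_lit 6, t5_5_5_s5, nat_lit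 18), (nat_lit 7, t5_5_5_s1, nat_lit 18), (nat_lit 17, t5_5_5_s6, nat_lit 5), (nat_lit 20, t5_5_5_s2, nat_lit 2), (nat_lit 3, t5_5_5_s1, nat_lit 2), (nat_lit 22, t5_5_5_s6, nat_lit 16), (nat_lit 8, t5_5_5_s5, nat_lit 16), (nat_lit 9, t5_5_5_s2, nat_lit 16), (nat_lit 10, t5_5_5_s1, nat_lit 19), (nat_lit 21, t5_5_5_s5, nat_lit 12)]
noncomputable def t5_5_5_lev2 : Core.Lev := Core.mkLev m23_n m23_w m23_mask m23_L m23_maskL m23_idc (nat_lit 2) [t5_5_5_s6, t5_5_5_s4, t5_5_5_s5, t5_5_5_s3, t5_5_5_s2] [(nat_lit 20, t5_5_5_s2, nat_lit 2), (nat_lit 19, t5_5_5_s6, nat_lit 20), (nat_lit 10, t5_5_5_s4, nat_lit 20), (nat_lit 9, t5_5_5_s5, nat_lit 20), (nat_lit 12, t5_5_5_s2, nat_lit 20), (nat_lit 11, t5_5_5_s6, nat_lit 19), (nat_lit 6, t5_5_5_s4, nat_lit 19), (nat_lit 16, t5_5_5_s5, nat_lit 19), (nat_lit 13, t5_5_5_s3, nat_lit 19), (nat_lit 7, t5_5_5_s6, nat_lit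 10), (nat_lit 21, t5_5_5_s6, nat_lit 9), (nat_lit 15, t5_5_5_s4, nat_lit 9), (nat_lit 18, t5_5_5_s4, nat_lit 12), (nat_lit 8, t5_5_5_s3, nat_lit 12), (nat_lit 4, t5_5_5_s5, nat_lit 6), (nat_lit 22, t5_5_5_s6, nat_lit 16), (nat_lit 3, t5_5_5_s3, nat_lit 16), (nat_lit 14, t5_5_5_s3, nat_lit 13), (nat_lit 17, t5_5_5_s2, nat_lit 8), (nat_lit 5, t5_5_5_s3, nat_lit 4)]
noncomputable def t5_5_5_lev3 : Core.Lev := Core.mkLev m23_n m23_w m23_mask m23_L m23_maskL m23_idc (nat_lit 3) [t5_5_5_s6, t5_5_5_s4, t5_5_5_s5, t5_5_5_s3] [(nat_lit 21, t5_5_5_s3, nat_lit 3), (nat_lit 8, t5_5_5_s6, nat_lit 21), (nat_lit 7, t5_5_5_s4, nat_lit 21), (nat_lit 22, t5_5_5_s5, nat_lit 21), (nat_lit 16, t5_5_5_s3, nat_lit 21), (nat_lit 9, t5_5_5_s6, nat_lit 8), (nat_lit 11, t5_5_5_s4, nat_lit 8), (nat_lit 19, t5_5_5_s5, nat_lit 8), (nat_lit 18, t5_5_5_s3, nat_lit 8), (nat_lit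 12, t5_5_5_s6, nat_lit 7), (nat_lit 13, t5_5_5_s5, nat_lit 7), (nat_lit 17, t5_5_5_s3, nat_lit 22), (nat_lit 15, t5_5_5_s4, nat_lit 9), (nat_lit 10, t5_5_5_s5, nat_lit 9), (nat_lit 20, t5_5_5_s6, nat_lit 11), (nat_lit 6, t5_5_5_s4, nat_lit 19), (nat_lit 4, t5_5_5_s4, nat_lit 13), (nat_lit 14, t5_5_5_s3, nat_lit 13), (nat_lit 5, t5_5_5_s3, nat_lit 4)]
noncomputable def t5_5_5_lev4 : Core.Lev := Core.mkLev m23_n m23_w m23_mask m23_L m23_maskL m23_idc (nat_lit 4) [t5_5_5_s6, t5_5_5_s4, t5_5_5_s5] [(nat_lit 13, t5_5_5_s4, nat_lit 4), (nat_lit 18, t5_5_5_s5, nat_lit 4), (nat_lit 16, t5_5_5_s6, nat_lit 13), (nat_lit 11, t5_5_5_s5, nat_lit 13), (nat_lit 15, t5_5_5_s6, nat_lit 18), (nat_lit 12, t5_5_5_s4, nat_lit 18), (nat_lit 6, t5_5_5_s5, nat_lit 18), (nat_lit 22, t5_5_5_s6, nat_lit 16), (nat_lit 8, t5_5_5_s5, nat_lit 16), (nat_lit 20, t5_5_5_s6, nat_lit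 11), (nat_lit 7, t5_5_5_s5, nat_lit 11), (nat_lit 9, t5_5_5_s4, nat_lit 15), (nat_lit 10, t5_5_5_s6, nat_lit 12), (nat_lit 21, t5_5_5_s5, nat_lit 12), (nat_lit 19, t5_5_5_s4, nat_lit 6)]
noncomputable def t5_5_5_lev5 : Core.Lev := Core.mkLev m23_n m23_w m23_mask m23_L m23_maskL m23_idc (nat_lit 5) [t5_5_5_s6] [(nat_lit 17, t5_5_5_s6, nat_lit 5), (nat_lit 14, t5_5_5_s6, nat_lit 17)]
noncomputable def t5_5_5_levels : List Core.Lev := [t5_5_5_lev0, t5_5_5_lev1, t5_5_5_lev2, t5_5_5_lev3, t5_5_5_lev4, t5_5_5_lev5]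
theorem t5_5_5_ok : Core.checkAll m23_n m23_w m23_mask m23_L m23_maskL m23_idc [t5_5_5_X, t5_5_5_Y] t5_5_5_prog t5_5_5_levels = true := by decide +kernel
theorem t5_5_5_ord : Core.orderC t5_5_5_levels = 10200960 := by decide +kernel
theorem t5_5_5_tr : tripleOK 5 5 5 t5_5_5_X t5_5_5_Y = true := by decide +kernel
theorem wit_5_5_5 : WitP 5 5 5 := wit_of (by norm_num) (by norm_num) (by norm_num) t5_5_5_ok t5_5_5_ord t5_5_5_tr

def t5_5_7_X : Nat := nat_lit 0xbc2661c9c45bec7546854b2a04082d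
def t5_5_7_Y : Nat := nat_lit 0xba9a998570a540291d86458b173c83
def t5_5_7_prog : List (Nat × Nat × Nat) := [(nat_lit 1, nat_lit 1, nat_lit 0), (nat_lit 1, nat_lit 1, nat_lit 0), (nat_lit 0, nat_lit 3, nat_lit 2), (nat_lit 0, nat_lit 0, nat_lit 4), (nat_lit 0, nat_lit 0, nat_lit 4), (nat_lit 0, nat_lit 0, nat_lit 5), (nat_lit 0, nat_lit 4, nat_lit 5), (nat_lit 0, nat_lit 0, nat_lit 5), (nat_lit 0, nat_lit 0, nat_lit 2), (nat_lit 0, nat_lit 9, nat_lit 10), (nat_lit 0, nat_lit 0, nat_lit 11), (nat_lit 0, nat_lit 0, nat_lit 11), (nat_lit 0, nat_lit 0, nat_lit 13), (nat_lit 0, nat_lit 0, nat_lit 13), (nat_lit 0, nat_lit 0, nat_lit 14), (nat_lit 0, nat_lit 0, nat_lit 16), (nat_lit 0, nat_lit 0, nat_lit 16), (nat_lit 0, nat_lit 0, nat_lit 17), (nat_lit 0, nat_lit 17, nat_lit 17), (nat_lit 0, nat_lit 0, nat_lit 1), (nat_lit 1, nat_lit 11, nat_lit 0), (nat_lit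 1, nat_lit 1, nat_lit 0), (nat_lit 0, nat_lit 13, nat_lit 2), (nat_lit 0, nat_lit 0, nat_lit 14), (nat_lit 0, nat_lit 0, nat_lit 15), (nat_lit 0, nat_lit 0, nat_lit 16), (nat_lit 0, nat_lit 4, nat_lit 5), (nat_lit 0, nat_lit 0, nat_lit 6), (nat_lit 0, nat_lit 0, nat_lit 7), (nat_lit 0, nat_lit 0, nat_lit 3), (nat_lit 0, nat_lit 21, nat_lit 21), (nat_lit 0, nat_lit 0, nat_lit 11), (nat_lit 0, nat_lit 0, nat_lit 23), (nat_lit 0, nat_lit 0, nat_lit 24), (nat_lit 0, nat_lit 0, nat_lit 14), (nat_lit 0, nat_lit 0, nat_lit 15), (nat_lit 0, nat_lit 0, nat_lit 27), (nat_lit 0, nat_lit 0, nat_lit 17), (nat_lit 0, nat_lit 0, nat_lit 29), (nat_lit 0, nat_lit 18, nat_lit 17), (nat_lit 0, nat_lit 0, nat_lit 18), (nat_lit 0, nat_lit 0, nat_lit 20), (nat_lit 0, nat_lit 0, nat_lit 20), (nat_lit 0, nat_lit 0, nat_lit 4), (nat_lit 1, nat_lit 14, nat_lit 0), (nat_lit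 1, nat_lit 1, nat_lit 0), (nat_lit 0, nat_lit 16, nat_lit 2), (nat_lit 0, nat_lit 0, nat_lit 17), (nat_lit 0, nat_lit 0, nat_lit 4), (nat_lit 0, nat_lit 0, nat_lit 19), (nat_lit 0, nat_lit 0, nat_lit 20), (nat_lit 0, nat_lit 0, nat_lit 7), (nat_lit 0, nat_lit 0, nat_lit 22), (nat_lit 0, nat_lit 0, nat_lit 9), (nat_lit 0, nat_lit 0, nat_lit 10), (nat_lit 0, nat_lit 0, nat_lit 25), (nat_lit 0, nat_lit 11, nat_lit 10), (nat_lit 0, nat_lit 0, nat_lit 12), (nat_lit 0, nat_lit 0, nat_lit 12), (nat_lit 0, nat_lit 0, nat_lit 14), (nat_lit 0, nat_lit 0, nat_lit 4), (nat_lit 0, nat_lit 17, nat_lit 17), (nat_lit 0, nat_lit 0, nat_lit 18), (nat_lit 0, nat_lit 0, nat_lit 33), (nat_lit 0, nat_lit 0, nat_lit 20), (nat_lit 0, nat_lit 0, nat_lit 35), (nat_lit 0, nat_lit 0, nat_lit 22), (nat_lit 0, nat_lit 0, nat_lit 23), (nat_lit 0, nat_lit 9, nat_lit 0), (nat_lit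 1, nat_lit 8, nat_lit 0), (nat_lit 1, nat_lit 1, nat_lit 0), (nat_lit 0, nat_lit 10, nat_lit 2), (nat_lit 0, nat_lit 0, nat_lit 11), (nat_lit 0, nat_lit 0, nat_lit 4), (nat_lit 0, nat_lit 0, nat_lit 13), (nat_lit 0, nat_lit 0, nat_lit 14), (nat_lit 0, nat_lit 0, nat_lit 7), (nat_lit 0, nat_lit 0, nat_lit 8), (nat_lit 0, nat_lit 0, nat_lit 9), (nat_lit 0, nat_lit 9, nat_lit 9), (nat_lit 0, nat_lit 0, nat_lit 9), (nat_lit 0, nat_lit 0, nat_lit 10), (nat_lit 0, nat_lit 0, nat_lit 3), (nat_lit 0, nat_lit 22, nat_lit 22), (nat_lit 0, nat_lit 0, nat_lit 15), (nat_lit 0, nat_lit 0, nat_lit 16), (nat_lit 0, nat_lit 0, nat_lit 25), (nat_lit 0, nat_lit 0, nat_lit 26), (nat_lit 0, nat_lit 0, nat_lit 27), (nat_lit 0, nat_lit 0, nat_lit 28), (nat_lit 0, nat_lit 0, nat_lit 29), (nat_lit 0, nat_lit 0, nat_lit 30), (nat_lit 0, nat_lit 0, nat_lit 23), (nat_lit 0,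 nat_lit 11, nat_lit 22), (nat_lit 0, nat_lit 0, nat_lit 1), (nat_lit 0, nat_lit 26, nat_lit 26), (nat_lit 0, nat_lit 0, nat_lit 27), (nat_lit 0, nat_lit 0, nat_lit 36), (nat_lit 0, nat_lit 0, nat_lit 29), (nat_lit 0, nat_lit 0, nat_lit 38), (nat_lit 0, nat_lit 0, nat_lit 39), (nat_lit 0, nat_lit 0, nat_lit 32), (nat_lit 0, nat_lit 0, nat_lit 41), (nat_lit 0, nat_lit 23, nat_lit 0), (nat_lit 1, nat_lit 21, nat_lit 0), (nat_lit 0, nat_lit 1, nat_lit 10), (nat_lit 0, nat_lit 0, nat_lit 2), (nat_lit 0, nat_lit 0, nat_lit 24), (nat_lit 0, nat_lit 0, nat_lit 25), (nat_lit 0, nat_lit 0, nat_lit 5), (nat_lit 0, nat_lit 0, nat_lit 27), (nat_lit 0, nat_lit 0, nat_lit 7), (nat_lit 0, nat_lit 0, nat_lit 8), (nat_lit 0, nat_lit 8, nat_lit 8), (nat_lit 0, nat_lit 0, nat_lit 1)]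
def t5_5_7_s0 : Nat := nat_lit 0xbc2661c9c45bec7546854b2a04082d
def t5_5_7_s1 : Nat := nat_lit 0xbc4a7625731c142692d2455f4099c0
def t5_5_7_s2 : Nat := nat_lit 0xbc9151929159e62b1530329cf63420
def t5_5_7_s3 : Nat := nat_lit 0xba4ceaa20f8b68c90cab3ceca20820
def t5_5_7_s4 : Nat := nat_lit 0xb9166425d0996d4554ef9322d18820
def t5_5_7_s5 : Nat := nat_lit 0xba9b5b48a93468864ceb811cf18820
def t5_5_7_s6 : Nat := nat_lit 0xbc12ba18ad946c79b11553dc418820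
noncomputable def t5_5_7_lev0 : Core.Lev := Core.mkLev m23_n m23_w m23_mask m23_L m23_maskL m23_idc (nat_lit 0) [t5_5_7_s6, t5_5_7_s4, t5_5_7_s5, t5_5_7_s3, t5_5_7_s2, t5_5_7_s1, t5_5_7_s0] [(nat_lit 13, t5_5_7_s0, nat_lit 0), (nat_lit 22, t5_5_7_s6, nat_lit 13), (nat_lit 20, t5_5_7_s5, nat_lit 13), (nat_lit 19, t5_5_7_s2, nat_lit 13), (nat_lit 10, t5_5_7_s1, nat_lit 13), (nat_lit 16, t5_5_7_s6, nat_lit 22), (nat_lit 4, t5_5_7_s4, nat_lit 22), (nat_lit 9, t5_5_7_s3, nat_lit 22), (nat_lit 18, t5_5_7_s2, nat_lit 22), (nat_lit 17, t5_5_7_s1, nat_lit 22), (nat_lit 11, t5_5_7_s6, nat_lit 20), (nat_lit 6, t5_5_7_s4, nat_lit 20), (nat_lit 21, t5_5_7_s5, nat_lit 20), (nat_lit 14, t5_5_7_s3, nat_lit 20), (nat_lit 7, t5_5_7_s1, nat_lit 20), (nat_lit 8, t5_5_7_s4, nat_lit 19), (nat_lit 3, t5_5_7_s2, nat_lit 19), (nat_lit 12, t5_5_7_s1, nat_lit 19), (nat_lit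 5, t5_5_7_s2, nat_lit 10), (nat_lit 15, t5_5_7_s3, nat_lit 16), (nat_lit 1, t5_5_7_s1, nat_lit 3), (nat_lit 2, t5_5_7_s2, nat_lit 12)]
noncomputable def t5_5_7_lev1 : Core.Lev := Core.mkLev m23_n m23_w m23_mask m23_L m23_maskL m23_idc (nat_lit 1) [t5_5_7_s6, t5_5_7_s4, t5_5_7_s5, t5_5_7_s3, t5_5_7_s2, t5_5_7_s1] [(nat_lit 14, t5_5_7_s1, nat_lit 1), (nat_lit 17, t5_5_7_s6, nat_lit 14), (nat_lit 5, t5_5_7_s4, nat_lit 14), (nat_lit 13, t5_5_7_s3, nat_lit 14), (nat_lit 7, t5_5_7_s2, nat_lit 14), (nat_lit 16, t5_5_7_s1, nat_lit 14), (nat_lit 20, t5_5_7_s2, nat_lit 17), (nat_lit 11, t5_5_7_s1, nat_lit 17), (nat_lit 22, t5_5_7_s3, nat_lit 5), (nat_lit 15, t5_5_7_s1, nat_lit 5), (nat_lit 19, t5_5_7_s2, nat_lit 13), (nat_lit 10, t5_5_7_s1, nat_lit 13), (nat_lit 18, t5_5_7_s4, nat_lit 7), (nat_lit 6, t5_5_7_s2, nat_lit 7), (nat_lit 8, t5_5_7_s1, nat_lit 7),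 (nat_lit 9, t5_5_7_s5, nat_lit 16), (nat_lit 21, t5_5_7_s5, nat_lit 20), (nat_lit 12, t5_5_7_s5, nat_lit 11), (nat_lit 4, t5_5_7_s4, nat_lit 22), (nat_lit 3, t5_5_7_s1, nat_lit 15), (nat_lit 2, t5_5_7_s2, nat_lit 12)]
noncomputable def t5_5_7_lev2 : Core.Lev := Core.mkLev m23_n m23_w m23_mask m23_L m23_maskL m23_idc (nat_lit 2) [t5_5_7_s6, t5_5_7_s4, t5_5_7_s5, t5_5_7_s3, t5_5_7_s2] [(nat_lit 13, t5_5_7_s2, nat_lit 2), (nat_lit 22, t5_5_7_s6, nat_lit 13), (nat_lit 20, t5_5_7_s5, nat_lit 13), (nat_lit 19, t5_5_7_s2, nat_lit 13), (nat_lit 16, t5_5_7_s6, nat_lit 22), (nat_lit 4, t5_5_7_s4, nat_lit 22), (nat_lit 10, t5_5_7_s5, nat_lit 22), (nat_lit 9, t5_5_7_s3, nat_lit 22), (nat_lit 18, t5_5_7_s2, nat_lit 22), (nat_lit 11, t5_5_7_s6, nat_lit 20), (nat_lit 6, t5_5_7_s4, nat_lit 20), (nat_lit 21, t5_5_7_s5, nat_lit 20), (nat_lit 14, t5_5_7_s3, nat_lit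 20), (nat_lit 8, t5_5_7_s4, nat_lit 19), (nat_lit 3, t5_5_7_s2, nat_lit 19), (nat_lit 15, t5_5_7_s3, nat_lit 16), (nat_lit 17, t5_5_7_s2, nat_lit 16), (nat_lit 12, t5_5_7_s6, nat_lit 10), (nat_lit 5, t5_5_7_s2, nat_lit 10), (nat_lit 7, t5_5_7_s4, nat_lit 9)]
noncomputable def t5_5_7_lev3 : Core.Lev := Core.mkLev m23_n m23_w m23_mask m23_L m23_maskL m23_idc (nat_lit 3) [t5_5_7_s6, t5_5_7_s4, t5_5_7_s5, t5_5_7_s3] [(nat_lit 4, t5_5_7_s3, nat_lit 3), (nat_lit 13, t5_5_7_s4, nat_lit 4), (nat_lit 15, t5_5_7_s5, nat_lit 4), (nat_lit 10, t5_5_7_s3, nat_lit 4), (nat_lit 22, t5_5_7_s6, nat_lit 13), (nat_lit 20, t5_5_7_s5, nat_lit 13), (nat_lit 18, t5_5_7_s6, nat_lit 15), (nat_lit 19, t5_5_7_s4, nat_lit 15), (nat_lit 6, t5_5_7_s5, nat_lit 15), (nat_lit 17, t5_5_7_s3, nat_lit 15), (nat_lit 12, t5_5_7_s6, nat_lit 10), (nat_lit 21, t5_5_7_s4, nat_lit 10), (nat_lit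 16, t5_5_7_s6, nat_lit 22), (nat_lit 9, t5_5_7_s3, nat_lit 22), (nat_lit 11, t5_5_7_s6, nat_lit 20), (nat_lit 14, t5_5_7_s3, nat_lit 20), (nat_lit 8, t5_5_7_s3, nat_lit 18), (nat_lit 5, t5_5_7_s6, nat_lit 17), (nat_lit 7, t5_5_7_s6, nat_lit 12)]
noncomputable def t5_5_7_lev4 : Core.Lev := Core.mkLev m23_n m23_w m23_mask m23_L m23_maskL m23_idc (nat_lit 4) [t5_5_7_s6, t5_5_7_s4, t5_5_7_s5] [(nat_lit 13, t5_5_7_s4, nat_lit 4), (nat_lit 15, t5_5_7_s5, nat_lit 4), (nat_lit 22, t5_5_7_s6, nat_lit 13), (nat_lit 20, t5_5_7_s5, nat_lit 13), (nat_lit 18, t5_5_7_s6, nat_lit 15), (nat_lit 19, t5_5_7_s4, nat_lit 15), (nat_lit 6, t5_5_7_s5, nat_lit 15), (nat_lit 16, t5_5_7_s6, nat_lit 22), (nat_lit 10, t5_5_7_s5, nat_lit 22), (nat_lit 11, t5_5_7_s6, nat_lit 20), (nat_lit 21, t5_5_7_s5, nat_lit 20), (nat_lit 9, t5_5_7_s4, nat_lit 18), (nat_lit 8, t5_5_7_s4, nat_lit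 19), (nat_lit 12, t5_5_7_s4, nat_lit 6), (nat_lit 7, t5_5_7_s4, nat_lit 9)]
noncomputable def t5_5_7_lev5 : Core.Lev := Core.mkLev m23_n m23_w m23_mask m23_L m23_maskL m23_idc (nat_lit 5) [t5_5_7_s6] [(nat_lit 14, t5_5_7_s6, nat_lit 5), (nat_lit 17, t5_5_7_s6, nat_lit 14)]
noncomputable def t5_5_7_levels : List Core.Lev := [t5_5_7_lev0, t5_5_7_lev1, t5_5_7_lev2, t5_5_7_lev3, t5_5_7_lev4, t5_5_7_lev5]
theorem t5_5_7_ok : Core.checkAll m23_n m23_w m23_mask m23_L m23_maskL m23_idc [t5_5_7_X, t5_5_7_Y] t5_5_7_prog t5_5_7_levels = true := by decide +kernel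
theorem t5_5_7_ord : Core.orderC t5_5_7_levels = 10200960 := by decide +kernel
theorem t5_5_7_tr : tripleOK 5 5 7 t5_5_7_X t5_5_7_Y = true := by decide +kernel
theorem wit_5_5_7 : WitP 5 5 7 := wit_of (by norm_num) (by norm_num) (by norm_num) t5_5_7_ok t5_5_7_ord t5_5_7_tr

def t5_5_11_X : Nat := nat_lit 0xbb4a9ac956744067ace36511098824
def t5_5_11_Y : Nat := nat_lit 0xba6a6b05b414a083a96f9c58e19404
def t5_5_11_prog : List (Nat × Nat × Nat) := [(nat_lit 1, nat_lit 1, nat_lit 0), (nat_lit 1, nat_lit 1, nat_lit 0), (nat_lit 0, nat_lit 3, nat_lit 2), (nat_lit 0, nat_lit 0, nat_lit 4), (nat_lit 0, nat_lit 0, nat_lit 4), (nat_lit 0, nat_lit 0, nat_lit 5), (nat_lit 0, nat_lit 6, nat_lit 7), (nat_lit 0, nat_lit 0, nat_lit 8), (nat_lit 0, nat_lit 0, nat_lit 8), (nat_lit 0, nat_lit 0, nat_lit 10), (nat_lit 0, nat_lit 0, nat_lit 10), (nat_lit 0, nat_lit 0,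 nat_lit 11), (nat_lit 0, nat_lit 0, nat_lit 13), (nat_lit 0, nat_lit 0, nat_lit 13), (nat_lit 0, nat_lit 0, nat_lit 14), (nat_lit 0, nat_lit 14, nat_lit 14), (nat_lit 0, nat_lit 0, nat_lit 15), (nat_lit 0, nat_lit 0, nat_lit 15), (nat_lit 0, nat_lit 0, nat_lit 17), (nat_lit 0, nat_lit 0, nat_lit 18), (nat_lit 0, nat_lit 0, nat_lit 18), (nat_lit 0, nat_lit 0, nat_lit 6), (nat_lit 1, nat_lit 16, nat_lit 0), (nat_lit 1, nat_lit 1, nat_lit 0), (nat_lit 0, nat_lit 18, nat_lit 2), (nat_lit 0, nat_lit 0, nat_lit 19), (nat_lit 0, nat_lit 0, nat_lit 20), (nat_lit 0, nat_lit 0, nat_lit 21), (nat_lit 0, nat_lit 5, nat_lit 5), (nat_lit 0, nat_lit 0, nat_lit 5), (nat_lit 0, nat_lit 0, nat_lit 6), (nat_lit 0, nat_lit 0, nat_lit 3), (nat_lit 0, nat_lit 26, nat_lit 26), (nat_lit 0, nat_lit 0, nat_lit 11), (nat_lit 0, nat_lit 0, nat_lit 28), (nat_lit 0, nat_lit 0,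 nat_lit 29), (nat_lit 0, nat_lit 0, nat_lit 14), (nat_lit 0, nat_lit 0, nat_lit 15), (nat_lit 0, nat_lit 0, nat_lit 32), (nat_lit 0, nat_lit 0, nat_lit 17), (nat_lit 0, nat_lit 0, nat_lit 34), (nat_lit 0, nat_lit 10, nat_lit 0), (nat_lit 0, nat_lit 16, nat_lit 20), (nat_lit 0, nat_lit 0, nat_lit 37), (nat_lit 0, nat_lit 0, nat_lit 38), (nat_lit 0, nat_lit 0, nat_lit 23), (nat_lit 0, nat_lit 0, nat_lit 40), (nat_lit 0, nat_lit 0, nat_lit 25), (nat_lit 0, nat_lit 0, nat_lit 26), (nat_lit 0, nat_lit 0, nat_lit 43), (nat_lit 0, nat_lit 21, nat_lit 27), (nat_lit 0, nat_lit 0, nat_lit 1), (nat_lit 1, nat_lit 20, nat_lit 0), (nat_lit 1, nat_lit 1, nat_lit 0), (nat_lit 1, nat_lit 12, nat_lit 0), (nat_lit 0, nat_lit 13, nat_lit 3), (nat_lit 0, nat_lit 0, nat_lit 14), (nat_lit 0, nat_lit 0, nat_lit 5), (nat_lit 0, nat_lit 0, nat_lit 16), (nat_lit 0, nat_lit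 0, nat_lit 7), (nat_lit 0, nat_lit 0, nat_lit 28), (nat_lit 0, nat_lit 0, nat_lit 19), (nat_lit 0, nat_lit 9, nat_lit 9), (nat_lit 0, nat_lit 0, nat_lit 9), (nat_lit 0, nat_lit 0, nat_lit 11), (nat_lit 0, nat_lit 0, nat_lit 3), (nat_lit 0, nat_lit 34, nat_lit 24), (nat_lit 0, nat_lit 0, nat_lit 15), (nat_lit 0, nat_lit 0, nat_lit 36), (nat_lit 0, nat_lit 0, nat_lit 27), (nat_lit 0, nat_lit 0, nat_lit 18), (nat_lit 0, nat_lit 0, nat_lit 19), (nat_lit 0, nat_lit 0, nat_lit 20), (nat_lit 0, nat_lit 0, nat_lit 21), (nat_lit 0, nat_lit 0, nat_lit 32), (nat_lit 0, nat_lit 22, nat_lit 20), (nat_lit 0, nat_lit 0, nat_lit 23), (nat_lit 0, nat_lit 0, nat_lit 22), (nat_lit 0, nat_lit 0, nat_lit 3), (nat_lit 1, nat_lit 13, nat_lit 0), (nat_lit 1, nat_lit 1, nat_lit 0), (nat_lit 0, nat_lit 15, nat_lit 15), (nat_lit 0, nat_lit 0, nat_lit 16), (nat_lit 0, nat_lit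 0, nat_lit 4), (nat_lit 0, nat_lit 0, nat_lit 5), (nat_lit 0, nat_lit 0, nat_lit 6), (nat_lit 0, nat_lit 0, nat_lit 20), (nat_lit 0, nat_lit 0, nat_lit 8), (nat_lit 0, nat_lit 0, nat_lit 22), (nat_lit 0, nat_lit 0, nat_lit 10), (nat_lit 0, nat_lit 0, nat_lit 11), (nat_lit 0, nat_lit 10, nat_lit 11), (nat_lit 0, nat_lit 0, nat_lit 12), (nat_lit 0, nat_lit 0, nat_lit 13), (nat_lit 0, nat_lit 0, nat_lit 3), (nat_lit 0, nat_lit 16, nat_lit 16), (nat_lit 0, nat_lit 0, nat_lit 17), (nat_lit 0, nat_lit 0, nat_lit 31), (nat_lit 0, nat_lit 0, nat_lit 19), (nat_lit 0, nat_lit 0, nat_lit 33), (nat_lit 0, nat_lit 0, nat_lit 34), (nat_lit 0, nat_lit 0, nat_lit 22), (nat_lit 0, nat_lit 0, nat_lit 36), (nat_lit 0, nat_lit 23, nat_lit 23), (nat_lit 0, nat_lit 0, nat_lit 23), (nat_lit 0, nat_lit 0, nat_lit 24), (nat_lit 0, nat_lit 0, nat_lit 3), (nat_lit 0, nat_lit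 28, nat_lit 41), (nat_lit 0, nat_lit 0, nat_lit 42), (nat_lit 0, nat_lit 0, nat_lit 43), (nat_lit 0, nat_lit 30, nat_lit 0), (nat_lit 1, nat_lit 4, nat_lit 0), (nat_lit 0, nat_lit 17, nat_lit 5), (nat_lit 0, nat_lit 0, nat_lit 18), (nat_lit 0, nat_lit 0, nat_lit 3), (nat_lit 0, nat_lit 0, nat_lit 20), (nat_lit 0, nat_lit 0, nat_lit 21), (nat_lit 0, nat_lit 0, nat_lit 22), (nat_lit 0, nat_lit 0, nat_lit 11), (nat_lit 0, nat_lit 0, nat_lit 24), (nat_lit 0, nat_lit 0, nat_lit 13), (nat_lit 0, nat_lit 0, nat_lit 26), (nat_lit 0, nat_lit 0, nat_lit 15), (nat_lit 0, nat_lit 11, nat_lit 0)]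
def t5_5_11_s0 : Nat := nat_lit 0xbb4a9ac956744067ace36511098824
def t5_5_11_s1 : Nat := nat_lit 0xb88cbac4f4711f22b068b42616a920
def t5_5_11_s2 : Nat := nat_lit 0xbda32495af5baaa8091321a833b020
def t5_5_11_s3 : Nat := nat_lit 0xb95a8b1d435d2359b246811ee48820
def t5_5_11_s4 : Nat := nat_lit 0xbbec66acb4ac52c41e72241ca18820
def t5_5_11_s5 : Nat := nat_lit 0xbae703bcac245144b6caa99d218820
def t5_5_11_s6 : Nat := nat_lit 0xbb5135bdd63160aa1ea964a2418820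
noncomputable def t5_5_11_lev0 : Core.Lev := Core.mkLev m23_n m23_w m23_mask m23_L m23_maskL m23_idc (nat_lit 0) [t5_5_11_s6, t5_5_11_s4, t5_5_11_s5, t5_5_11_s3, t5_5_11_s2, t5_5_11_s1, t5_5_11_s0] [(nat_lit 4, t5_5_11_s0, nat_lit 0), (nat_lit 10, t5_5_11_s4, nat_lit 4), (nat_lit 18, t5_5_11_s5, nat_lit 4), (nat_lit 14, t5_5_11_s3, nat_lit 4), (nat_lit 3, t5_5_11_s2, nat_lit 4), (nat_lit 1, t5_5_11_s1, nat_lit 4), (nat_lit 16, t5_5_11_s0, nat_lit 4), (nat_lit 7, t5_5_11_s6, nat_lit 10), (nat_lit 13, t5_5_11_s5, nat_lit 10), (nat_lit 12, t5_5_11_s3, nat_lit 10), (nat_lit 2, t5_5_11_s2, nat_lit 10), (nat_lit 11, t5_5_11_s0, nat_lit 10), (nat_lit 15, t5_5_11_s6, nat_lit 18), (nat_lit 5, t5_5_11_s2, nat_lit 18), (nat_lit 17, t5_5_11_s1, nat_lit 18), (nat_lit 20, t5_5_11_s3, nat_lit 14), (nat_lit 9, t5_5_11_s3, nat_lit 3), (nat_lit 19, t5_5_11_s0, nat_lit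 3), (nat_lit 22, t5_5_11_s6, nat_lit 16), (nat_lit 21, t5_5_11_s5, nat_lit 7), (nat_lit 8, t5_5_11_s5, nat_lit 13), (nat_lit 6, t5_5_11_s0, nat_lit 12)]
noncomputable def t5_5_11_lev1 : Core.Lev := Core.mkLev m23_n m23_w m23_mask m23_L m23_maskL m23_idc (nat_lit 1) [t5_5_11_s6, t5_5_11_s4, t5_5_11_s5, t5_5_11_s3, t5_5_11_s2, t5_5_11_s1] [(nat_lit 9, t5_5_11_s1, nat_lit 1), (nat_lit 21, t5_5_11_s6, nat_lit 9), (nat_lit 19, t5_5_11_s4, nat_lit 9), (nat_lit 22, t5_5_11_s5, nat_lit 9), (nat_lit 18, t5_5_11_s3, nat_lit 9), (nat_lit 8, t5_5_11_s2, nat_lit 9), (nat_lit 3, t5_5_11_s1, nat_lit 9), (nat_lit 13, t5_5_11_s3, nat_lit 21), (nat_lit 17, t5_5_11_s2, nat_lit 21), (nat_lit 6, t5_5_11_s1, nat_lit 21), (nat_lit 11, t5_5_11_s6, nat_lit 19), (nat_lit 7, t5_5_11_s5, nat_lit 19), (nat_lit 15, t5_5_11_s4, nat_lit 22), (nat_lit 5, t5_5_11_s3, nat_lit 22),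 (nat_lit 2, t5_5_11_s1, nat_lit 22), (nat_lit 10, t5_5_11_s5, nat_lit 8), (nat_lit 16, t5_5_11_s6, nat_lit 13), (nat_lit 14, t5_5_11_s6, nat_lit 17), (nat_lit 4, t5_5_11_s3, nat_lit 6), (nat_lit 20, t5_5_11_s6, nat_lit 11), (nat_lit 12, t5_5_11_s6, nat_lit 7)]
noncomputable def t5_5_11_lev2 : Core.Lev := Core.mkLev m23_n m23_w m23_mask m23_L m23_maskL m23_idc (nat_lit 2) [t5_5_11_s6, t5_5_11_s4, t5_5_11_s5, t5_5_11_s3, t5_5_11_s2] [(nat_lit 12, t5_5_11_s2, nat_lit 2), (nat_lit 10, t5_5_11_s6, nat_lit 12), (nat_lit 20, t5_5_11_s5, nat_lit 12), (nat_lit 21, t5_5_11_s3, nat_lit 12), (nat_lit 7, t5_5_11_s6, nat_lit 10), (nat_lit 13, t5_5_11_s5, nat_lit 10), (nat_lit 19, t5_5_11_s6, nat_lit 20), (nat_lit 6, t5_5_11_s4, nat_lit 20), (nat_lit 16, t5_5_11_s5, nat_lit 20), (nat_lit 8, t5_5_11_s3, nat_lit 20), (nat_lit 18, t5_5_11_s2, nat_lit 20), (nat_lit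 22, t5_5_11_s4, nat_lit 21), (nat_lit 17, t5_5_11_s2, nat_lit 21), (nat_lit 4, t5_5_11_s4, nat_lit 7), (nat_lit 9, t5_5_11_s4, nat_lit 13), (nat_lit 11, t5_5_11_s6, nat_lit 19), (nat_lit 3, t5_5_11_s3, nat_lit 16), (nat_lit 15, t5_5_11_s2, nat_lit 16), (nat_lit 5, t5_5_11_s2, nat_lit 18), (nat_lit 14, t5_5_11_s6, nat_lit 17)]
noncomputable def t5_5_11_lev3 : Core.Lev := Core.mkLev m23_n m23_w m23_mask m23_L m23_maskL m23_idc (nat_lit 3) [t5_5_11_s6, t5_5_11_s4, t5_5_11_s5, t5_5_11_s3] [(nat_lit 9, t5_5_11_s3, nat_lit 3), (nat_lit 21, t5_5_11_s6, nat_lit 9), (nat_lit 19, t5_5_11_s4, nat_lit 9), (nat_lit 22, t5_5_11_s5, nat_lit 9), (nat_lit 18, t5_5_11_s3, nat_lit 9), (nat_lit 8, t5_5_11_s6, nat_lit 21), (nat_lit 13, t5_5_11_s3, nat_lit 21), (nat_lit 11, t5_5_11_s6, nat_lit 19), (nat_lit 7, t5_5_11_s5, nat_lit 19), (nat_lit 15, t5_5_11_s4, nat_lit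 22), (nat_lit 5, t5_5_11_s3, nat_lit 22), (nat_lit 10, t5_5_11_s5, nat_lit 8), (nat_lit 6, t5_5_11_s3, nat_lit 8), (nat_lit 16, t5_5_11_s6, nat_lit 13), (nat_lit 17, t5_5_11_s3, nat_lit 13), (nat_lit 20, t5_5_11_s6, nat_lit 11), (nat_lit 12, t5_5_11_s6, nat_lit 7), (nat_lit 4, t5_5_11_s4, nat_lit 7), (nat_lit 14, t5_5_11_s4, nat_lit 5)]
noncomputable def t5_5_11_lev4 : Core.Lev := Core.mkLev m23_n m23_w m23_mask m23_L m23_maskL m23_idc (nat_lit 4) [t5_5_11_s6, t5_5_11_s4, t5_5_11_s5] [(nat_lit 10, t5_5_11_s4, nat_lit 4), (nat_lit 18, t5_5_11_s5, nat_lit 4), (nat_lit 7, t5_5_11_s6, nat_lit 10), (nat_lit 13, t5_5_11_s5, nat_lit 10), (nat_lit 15, t5_5_11_s6, nat_lit 18), (nat_lit 11, t5_5_11_s4, nat_lit 18), (nat_lit 12, t5_5_11_s6, nat_lit 7), (nat_lit 21, t5_5_11_s5, nat_lit 7), (nat_lit 16, t5_5_11_s6, nat_lit 13), (nat_lit 9, t5_5_11_s4, nat_lit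 13), (nat_lit 8, t5_5_11_s5, nat_lit 13), (nat_lit 6, t5_5_11_s6, nat_lit 15), (nat_lit 20, t5_5_11_s6, nat_lit 11), (nat_lit 22, t5_5_11_s4, nat_lit 21), (nat_lit 19, t5_5_11_s5, nat_lit 21)]
noncomputable def t5_5_11_lev5 : Core.Lev := Core.mkLev m23_n m23_w m23_mask m23_L m23_maskL m23_idc (nat_lit 5) [t5_5_11_s6] [(nat_lit 17, t5_5_11_s6, nat_lit 5), (nat_lit 14, t5_5_11_s6, nat_lit 17)]
noncomputable def t5_5_11_levels : List Core.Lev := [t5_5_11_lev0, t5_5_11_lev1, t5_5_11_lev2, t5_5_11_lev3, t5_5_11_lev4, t5_5_11_lev5]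
theorem t5_5_11_ok : Core.checkAll m23_n m23_w m23_mask m23_L m23_maskL m23_idc [t5_5_11_X, t5_5_11_Y] t5_5_11_prog t5_5_11_levels = true := by decide +kernel
theorem t5_5_11_ord : Core.orderC t5_5_11_levels = 10200960 := by decide +kernel
theorem t5_5_11_tr : tripleOK 5 5 11 t5_5_11_X t5_5_11_Y = true := by decide +kernel
theorem wit_5_5_11 : WitP 5 5 11 := wit_of (by norm_num) (by norm_num) (by norm_num) t5_5_11_ok t5_5_11_ord t5_5_11_tr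

def t5_5_23_X : Nat := nat_lit 0xb906c449e052e098b8d5a1e6d28836
def t5_5_23_Y : Nat := nat_lit 0xbc5d36b28178eca21d10018b55a452
def t5_5_23_prog : List (Nat × Nat × Nat) := [(nat_lit 1, nat_lit 1, nat_lit 0), (nat_lit 1, nat_lit 1, nat_lit 0), (nat_lit 0, nat_lit 3, nat_lit 2), (nat_lit 0, nat_lit 0, nat_lit 4), (nat_lit 0, nat_lit 0, nat_lit 4), (nat_lit 0, nat_lit 0, nat_lit 5), (nat_lit 0, nat_lit 5, nat_lit 5), (nat_lit 0, nat_lit 0, nat_lit 5), (nat_lit 0, nat_lit 0, nat_lit 2), (nat_lit 0, nat_lit 9, nat_lit 10), (nat_lit 0, nat_lit 0, nat_lit 11), (nat_lit 0, nat_lit 0, nat_lit 11), (nat_lit 0, nat_lit 0, nat_lit 13), (nat_lit 0, nat_lit 0, nat_lit 13), (nat_lit 0, nat_lit 0, nat_lit 14), (nat_lit 0, nat_lit 0, nat_lit 16), (nat_lit 0, nat_lit 0, nat_lit 16), (nat_lit 0, nat_lit 0, nat_lit 17), (nat_lit 0, nat_lit 16, nat_lit 16), (nat_lit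 0, nat_lit 0, nat_lit 1), (nat_lit 0, nat_lit 16, nat_lit 21), (nat_lit 0, nat_lit 0, nat_lit 22), (nat_lit 0, nat_lit 15, nat_lit 0), (nat_lit 1, nat_lit 14, nat_lit 0), (nat_lit 1, nat_lit 1, nat_lit 0), (nat_lit 0, nat_lit 2, nat_lit 16), (nat_lit 0, nat_lit 0, nat_lit 6), (nat_lit 0, nat_lit 0, nat_lit 4), (nat_lit 0, nat_lit 0, nat_lit 19), (nat_lit 0, nat_lit 0, nat_lit 9), (nat_lit 0, nat_lit 0, nat_lit 7), (nat_lit 0, nat_lit 0, nat_lit 22), (nat_lit 0, nat_lit 0, nat_lit 9), (nat_lit 0, nat_lit 0, nat_lit 24), (nat_lit 0, nat_lit 0, nat_lit 14), (nat_lit 0, nat_lit 0, nat_lit 15), (nat_lit 0, nat_lit 11, nat_lit 0), (nat_lit 0, nat_lit 14, nat_lit 17), (nat_lit 0, nat_lit 0, nat_lit 29), (nat_lit 0, nat_lit 0, nat_lit 16), (nat_lit 0, nat_lit 0, nat_lit 31), (nat_lit 0, nat_lit 0, nat_lit 21), (nat_lit 0, nat_lit 0, nat_lit 22), (nat_lit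 0, nat_lit 18, nat_lit 19), (nat_lit 0, nat_lit 0, nat_lit 19), (nat_lit 0, nat_lit 0, nat_lit 2), (nat_lit 1, nat_lit 9, nat_lit 0), (nat_lit 1, nat_lit 1, nat_lit 0), (nat_lit 0, nat_lit 11, nat_lit 11), (nat_lit 0, nat_lit 0, nat_lit 12), (nat_lit 0, nat_lit 0, nat_lit 4), (nat_lit 0, nat_lit 0, nat_lit 14), (nat_lit 0, nat_lit 0, nat_lit 6), (nat_lit 0, nat_lit 0, nat_lit 7), (nat_lit 0, nat_lit 0, nat_lit 17), (nat_lit 0, nat_lit 0, nat_lit 9), (nat_lit 0, nat_lit 0, nat_lit 10), (nat_lit 0, nat_lit 9, nat_lit 10), (nat_lit 0, nat_lit 0, nat_lit 1), (nat_lit 0, nat_lit 13, nat_lit 13), (nat_lit 0, nat_lit 0, nat_lit 23), (nat_lit 0, nat_lit 0, nat_lit 15), (nat_lit 0, nat_lit 0, nat_lit 25), (nat_lit 0, nat_lit 0, nat_lit 17), (nat_lit 0, nat_lit 0, nat_lit 18), (nat_lit 0, nat_lit 0, nat_lit 28), (nat_lit 0, nat_lit 0, nat_lit 20), (nat_lit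 0, nat_lit 0, nat_lit 21), (nat_lit 0, nat_lit 0, nat_lit 31), (nat_lit 0, nat_lit 0, nat_lit 23), (nat_lit 0, nat_lit 22, nat_lit 22), (nat_lit 0, nat_lit 0, nat_lit 23), (nat_lit 0, nat_lit 0, nat_lit 2), (nat_lit 1, nat_lit 14, nat_lit 0), (nat_lit 1, nat_lit 1, nat_lit 0), (nat_lit 0, nat_lit 16, nat_lit 2), (nat_lit 0, nat_lit 0, nat_lit 3), (nat_lit 0, nat_lit 0, nat_lit 4), (nat_lit 0, nat_lit 0, nat_lit 19), (nat_lit 0, nat_lit 0, nat_lit 6), (nat_lit 0, nat_lit 6, nat_lit 6), (nat_lit 0, nat_lit 0, nat_lit 1), (nat_lit 0, nat_lit 9, nat_lit 9), (nat_lit 0, nat_lit 0, nat_lit 10), (nat_lit 0, nat_lit 0, nat_lit 11), (nat_lit 0, nat_lit 0, nat_lit 12), (nat_lit 0, nat_lit 0, nat_lit 27), (nat_lit 0, nat_lit 0, nat_lit 14), (nat_lit 0, nat_lit 0, nat_lit 29), (nat_lit 0, nat_lit 0, nat_lit 30), (nat_lit 0, nat_lit 0, nat_lit 17), (nat_lit 0,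 nat_lit 0, nat_lit 32), (nat_lit 0, nat_lit 0, nat_lit 19), (nat_lit 0, nat_lit 19, nat_lit 18), (nat_lit 0, nat_lit 0, nat_lit 20), (nat_lit 0, nat_lit 0, nat_lit 2), (nat_lit 0, nat_lit 23, nat_lit 37), (nat_lit 0, nat_lit 0, nat_lit 24), (nat_lit 0, nat_lit 0, nat_lit 25), (nat_lit 0, nat_lit 0, nat_lit 26), (nat_lit 0, nat_lit 0, nat_lit 27), (nat_lit 0, nat_lit 0, nat_lit 28), (nat_lit 0, nat_lit 0, nat_lit 43), (nat_lit 0, nat_lit 0, nat_lit 30), (nat_lit 0, nat_lit 0, nat_lit 31), (nat_lit 0, nat_lit 0, nat_lit 46), (nat_lit 0, nat_lit 0, nat_lit 47), (nat_lit 0, nat_lit 32, nat_lit 0), (nat_lit 0, nat_lit 49, nat_lit 49), (nat_lit 0, nat_lit 0, nat_lit 50), (nat_lit 0, nat_lit 0, nat_lit 37), (nat_lit 0, nat_lit 0, nat_lit 52), (nat_lit 0, nat_lit 0, nat_lit 53), (nat_lit 0, nat_lit 0, nat_lit 54), (nat_lit 0, nat_lit 0, nat_lit 55), (nat_lit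 0, nat_lit 0, nat_lit 42), (nat_lit 0, nat_lit 0, nat_lit 57), (nat_lit 0, nat_lit 0, nat_lit 44), (nat_lit 0, nat_lit 0, nat_lit 59), (nat_lit 0, nat_lit 44, nat_lit 44), (nat_lit 0, nat_lit 0, nat_lit 45), (nat_lit 0, nat_lit 0, nat_lit 46), (nat_lit 0, nat_lit 0, nat_lit 3), (nat_lit 1, nat_lit 41, nat_lit 0), (nat_lit 0, nat_lit 28, nat_lit 16), (nat_lit 0, nat_lit 0, nat_lit 29), (nat_lit 0, nat_lit 0, nat_lit 18), (nat_lit 0, nat_lit 0, nat_lit 19), (nat_lit 0, nat_lit 0, nat_lit 5), (nat_lit 0, nat_lit 5, nat_lit 0)]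
def t5_5_23_s0 : Nat := nat_lit 0xb906c449e052e098b8d5a1e6d28836
def t5_5_23_s1 : Nat := nat_lit 0xbccc47d52c748f482da1158a352220
def t5_5_23_s2 : Nat := nat_lit 0xbaa33215ed3b916a0ab24b20359820
def t5_5_23_s3 : Nat := nat_lit 0xbc1c72ca8d32acb4566c88d2478820
def t5_5_23_s4 : Nat := nat_lit 0xbae703bcac245144b6caa99d218820
def t5_5_23_s5 : Nat := nat_lit 0xb926faa22da3a0b6255231cb618820
def t5_5_23_s6 : Nat := nat_lit 0xbc12ba18ad946c79b11553dc418820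
noncomputable def t5_5_23_lev0 : Core.Lev := Core.mkLev m23_n m23_w m23_mask m23_L m23_maskL m23_idc (nat_lit 0) [t5_5_23_s6, t5_5_23_s4, t5_5_23_s5, t5_5_23_s3, t5_5_23_s2, t5_5_23_s1, t5_5_23_s0] [(nat_lit 22, t5_5_23_s0, nat_lit 0), (nat_lit 16, t5_5_23_s6, nat_lit 22), (nat_lit 11, t5_5_23_s4, nat_lit 22), (nat_lit 4, t5_5_23_s5, nat_lit 22), (nat_lit 10, t5_5_23_s2, nat_lit 22), (nat_lit 19, t5_5_23_s1, nat_lit 22), (nat_lit 13, t5_5_23_s6, nat_lit 16), (nat_lit 12, t5_5_23_s4, nat_lit 16), (nat_lit 9, t5_5_23_s4, nat_lit 11), (nat_lit 8, t5_5_23_s3, nat_lit 11), (nat_lit 20, t5_5_23_s2, nat_lit 11), (nat_lit 17, t5_5_23_s0, nat_lit 11), (nat_lit 18, t5_5_23_s4, nat_lit 4), (nat_lit 3, t5_5_23_s2, nat_lit 4), (nat_lit 21, t5_5_23_s3, nat_lit 10), (nat_lit 2, t5_5_23_s2, nat_lit 10), (nat_lit 14, t5_5_23_s0, nat_lit 10), (nat_lit 7, t5_5_23_s4,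 nat_lit 19), (nat_lit 5, t5_5_23_s3, nat_lit 19), (nat_lit 15, t5_5_23_s1, nat_lit 19), (nat_lit 6, t5_5_23_s0, nat_lit 9), (nat_lit 1, t5_5_23_s1, nat_lit 8)]
noncomputable def t5_5_23_lev1 : Core.Lev := Core.mkLev m23_n m23_w m23_mask m23_L m23_maskL m23_idc (nat_lit 1) [t5_5_23_s6, t5_5_23_s4, t5_5_23_s5, t5_5_23_s3, t5_5_23_s2, t5_5_23_s1] [(nat_lit 17, t5_5_23_s1, nat_lit 1), (nat_lit 5, t5_5_23_s6, nat_lit 17), (nat_lit 20, t5_5_23_s3, nat_lit 17), (nat_lit 15, t5_5_23_s2, nat_lit 17), (nat_lit 9, t5_5_23_s1, nat_lit 17), (nat_lit 14, t5_5_23_s6, nat_lit 5), (nat_lit 16, t5_5_23_s2, nat_lit 5), (nat_lit 11, t5_5_23_s6, nat_lit 20), (nat_lit 7, t5_5_23_s3, nat_lit 20), (nat_lit 19, t5_5_23_s2, nat_lit 20), (nat_lit 4, t5_5_23_s1, nat_lit 20), (nat_lit 18, t5_5_23_s6, nat_lit 15), (nat_lit 6, t5_5_23_s3, nat_lit 15), (nat_lit 8, t5_5_23_s6, nat_lit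 9), (nat_lit 22, t5_5_23_s4, nat_lit 9), (nat_lit 10, t5_5_23_s5, nat_lit 9), (nat_lit 21, t5_5_23_s2, nat_lit 9), (nat_lit 13, t5_5_23_s1, nat_lit 9), (nat_lit 12, t5_5_23_s4, nat_lit 16), (nat_lit 2, t5_5_23_s1, nat_lit 7), (nat_lit 3, t5_5_23_s2, nat_lit 4)]
noncomputable def t5_5_23_lev2 : Core.Lev := Core.mkLev m23_n m23_w m23_mask m23_L m23_maskL m23_idc (nat_lit 2) [t5_5_23_s6, t5_5_23_s4, t5_5_23_s5, t5_5_23_s3, t5_5_23_s2] [(nat_lit 6, t5_5_23_s2, nat_lit 2), (nat_lit 15, t5_5_23_s6, nat_lit 6), (nat_lit 7, t5_5_23_s5, nat_lit 6), (nat_lit 3, t5_5_23_s3, nat_lit 6), (nat_lit 12, t5_5_23_s2, nat_lit 6), (nat_lit 18, t5_5_23_s6, nat_lit 15), (nat_lit 4, t5_5_23_s4, nat_lit 15), (nat_lit 20, t5_5_23_s5, nat_lit 15), (nat_lit 10, t5_5_23_s6, nat_lit 7), (nat_lit 21, t5_5_23_s4, nat_lit 7), (nat_lit 17, t5_5_23_s3, nat_lit 7), (nat_lit 9, t5_5_23_s2,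 nat_lit 7), (nat_lit 11, t5_5_23_s2, nat_lit 3), (nat_lit 22, t5_5_23_s2, nat_lit 12), (nat_lit 8, t5_5_23_s5, nat_lit 18), (nat_lit 5, t5_5_23_s2, nat_lit 18), (nat_lit 16, t5_5_23_s4, nat_lit 20), (nat_lit 19, t5_5_23_s2, nat_lit 20), (nat_lit 13, t5_5_23_s4, nat_lit 10), (nat_lit 14, t5_5_23_s3, nat_lit 21)]
noncomputable def t5_5_23_lev3 : Core.Lev := Core.mkLev m23_n m23_w m23_mask m23_L m23_maskL m23_idc (nat_lit 3) [t5_5_23_s6, t5_5_23_s4, t5_5_23_s5, t5_5_23_s3] [(nat_lit 15, t5_5_23_s3, nat_lit 3), (nat_lit 18, t5_5_23_s6, nat_lit 15), (nat_lit 4, t5_5_23_s4, nat_lit 15), (nat_lit 20, t5_5_23_s5, nat_lit 15), (nat_lit 6, t5_5_23_s3, nat_lit 15), (nat_lit 8, t5_5_23_s5, nat_lit 18), (nat_lit 22, t5_5_23_s5, nat_lit 4), (nat_lit 11, t5_5_23_s6, nat_lit 20), (nat_lit 16, t5_5_23_s4, nat_lit 20), (nat_lit 7, t5_5_23_s3, nat_lit 20), (nat_lit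 21, t5_5_23_s6, nat_lit 8), (nat_lit 10, t5_5_23_s4, nat_lit 8), (nat_lit 12, t5_5_23_s3, nat_lit 8), (nat_lit 19, t5_5_23_s6, nat_lit 11), (nat_lit 9, t5_5_23_s4, nat_lit 11), (nat_lit 13, t5_5_23_s6, nat_lit 16), (nat_lit 17, t5_5_23_s3, nat_lit 7), (nat_lit 14, t5_5_23_s3, nat_lit 21), (nat_lit 5, t5_5_23_s3, nat_lit 19)]
noncomputable def t5_5_23_lev4 : Core.Lev := Core.mkLev m23_n m23_w m23_mask m23_L m23_maskL m23_idc (nat_lit 4) [t5_5_23_s6, t5_5_23_s4, t5_5_23_s5] [(nat_lit 18, t5_5_23_s4, nat_lit 4), (nat_lit 22, t5_5_23_s5, nat_lit 4), (nat_lit 6, t5_5_23_s6, nat_lit 18), (nat_lit 15, t5_5_23_s4, nat_lit 18), (nat_lit 8, t5_5_23_s5, nat_lit 18), (nat_lit 16, t5_5_23_s6, nat_lit 22), (nat_lit 11, t5_5_23_s4, nat_lit 22), (nat_lit 7, t5_5_23_s5, nat_lit 6), (nat_lit 20, t5_5_23_s5, nat_lit 15), (nat_lit 21, t5_5_23_s6, nat_lit 8), (nat_lit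 10, t5_5_23_s4, nat_lit 8), (nat_lit 13, t5_5_23_s6, nat_lit 16), (nat_lit 12, t5_5_23_s4, nat_lit 16), (nat_lit 19, t5_5_23_s6, nat_lit 11), (nat_lit 9, t5_5_23_s4, nat_lit 11)]
noncomputable def t5_5_23_lev5 : Core.Lev := Core.mkLev m23_n m23_w m23_mask m23_L m23_maskL m23_idc (nat_lit 5) [t5_5_23_s6] [(nat_lit 14, t5_5_23_s6, nat_lit 5), (nat_lit 17, t5_5_23_s6, nat_lit 14)]
noncomputable def t5_5_23_levels : List Core.Lev := [t5_5_23_lev0, t5_5_23_lev1, t5_5_23_lev2, t5_5_23_lev3, t5_5_23_lev4, t5_5_23_lev5]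
theorem t5_5_23_ok : Core.checkAll m23_n m23_w m23_mask m23_L m23_maskL m23_idc [t5_5_23_X, t5_5_23_Y] t5_5_23_prog t5_5_23_levels = true := by decide +kernel
theorem t5_5_23_ord : Core.orderC t5_5_23_levels = 10200960 := by decide +kernel
theorem t5_5_23_tr : tripleOK 5 5 23 t5_5_23_X t5_5_23_Y = true := by decide +kernel
theorem wit_5_5_23 : WitP 5 5 23 := wit_of (by norm_num) (by norm_num) (by norm_num) t5_5_23_ok t5_5_23_ord t5_5_23_tr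

def t5_7_7_X : Nat := nat_lit 0xb81072c96d8a89473d9332476a8830
def t5_7_7_Y : Nat := nat_lit 0xba8cf9d51160e0e5b640490e50d056
def t5_7_7_prog : List (Nat × Nat × Nat) := [(nat_lit 1, nat_lit 0, nat_lit 0), (nat_lit 0, nat_lit 0, nat_lit 0), (nat_lit 0, nat_lit 2, nat_lit 3), (nat_lit 0, nat_lit 0, nat_lit 4), (nat_lit 0, nat_lit 0, nat_lit 4), (nat_lit 0, nat_lit 0, nat_lit 6), (nat_lit 0, nat_lit 0, nat_lit 6), (nat_lit 0, nat_lit 0, nat_lit 7), (nat_lit 0, nat_lit 0, nat_lit 9), (nat_lit 0, nat_lit 0, nat_lit 9), (nat_lit 0, nat_lit 0, nat_lit 10), (nat_lit 0, nat_lit 9, nat_lit 0), (nat_lit 0, nat_lit 13, nat_lit 13), (nat_lit 0, nat_lit 0, nat_lit 13), (nat_lit 0, nat_lit 0, nat_lit 15), (nat_lit 0, nat_lit 0, nat_lit 16), (nat_lit 0, nat_lit 0, nat_lit 16), (nat_lit 0, nat_lit 0, nat_lit 17), (nat_lit 0, nat_lit 0, nat_lit 19), (nat_lit 0,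 nat_lit 0, nat_lit 19), (nat_lit 0, nat_lit 0, nat_lit 21), (nat_lit 0, nat_lit 20, nat_lit 0), (nat_lit 1, nat_lit 10, nat_lit 0), (nat_lit 1, nat_lit 1, nat_lit 0), (nat_lit 0, nat_lit 12, nat_lit 2), (nat_lit 0, nat_lit 0, nat_lit 13), (nat_lit 0, nat_lit 0, nat_lit 4), (nat_lit 0, nat_lit 0, nat_lit 15), (nat_lit 0, nat_lit 0, nat_lit 16), (nat_lit 0, nat_lit 0, nat_lit 7), (nat_lit 0, nat_lit 0, nat_lit 18), (nat_lit 0, nat_lit 0, nat_lit 9), (nat_lit 0, nat_lit 0, nat_lit 10), (nat_lit 0, nat_lit 0, nat_lit 21), (nat_lit 0, nat_lit 11, nat_lit 11), (nat_lit 0, nat_lit 0, nat_lit 12), (nat_lit 0, nat_lit 0, nat_lit 12), (nat_lit 0, nat_lit 0, nat_lit 14), (nat_lit 0, nat_lit 0, nat_lit 4), (nat_lit 0, nat_lit 17, nat_lit 17), (nat_lit 0, nat_lit 0, nat_lit 18), (nat_lit 0, nat_lit 0, nat_lit 29), (nat_lit 0, nat_lit 0, nat_lit 20), (nat_lit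 0, nat_lit 0, nat_lit 31), (nat_lit 0, nat_lit 0, nat_lit 22), (nat_lit 0, nat_lit 0, nat_lit 23), (nat_lit 0, nat_lit 23, nat_lit 22), (nat_lit 0, nat_lit 0, nat_lit 23), (nat_lit 0, nat_lit 0, nat_lit 2), (nat_lit 1, nat_lit 10, nat_lit 0), (nat_lit 1, nat_lit 1, nat_lit 0), (nat_lit 0, nat_lit 12, nat_lit 2), (nat_lit 0, nat_lit 0, nat_lit 13), (nat_lit 0, nat_lit 0, nat_lit 4), (nat_lit 0, nat_lit 0, nat_lit 15), (nat_lit 0, nat_lit 0, nat_lit 16), (nat_lit 0, nat_lit 0, nat_lit 7), (nat_lit 0, nat_lit 0, nat_lit 8), (nat_lit 0, nat_lit 0, nat_lit 9), (nat_lit 0, nat_lit 8, nat_lit 8), (nat_lit 0, nat_lit 0, nat_lit 10), (nat_lit 0, nat_lit 0, nat_lit 2), (nat_lit 0, nat_lit 23, nat_lit 23), (nat_lit 0, nat_lit 0, nat_lit 14), (nat_lit 0, nat_lit 0, nat_lit 15), (nat_lit 0, nat_lit 0, nat_lit 26), (nat_lit 0, nat_lit 0, nat_lit 27), (nat_lit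 0, nat_lit 0, nat_lit 28), (nat_lit 0, nat_lit 0, nat_lit 29), (nat_lit 0, nat_lit 0, nat_lit 30), (nat_lit 0, nat_lit 0, nat_lit 31), (nat_lit 0, nat_lit 0, nat_lit 22), (nat_lit 0, nat_lit 12, nat_lit 21), (nat_lit 0, nat_lit 0, nat_lit 1), (nat_lit 1, nat_lit 0, nat_lit 0), (nat_lit 1, nat_lit 13, nat_lit 0), (nat_lit 0, nat_lit 2, nat_lit 2), (nat_lit 0, nat_lit 0, nat_lit 3), (nat_lit 0, nat_lit 0, nat_lit 16), (nat_lit 0, nat_lit 0, nat_lit 5), (nat_lit 0, nat_lit 0, nat_lit 18), (nat_lit 0, nat_lit 0, nat_lit 19), (nat_lit 0, nat_lit 0, nat_lit 8), (nat_lit 0, nat_lit 0, nat_lit 21), (nat_lit 0, nat_lit 9, nat_lit 8), (nat_lit 0, nat_lit 0, nat_lit 9), (nat_lit 0, nat_lit 0, nat_lit 11), (nat_lit 0, nat_lit 0, nat_lit 11), (nat_lit 0, nat_lit 0, nat_lit 4), (nat_lit 0, nat_lit 15, nat_lit 27), (nat_lit 0, nat_lit 0, nat_lit 16), (nat_lit 0,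 nat_lit 0, nat_lit 17), (nat_lit 0, nat_lit 0, nat_lit 18), (nat_lit 0, nat_lit 0, nat_lit 19), (nat_lit 0, nat_lit 0, nat_lit 20), (nat_lit 0, nat_lit 0, nat_lit 33), (nat_lit 0, nat_lit 0, nat_lit 22), (nat_lit 0, nat_lit 11, nat_lit 0), (nat_lit 0, nat_lit 36, nat_lit 24), (nat_lit 0, nat_lit 0, nat_lit 37), (nat_lit 0, nat_lit 0, nat_lit 38), (nat_lit 0, nat_lit 0, nat_lit 39), (nat_lit 0, nat_lit 0, nat_lit 28), (nat_lit 0, nat_lit 0, nat_lit 41), (nat_lit 0, nat_lit 0, nat_lit 30), (nat_lit 0, nat_lit 0, nat_lit 31), (nat_lit 0, nat_lit 21, nat_lit 31), (nat_lit 0, nat_lit 0, nat_lit 31), (nat_lit 0, nat_lit 0, nat_lit 33), (nat_lit 0, nat_lit 0, nat_lit 33), (nat_lit 0, nat_lit 0, nat_lit 4), (nat_lit 1, nat_lit 22, nat_lit 0), (nat_lit 0, nat_lit 14, nat_lit 14), (nat_lit 0, nat_lit 0, nat_lit 15), (nat_lit 0, nat_lit 0, nat_lit 25), (nat_lit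 0, nat_lit 0, nat_lit 26), (nat_lit 0, nat_lit 0, nat_lit 18), (nat_lit 0, nat_lit 0, nat_lit 19), (nat_lit 0, nat_lit 0, nat_lit 20), (nat_lit 0, nat_lit 0, nat_lit 21), (nat_lit 0, nat_lit 8, nat_lit 8), (nat_lit 0, nat_lit 0, nat_lit 1)]
def t5_7_7_s0 : Nat := nat_lit 0xb81072c96d8a89473d9332476a8830
def t5_7_7_s1 : Nat := nat_lit 0xba24ba29c730a300d9a54d5e323260
def t5_7_7_s2 : Nat := nat_lit 0xbd5e274d34b490c2b48a598f11c020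
def t5_7_7_s3 : Nat := nat_lit 0xba0eaa8ecb7c18572691999b220820
def t5_7_7_s4 : Nat := nat_lit 0xbb54c79cb044486aae534d1d618820
def t5_7_7_s5 : Nat := nat_lit 0xbac8a69dd2a159333d3585a2818820
def t5_7_7_s6 : Nat := nat_lit 0xbb5135bdd63160aa1ea964a2418820
noncomputable def t5_7_7_lev0 : Core.Lev := Core.mkLev m23_n m23_w m23_mask m23_L m23_maskL m23_idc (nat_lit 0) [t5_7_7_s6, t5_7_7_s4, t5_7_7_s5, t5_7_7_s3, t5_7_7_s2, t5_7_7_s1, t5_7_7_s0] [(nat_lit 16, t5_7_7_s0, nat_lit 0), (nat_lit 22, t5_7_7_s6, nat_lit 16), (nat_lit 18, t5_7_7_s5, nat_lit 16), (nat_lit 11, t5_7_7_s3, nat_lit 16), (nat_lit 20, t5_7_7_s2, nat_lit 16), (nat_lit 7, t5_7_7_s1, nat_lit 16), (nat_lit 13, t5_7_7_s0, nat_lit 16), (nat_lit 8, t5_7_7_s3, nat_lit 22), (nat_lit 21, t5_7_7_s2, nat_lit 22), (nat_lit 15, t5_7_7_s6, nat_lit 18), (nat_lit 3, t5_7_7_s3, nat_lit 18), (nat_lit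 19, t5_7_7_s2, nat_lit 18), (nat_lit 10, t5_7_7_s1, nat_lit 18), (nat_lit 6, t5_7_7_s5, nat_lit 11), (nat_lit 14, t5_7_7_s3, nat_lit 11), (nat_lit 5, t5_7_7_s2, nat_lit 11), (nat_lit 1, t5_7_7_s1, nat_lit 11), (nat_lit 12, t5_7_7_s4, nat_lit 20), (nat_lit 2, t5_7_7_s2, nat_lit 20), (nat_lit 9, t5_7_7_s4, nat_lit 7), (nat_lit 4, t5_7_7_s4, nat_lit 13), (nat_lit 17, t5_7_7_s1, nat_lit 13)]
noncomputable def t5_7_7_lev1 : Core.Lev := Core.mkLev m23_n m23_w m23_mask m23_L m23_maskL m23_idc (nat_lit 1) [t5_7_7_s6, t5_7_7_s4, t5_7_7_s5, t5_7_7_s3, t5_7_7_s2, t5_7_7_s1] [(nat_lit 19, t5_7_7_s1, nat_lit 1), (nat_lit 11, t5_7_7_s6, nat_lit 19), (nat_lit 15, t5_7_7_s4, nat_lit 19), (nat_lit 13, t5_7_7_s5, nat_lit 19), (nat_lit 21, t5_7_7_s3, nat_lit 19), (nat_lit 14, t5_7_7_s2, nat_lit 19), (nat_lit 20, t5_7_7_s1, nat_lit 19), (nat_lit 6, t5_7_7_s5, nat_lit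 11), (nat_lit 5, t5_7_7_s2, nat_lit 11), (nat_lit 8, t5_7_7_s4, nat_lit 15), (nat_lit 22, t5_7_7_s2, nat_lit 15), (nat_lit 16, t5_7_7_s6, nat_lit 13), (nat_lit 4, t5_7_7_s4, nat_lit 13), (nat_lit 12, t5_7_7_s5, nat_lit 13), (nat_lit 17, t5_7_7_s1, nat_lit 13), (nat_lit 10, t5_7_7_s4, nat_lit 21), (nat_lit 7, t5_7_7_s3, nat_lit 21), (nat_lit 18, t5_7_7_s1, nat_lit 21), (nat_lit 2, t5_7_7_s1, nat_lit 14), (nat_lit 9, t5_7_7_s6, nat_lit 8), (nat_lit 3, t5_7_7_s1, nat_lit 4)]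
noncomputable def t5_7_7_lev2 : Core.Lev := Core.mkLev m23_n m23_w m23_mask m23_L m23_maskL m23_idc (nat_lit 2) [t5_7_7_s6, t5_7_7_s4, t5_7_7_s5, t5_7_7_s3, t5_7_7_s2] [(nat_lit 16, t5_7_7_s2, nat_lit 2), (nat_lit 22, t5_7_7_s6, nat_lit 16), (nat_lit 18, t5_7_7_s5, nat_lit 16), (nat_lit 11, t5_7_7_s3, nat_lit 16), (nat_lit 20, t5_7_7_s2, nat_lit 16), (nat_lit 13, t5_7_7_s6, nat_lit 22), (nat_lit 8, t5_7_7_s3, nat_lit 22), (nat_lit 21, t5_7_7_s2, nat_lit 22), (nat_lit 15, t5_7_7_s6, nat_lit 18), (nat_lit 7, t5_7_7_s4, nat_lit 18), (nat_lit 3, t5_7_7_s3, nat_lit 18), (nat_lit 19, t5_7_7_s2, nat_lit 18), (nat_lit 6, t5_7_7_s5, nat_lit 11), (nat_lit 14, t5_7_7_s3, nat_lit 11), (nat_lit 5, t5_7_7_s2, nat_lit 11), (nat_lit 12, t5_7_7_s4, nat_lit 20), (nat_lit 10, t5_7_7_s5, nat_lit 20), (nat_lit 4, t5_7_7_s4, nat_lit 13), (nat_lit 9, t5_7_7_s6, nat_lit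 8), (nat_lit 17, t5_7_7_s3, nat_lit 8)]
noncomputable def t5_7_7_lev3 : Core.Lev := Core.mkLev m23_n m23_w m23_mask m23_L m23_maskL m23_idc (nat_lit 3) [t5_7_7_s6, t5_7_7_s4, t5_7_7_s5, t5_7_7_s3] [(nat_lit 4, t5_7_7_s3, nat_lit 3), (nat_lit 22, t5_7_7_s4, nat_lit 4), (nat_lit 8, t5_7_7_s5, nat_lit 4), (nat_lit 18, t5_7_7_s3, nat_lit 4), (nat_lit 13, t5_7_7_s6, nat_lit 22), (nat_lit 11, t5_7_7_s5, nat_lit 22), (nat_lit 9, t5_7_7_s6, nat_lit 8), (nat_lit 19, t5_7_7_s4, nat_lit 8), (nat_lit 21, t5_7_7_s5, nat_lit 8), (nat_lit 17, t5_7_7_s3, nat_lit 8), (nat_lit 15, t5_7_7_s6, nat_lit 18), (nat_lit 7, t5_7_7_s4, nat_lit 18), (nat_lit 16, t5_7_7_s6, nat_lit 13), (nat_lit 12, t5_7_7_s5, nat_lit 13), (nat_lit 20, t5_7_7_s6, nat_lit 11), (nat_lit 6, t5_7_7_s5, nat_lit 11), (nat_lit 14, t5_7_7_s3, nat_lit 11), (nat_lit 10, t5_7_7_s4, nat_lit 21), (nat_lit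 5, t5_7_7_s4, nat_lit 17)]
noncomputable def t5_7_7_lev4 : Core.Lev := Core.mkLev m23_n m23_w m23_mask m23_L m23_maskL m23_idc (nat_lit 4) [t5_7_7_s6, t5_7_7_s4, t5_7_7_s5] [(nat_lit 22, t5_7_7_s4, nat_lit 4), (nat_lit 8, t5_7_7_s5, nat_lit 4), (nat_lit 13, t5_7_7_s6, nat_lit 22), (nat_lit 11, t5_7_7_s5, nat_lit 22), (nat_lit 9, t5_7_7_s6, nat_lit 8), (nat_lit 19, t5_7_7_s4, nat_lit 8), (nat_lit 21, t5_7_7_s5, nat_lit 8), (nat_lit 16, t5_7_7_s6, nat_lit 13), (nat_lit 12, t5_7_7_s5, nat_lit 13), (nat_lit 20, t5_7_7_s6, nat_lit 11), (nat_lit 6, t5_7_7_s5, nat_lit 11), (nat_lit 18, t5_7_7_s4, nat_lit 9), (nat_lit 15, t5_7_7_s4, nat_lit 19), (nat_lit 10, t5_7_7_s4, nat_lit 21), (nat_lit 7, t5_7_7_s4, nat_lit 18)]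
noncomputable def t5_7_7_lev5 : Core.Lev := Core.mkLev m23_n m23_w m23_mask m23_L m23_maskL m23_idc (nat_lit 5) [t5_7_7_s6] [(nat_lit 17, t5_7_7_s6, nat_lit 5), (nat_lit 14, t5_7_7_s6, nat_lit 17)]
noncomputable def t5_7_7_levels : List Core.Lev := [t5_7_7_lev0, t5_7_7_lev1, t5_7_7_lev2, t5_7_7_lev3, t5_7_7_lev4, t5_7_7_lev5]
theorem t5_7_7_ok : Core.checkAll m23_n m23_w m23_mask m23_L m23_maskL m23_idc [t5_7_7_X, t5_7_7_Y] t5_7_7_prog t5_7_7_levels = true := by decide +kernel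
theorem t5_7_7_ord : Core.orderC t5_7_7_levels = 10200960 := by decide +kernel
theorem t5_7_7_tr : tripleOK 5 7 7 t5_7_7_X t5_7_7_Y = true := by decide +kernel
theorem wit_5_7_7 : WitP 5 7 7 := wit_of (by norm_num) (by norm_num) (by norm_num) t5_7_7_ok t5_7_7_ord t5_7_7_tr

def t5_7_11_X : Nat := nat_lit 0xb906c449e052e098b8d5a1e6d28836
def t5_7_11_Y : Nat := nat_lit 0xbbd54032353482828acb69c7074d24
def t5_7_11_prog : List (Nat × Nat × Nat) := [(nat_lit 1, nat_lit 1, nat_lit 0), (nat_lit 1, nat_lit 1, nat_lit 0), (nat_lit 0, nat_lit 3, nat_lit 2), (nat_lit 0, nat_lit 0, nat_lit 4), (nat_lit 0, nat_lit 0, nat_lit 4), (nat_lit 0, nat_lit 0, nat_lit 5), (nat_lit 0, nat_lit 4, nat_lit 5), (nat_lit 0, nat_lit 0, nat_lit 1), (nat_lit 0, nat_lit 8, nat_lit 9), (nat_lit 0, nat_lit 0, nat_lit 10), (nat_lit 0, nat_lit 0, nat_lit 10), (nat_lit 0, nat_lit 0,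 nat_lit 12), (nat_lit 0, nat_lit 0, nat_lit 12), (nat_lit 0, nat_lit 0, nat_lit 13), (nat_lit 0, nat_lit 0, nat_lit 15), (nat_lit 0, nat_lit 0, nat_lit 15), (nat_lit 0, nat_lit 0, nat_lit 16), (nat_lit 0, nat_lit 15, nat_lit 15), (nat_lit 0, nat_lit 0, nat_lit 16), (nat_lit 0, nat_lit 0, nat_lit 2), (nat_lit 1, nat_lit 12, nat_lit 0), (nat_lit 1, nat_lit 1, nat_lit 0), (nat_lit 0, nat_lit 14, nat_lit 2), (nat_lit 0, nat_lit 0, nat_lit 15), (nat_lit 0, nat_lit 0, nat_lit 16), (nat_lit 0, nat_lit 0, nat_lit 17), (nat_lit 0, nat_lit 5, nat_lit 5), (nat_lit 0, nat_lit 0, nat_lit 1), (nat_lit 0, nat_lit 20, nat_lit 20), (nat_lit 0, nat_lit 0, nat_lit 9), (nat_lit 0, nat_lit 0, nat_lit 22), (nat_lit 0, nat_lit 0, nat_lit 23), (nat_lit 0, nat_lit 0, nat_lit 12), (nat_lit 0, nat_lit 0, nat_lit 13), (nat_lit 0, nat_lit 0, nat_lit 26), (nat_lit 0, nat_lit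 0, nat_lit 15), (nat_lit 0, nat_lit 0, nat_lit 28), (nat_lit 0, nat_lit 15, nat_lit 16), (nat_lit 0, nat_lit 0, nat_lit 17), (nat_lit 0, nat_lit 0, nat_lit 17), (nat_lit 0, nat_lit 0, nat_lit 19), (nat_lit 0, nat_lit 0, nat_lit 20), (nat_lit 0, nat_lit 0, nat_lit 5), (nat_lit 1, nat_lit 15, nat_lit 0), (nat_lit 1, nat_lit 1, nat_lit 0), (nat_lit 0, nat_lit 17, nat_lit 2), (nat_lit 0, nat_lit 0, nat_lit 18), (nat_lit 0, nat_lit 0, nat_lit 4), (nat_lit 0, nat_lit 0, nat_lit 20), (nat_lit 0, nat_lit 0, nat_lit 21), (nat_lit 0, nat_lit 0, nat_lit 7), (nat_lit 0, nat_lit 0, nat_lit 23), (nat_lit 0, nat_lit 0, nat_lit 9), (nat_lit 0, nat_lit 0, nat_lit 10), (nat_lit 0, nat_lit 0, nat_lit 26), (nat_lit 0, nat_lit 10, nat_lit 11), (nat_lit 0, nat_lit 0, nat_lit 1), (nat_lit 0, nat_lit 14, nat_lit 14), (nat_lit 0, nat_lit 0, nat_lit 15), (nat_lit 0, nat_lit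 0, nat_lit 31), (nat_lit 0, nat_lit 0, nat_lit 17), (nat_lit 0, nat_lit 0, nat_lit 33), (nat_lit 0, nat_lit 11, nat_lit 19), (nat_lit 0, nat_lit 0, nat_lit 20), (nat_lit 0, nat_lit 8, nat_lit 20), (nat_lit 0, nat_lit 0, nat_lit 20), (nat_lit 0, nat_lit 0, nat_lit 22), (nat_lit 0, nat_lit 0, nat_lit 23), (nat_lit 0, nat_lit 0, nat_lit 4), (nat_lit 0, nat_lit 7, nat_lit 41), (nat_lit 0, nat_lit 0, nat_lit 27), (nat_lit 0, nat_lit 0, nat_lit 43), (nat_lit 0, nat_lit 16, nat_lit 0), (nat_lit 1, nat_lit 16, nat_lit 0), (nat_lit 1, nat_lit 5, nat_lit 0), (nat_lit 1, nat_lit 2, nat_lit 0), (nat_lit 0, nat_lit 7, nat_lit 3), (nat_lit 0, nat_lit 0, nat_lit 4), (nat_lit 0, nat_lit 0, nat_lit 21), (nat_lit 0, nat_lit 0, nat_lit 6), (nat_lit 0, nat_lit 0, nat_lit 11), (nat_lit 0, nat_lit 0, nat_lit 12), (nat_lit 0, nat_lit 0, nat_lit 13), (nat_lit 0, nat_lit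 0, nat_lit 14), (nat_lit 0, nat_lit 10, nat_lit 10), (nat_lit 0, nat_lit 0, nat_lit 1), (nat_lit 0, nat_lit 13, nat_lit 17), (nat_lit 0, nat_lit 0, nat_lit 14), (nat_lit 0, nat_lit 0, nat_lit 31), (nat_lit 0, nat_lit 0, nat_lit 32), (nat_lit 0, nat_lit 0, nat_lit 17), (nat_lit 0, nat_lit 0, nat_lit 34), (nat_lit 0, nat_lit 0, nat_lit 19), (nat_lit 0, nat_lit 0, nat_lit 20), (nat_lit 0, nat_lit 20, nat_lit 18), (nat_lit 0, nat_lit 0, nat_lit 20), (nat_lit 0, nat_lit 0, nat_lit 22), (nat_lit 0, nat_lit 0, nat_lit 3), (nat_lit 0, nat_lit 41, nat_lit 25), (nat_lit 0, nat_lit 0, nat_lit 30), (nat_lit 0, nat_lit 0, nat_lit 43), (nat_lit 0, nat_lit 0, nat_lit 28), (nat_lit 0, nat_lit 17, nat_lit 27), (nat_lit 0, nat_lit 0, nat_lit 1), (nat_lit 0, nat_lit 47, nat_lit 47), (nat_lit 0, nat_lit 0, nat_lit 36), (nat_lit 0, nat_lit 0, nat_lit 49), (nat_lit 0,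 nat_lit 0, nat_lit 38), (nat_lit 0, nat_lit 23, nat_lit 32), (nat_lit 0, nat_lit 0, nat_lit 1), (nat_lit 1, nat_lit 12, nat_lit 0), (nat_lit 1, nat_lit 7, nat_lit 0), (nat_lit 0, nat_lit 8, nat_lit 14), (nat_lit 0, nat_lit 0, nat_lit 9), (nat_lit 0, nat_lit 0, nat_lit 28), (nat_lit 0, nat_lit 0, nat_lit 11), (nat_lit 0, nat_lit 0, nat_lit 18), (nat_lit 0, nat_lit 0, nat_lit 7), (nat_lit 0, nat_lit 0, nat_lit 32), (nat_lit 0, nat_lit 0, nat_lit 21), (nat_lit 0, nat_lit 0, nat_lit 34), (nat_lit 0, nat_lit 10, nat_lit 10), (nat_lit 0, nat_lit 0, nat_lit 10), (nat_lit 0, nat_lit 0, nat_lit 2)]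
def t5_7_11_s0 : Nat := nat_lit 0xb906c449e052e098b8d5a1e6d28836
def t5_7_11_s1 : Nat := nat_lit 0xb9c4c6d5eea24d12a1530c16395880
def t5_7_11_s2 : Nat := nat_lit 0xb88e56c5e89da464aa04a386bab020
def t5_7_11_s3 : Nat := nat_lit 0xba4cd3950a249f175a039d57460820
def t5_7_11_s4 : Nat := nat_lit 0xbc0ea332364b892451ebaccad18820
def t5_7_11_s5 : Nat := nat_lit 0xbc8e49a8a884589a59af355cb18820
def t5_7_11_s6 : Nat := nat_lit 0xbc12ba18ad946c79b11553dc418820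
noncomputable def t5_7_11_lev0 : Core.Lev := Core.mkLev m23_n m23_w m23_mask m23_L m23_maskL m23_idc (nat_lit 0) [t5_7_11_s6, t5_7_11_s4, t5_7_11_s5, t5_7_11_s3, t5_7_11_s2, t5_7_11_s1, t5_7_11_s0] [(nat_lit 22, t5_7_11_s0, nat_lit 0), (nat_lit 16, t5_7_11_s6, nat_lit 22), (nat_lit 18, t5_7_11_s5, nat_lit 22), (nat_lit 9, t5_7_11_s3, nat_lit 22), (nat_lit 2, t5_7_11_s2, nat_lit 22), (nat_lit 7, t5_7_11_s1, nat_lit 22), (nat_lit 4, t5_7_11_s0, nat_lit 22), (nat_lit 13, t5_7_11_s6, nat_lit 16), (nat_lit 8, t5_7_11_s5, nat_lit 16), (nat_lit 10, t5_7_11_s3, nat_lit 16), (nat_lit 14, t5_7_11_s1, nat_lit 16), (nat_lit 6, t5_7_11_s6, nat_lit 18), (nat_lit 12, t5_7_11_s4, nat_lit 18), (nat_lit 5, t5_7_11_s3, nat_lit 18), (nat_lit 17, t5_7_11_s2, nat_lit 18), (nat_lit 21, t5_7_11_s1, nat_lit 18), (nat_lit 15, t5_7_11_s4, nat_lit 9), (nat_lit 19, t5_7_11_s3,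 nat_lit 7), (nat_lit 20, t5_7_11_s2, nat_lit 7), (nat_lit 1, t5_7_11_s1, nat_lit 7), (nat_lit 11, t5_7_11_s5, nat_lit 4), (nat_lit 3, t5_7_11_s1, nat_lit 4)]
noncomputable def t5_7_11_lev1 : Core.Lev := Core.mkLev m23_n m23_w m23_mask m23_L m23_maskL m23_idc (nat_lit 1) [t5_7_11_s6, t5_7_11_s4, t5_7_11_s5, t5_7_11_s3, t5_7_11_s2, t5_7_11_s1] [(nat_lit 4, t5_7_11_s1, nat_lit 1), (nat_lit 13, t5_7_11_s4, nat_lit 4), (nat_lit 11, t5_7_11_s5, nat_lit 4), (nat_lit 20, t5_7_11_s3, nat_lit 4), (nat_lit 3, t5_7_11_s1, nat_lit 4), (nat_lit 22, t5_7_11_s6, nat_lit 13), (nat_lit 12, t5_7_11_s5, nat_lit 13), (nat_lit 15, t5_7_11_s3, nat_lit 13), (nat_lit 18, t5_7_11_s2, nat_lit 13), (nat_lit 6, t5_7_11_s1, nat_lit 13), (nat_lit 19, t5_7_11_s6, nat_lit 11), (nat_lit 8, t5_7_11_s4, nat_lit 11), (nat_lit 14, t5_7_11_s3, nat_lit 11), (nat_lit 9, t5_7_11_s2, nat_lit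 11), (nat_lit 5, t5_7_11_s1, nat_lit 11), (nat_lit 10, t5_7_11_s4, nat_lit 20), (nat_lit 21, t5_7_11_s2, nat_lit 3), (nat_lit 16, t5_7_11_s6, nat_lit 22), (nat_lit 2, t5_7_11_s2, nat_lit 22), (nat_lit 7, t5_7_11_s1, nat_lit 22), (nat_lit 17, t5_7_11_s3, nat_lit 12)]
noncomputable def t5_7_11_lev2 : Core.Lev := Core.mkLev m23_n m23_w m23_mask m23_L m23_maskL m23_idc (nat_lit 2) [t5_7_11_s6, t5_7_11_s4, t5_7_11_s5, t5_7_11_s3, t5_7_11_s2] [(nat_lit 12, t5_7_11_s2, nat_lit 2), (nat_lit 7, t5_7_11_s6, nat_lit 12), (nat_lit 18, t5_7_11_s4, nat_lit 12), (nat_lit 9, t5_7_11_s5, nat_lit 12), (nat_lit 17, t5_7_11_s3, nat_lit 12), (nat_lit 6, t5_7_11_s2, nat_lit 12), (nat_lit 10, t5_7_11_s6, nat_lit 7), (nat_lit 21, t5_7_11_s4, nat_lit 7), (nat_lit 19, t5_7_11_s3, nat_lit 7), (nat_lit 20, t5_7_11_s2, nat_lit 7), (nat_lit 5, t5_7_11_s3, nat_lit 18), (nat_lit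 8, t5_7_11_s6, nat_lit 9), (nat_lit 15, t5_7_11_s4, nat_lit 9), (nat_lit 13, t5_7_11_s5, nat_lit 9), (nat_lit 16, t5_7_11_s3, nat_lit 9), (nat_lit 14, t5_7_11_s2, nat_lit 6), (nat_lit 22, t5_7_11_s5, nat_lit 10), (nat_lit 11, t5_7_11_s6, nat_lit 20), (nat_lit 4, t5_7_11_s5, nat_lit 20), (nat_lit 3, t5_7_11_s2, nat_lit 5)]
noncomputable def t5_7_11_lev3 : Core.Lev := Core.mkLev m23_n m23_w m23_mask m23_L m23_maskL m23_idc (nat_lit 3) [t5_7_11_s6, t5_7_11_s4, t5_7_11_s5, t5_7_11_s3] [(nat_lit 12, t5_7_11_s3, nat_lit 3), (nat_lit 7, t5_7_11_s6, nat_lit 12), (nat_lit 18, t5_7_11_s4, nat_lit 12), (nat_lit 9, t5_7_11_s5, nat_lit 12), (nat_lit 17, t5_7_11_s3, nat_lit 12), (nat_lit 10, t5_7_11_s6, nat_lit 7), (nat_lit 21, t5_7_11_s4, nat_lit 7), (nat_lit 6, t5_7_11_s5, nat_lit 7), (nat_lit 19, t5_7_11_s3, nat_lit 7), (nat_lit 5, t5_7_11_s3, nat_lit 18),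 (nat_lit 8, t5_7_11_s6, nat_lit 9), (nat_lit 15, t5_7_11_s4, nat_lit 9), (nat_lit 13, t5_7_11_s5, nat_lit 9), (nat_lit 16, t5_7_11_s3, nat_lit 9), (nat_lit 20, t5_7_11_s4, nat_lit 10), (nat_lit 22, t5_7_11_s5, nat_lit 10), (nat_lit 14, t5_7_11_s6, nat_lit 5), (nat_lit 11, t5_7_11_s3, nat_lit 5), (nat_lit 4, t5_7_11_s3, nat_lit 15)]
noncomputable def t5_7_11_lev4 : Core.Lev := Core.mkLev m23_n m23_w m23_mask m23_L m23_maskL m23_idc (nat_lit 4) [t5_7_11_s6, t5_7_11_s4, t5_7_11_s5] [(nat_lit 13, t5_7_11_s4, nat_lit 4), (nat_lit 11, t5_7_11_s5, nat_lit 4), (nat_lit 22, t5_7_11_s6, nat_lit 13), (nat_lit 12, t5_7_11_s5, nat_lit 13), (nat_lit 19, t5_7_11_s6, nat_lit 11), (nat_lit 8, t5_7_11_s4, nat_lit 11), (nat_lit 20, t5_7_11_s5, nat_lit 11), (nat_lit 16, t5_7_11_s6, nat_lit 22), (nat_lit 18, t5_7_11_s5, nat_lit 22), (nat_lit 7, t5_7_11_s6, nat_lit 12),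 (nat_lit 9, t5_7_11_s5, nat_lit 12), (nat_lit 6, t5_7_11_s4, nat_lit 19), (nat_lit 21, t5_7_11_s6, nat_lit 8), (nat_lit 15, t5_7_11_s5, nat_lit 8), (nat_lit 10, t5_7_11_s4, nat_lit 20)]
noncomputable def t5_7_11_lev5 : Core.Lev := Core.mkLev m23_n m23_w m23_mask m23_L m23_maskL m23_idc (nat_lit 5) [t5_7_11_s6] [(nat_lit 14, t5_7_11_s6, nat_lit 5), (nat_lit 17, t5_7_11_s6, nat_lit 14)]
noncomputable def t5_7_11_levels : List Core.Lev := [t5_7_11_lev0, t5_7_11_lev1, t5_7_11_lev2, t5_7_11_lev3, t5_7_11_lev4, t5_7_11_lev5]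
theorem t5_7_11_ok : Core.checkAll m23_n m23_w m23_mask m23_L m23_maskL m23_idc [t5_7_11_X, t5_7_11_Y] t5_7_11_prog t5_7_11_levels = true := by decide +kernel
theorem t5_7_11_ord : Core.orderC t5_7_11_levels = 10200960 := by decide +kernel
theorem t5_7_11_tr : tripleOK 5 7 11 t5_7_11_X t5_7_11_Y = true := by decide +kernel
theorem wit_5_7_11 : WitP 5 7 11 := wit_of (by norm_num) (by norm_num) (by norm_num) t5_7_11_ok t5_7_11_ord t5_7_11_tr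

def t5_7_23_X : Nat := nat_lit 0xb81072c96d8a89473d9332476a8830
def t5_7_23_Y : Nat := nat_lit 0xba57552190b368f0c6673086e91480
def t5_7_23_prog : List (Nat × Nat × Nat) := [(nat_lit 1, nat_lit 1, nat_lit 0), (nat_lit 1, nat_lit 1, nat_lit 0), (nat_lit 0, nat_lit 3, nat_lit 2), (nat_lit 0, nat_lit 0, nat_lit 4), (nat_lit 0, nat_lit 0, nat_lit 4), (nat_lit 0, nat_lit 0, nat_lit 5), (nat_lit 0, nat_lit 5, nat_lit 5), (nat_lit 0, nat_lit 0, nat_lit 1), (nat_lit 0, nat_lit 8, nat_lit 9), (nat_lit 0, nat_lit 0, nat_lit 10), (nat_lit 0, nat_lit 0, nat_lit 10), (nat_lit 0, nat_lit 0, nat_lit 12), (nat_lit 0, nat_lit 0, nat_lit 12), (nat_lit 0, nat_lit 0, nat_lit 13), (nat_lit 0, nat_lit 0, nat_lit 15), (nat_lit 0, nat_lit 0, nat_lit 15), (nat_lit 0, nat_lit 0, nat_lit 16), (nat_lit 0, nat_lit 10, nat_lit 15), (nat_lit 0, nat_lit 0, nat_lit 17), (nat_lit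 0, nat_lit 0, nat_lit 18), (nat_lit 0, nat_lit 0, nat_lit 18), (nat_lit 0, nat_lit 0, nat_lit 4), (nat_lit 1, nat_lit 14, nat_lit 0), (nat_lit 1, nat_lit 1, nat_lit 0), (nat_lit 0, nat_lit 16, nat_lit 2), (nat_lit 0, nat_lit 0, nat_lit 17), (nat_lit 0, nat_lit 0, nat_lit 18), (nat_lit 0, nat_lit 0, nat_lit 19), (nat_lit 0, nat_lit 5, nat_lit 5), (nat_lit 0, nat_lit 0, nat_lit 1), (nat_lit 0, nat_lit 22, nat_lit 22), (nat_lit 0, nat_lit 0, nat_lit 9), (nat_lit 0, nat_lit 0, nat_lit 24), (nat_lit 0, nat_lit 0, nat_lit 25), (nat_lit 0, nat_lit 0, nat_lit 12), (nat_lit 0, nat_lit 0, nat_lit 13), (nat_lit 0, nat_lit 0, nat_lit 28), (nat_lit 0, nat_lit 0, nat_lit 15), (nat_lit 0, nat_lit 0, nat_lit 30), (nat_lit 0, nat_lit 16, nat_lit 15), (nat_lit 0, nat_lit 0, nat_lit 16), (nat_lit 0, nat_lit 0, nat_lit 2), (nat_lit 1, nat_lit 12, nat_lit 0), (nat_lit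 1, nat_lit 1, nat_lit 0), (nat_lit 0, nat_lit 14, nat_lit 2), (nat_lit 0, nat_lit 0, nat_lit 15), (nat_lit 0, nat_lit 0, nat_lit 4), (nat_lit 0, nat_lit 0, nat_lit 17), (nat_lit 0, nat_lit 0, nat_lit 18), (nat_lit 0, nat_lit 0, nat_lit 7), (nat_lit 0, nat_lit 0, nat_lit 20), (nat_lit 0, nat_lit 0, nat_lit 9), (nat_lit 0, nat_lit 0, nat_lit 10), (nat_lit 0, nat_lit 0, nat_lit 23), (nat_lit 0, nat_lit 11, nat_lit 11), (nat_lit 0, nat_lit 0, nat_lit 12), (nat_lit 0, nat_lit 0, nat_lit 12), (nat_lit 0, nat_lit 0, nat_lit 3), (nat_lit 0, nat_lit 16, nat_lit 16), (nat_lit 0, nat_lit 0, nat_lit 17), (nat_lit 0, nat_lit 0, nat_lit 30), (nat_lit 0, nat_lit 0, nat_lit 19), (nat_lit 0, nat_lit 0, nat_lit 32), (nat_lit 0, nat_lit 0, nat_lit 21), (nat_lit 0, nat_lit 0, nat_lit 22), (nat_lit 0, nat_lit 10, nat_lit 0), (nat_lit 1, nat_lit 0, nat_lit 0), (nat_lit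 1, nat_lit 9, nat_lit 0), (nat_lit 0, nat_lit 10, nat_lit 2), (nat_lit 0, nat_lit 0, nat_lit 11), (nat_lit 0, nat_lit 0, nat_lit 4), (nat_lit 0, nat_lit 0, nat_lit 13), (nat_lit 0, nat_lit 0, nat_lit 14), (nat_lit 0, nat_lit 0, nat_lit 7), (nat_lit 0, nat_lit 0, nat_lit 8), (nat_lit 0, nat_lit 0, nat_lit 9), (nat_lit 0, nat_lit 9, nat_lit 9), (nat_lit 0, nat_lit 11, nat_lit 11), (nat_lit 0, nat_lit 0, nat_lit 12), (nat_lit 0, nat_lit 0, nat_lit 21), (nat_lit 0, nat_lit 0, nat_lit 14), (nat_lit 0, nat_lit 0, nat_lit 23), (nat_lit 0, nat_lit 0, nat_lit 24), (nat_lit 0, nat_lit 0, nat_lit 17), (nat_lit 0, nat_lit 0, nat_lit 26), (nat_lit 0, nat_lit 18, nat_lit 17), (nat_lit 0, nat_lit 0, nat_lit 19), (nat_lit 0, nat_lit 0, nat_lit 19), (nat_lit 0, nat_lit 0, nat_lit 20), (nat_lit 0, nat_lit 0, nat_lit 22), (nat_lit 0, nat_lit 0, nat_lit 23), (nat_lit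 0, nat_lit 0, nat_lit 6), (nat_lit 0, nat_lit 26, nat_lit 34), (nat_lit 0, nat_lit 0, nat_lit 27), (nat_lit 0, nat_lit 0, nat_lit 28), (nat_lit 0, nat_lit 0, nat_lit 29), (nat_lit 0, nat_lit 10, nat_lit 28), (nat_lit 0, nat_lit 0, nat_lit 30), (nat_lit 0, nat_lit 5, nat_lit 40), (nat_lit 0, nat_lit 29, nat_lit 41), (nat_lit 0, nat_lit 0, nat_lit 42), (nat_lit 0, nat_lit 0, nat_lit 35), (nat_lit 0, nat_lit 0, nat_lit 44), (nat_lit 0, nat_lit 0, nat_lit 37), (nat_lit 0, nat_lit 0, nat_lit 38), (nat_lit 0, nat_lit 15, nat_lit 0), (nat_lit 0, nat_lit 26, nat_lit 48), (nat_lit 0, nat_lit 0, nat_lit 41), (nat_lit 0, nat_lit 0, nat_lit 42), (nat_lit 0, nat_lit 0, nat_lit 43), (nat_lit 0, nat_lit 0, nat_lit 44), (nat_lit 0, nat_lit 20, nat_lit 0), (nat_lit 0, nat_lit 13, nat_lit 46), (nat_lit 0, nat_lit 0, nat_lit 47), (nat_lit 0, nat_lit 0, nat_lit 56),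 (nat_lit 0, nat_lit 38, nat_lit 47), (nat_lit 0, nat_lit 0, nat_lit 48), (nat_lit 0, nat_lit 0, nat_lit 50), (nat_lit 0, nat_lit 0, nat_lit 3), (nat_lit 0, nat_lit 23, nat_lit 61), (nat_lit 0, nat_lit 0, nat_lit 54), (nat_lit 0, nat_lit 23, nat_lit 53), (nat_lit 0, nat_lit 0, nat_lit 1), (nat_lit 1, nat_lit 47, nat_lit 0), (nat_lit 1, nat_lit 1, nat_lit 0), (nat_lit 0, nat_lit 2, nat_lit 13), (nat_lit 0, nat_lit 0, nat_lit 7), (nat_lit 0, nat_lit 0, nat_lit 21), (nat_lit 0, nat_lit 0, nat_lit 36), (nat_lit 0, nat_lit 0, nat_lit 53), (nat_lit 0, nat_lit 6, nat_lit 5), (nat_lit 0, nat_lit 0, nat_lit 6), (nat_lit 0, nat_lit 0, nat_lit 2)]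
def t5_7_23_s0 : Nat := nat_lit 0xb81072c96d8a89473d9332476a8830
def t5_7_23_s1 : Nat := nat_lit 0xb95b00892c51e9630c889caab745e0
def t5_7_23_s2 : Nat := nat_lit 0xbb94612d0d945849d8a34be07ad020
def t5_7_23_s3 : Nat := nat_lit 0xbd1055d8ef8cd506b864648c9a8820
def t5_7_23_s4 : Nat := nat_lit 0xba1474922b3398d85676a3cb218820
def t5_7_23_s5 : Nat := nat_lit 0xb92924d4b65c5b33a1867a9d018820
def t5_7_23_s6 : Nat := nat_lit 0xbc12ba18ad946c79b11553dc418820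
noncomputable def t5_7_23_lev0 : Core.Lev := Core.mkLev m23_n m23_w m23_mask m23_L m23_maskL m23_idc (nat_lit 0) [t5_7_23_s6, t5_7_23_s4, t5_7_23_s5, t5_7_23_s3, t5_7_23_s2, t5_7_23_s1, t5_7_23_s0] [(nat_lit 16, t5_7_23_s0, nat_lit 0), (nat_lit 13, t5_7_23_s6, nat_lit 16), (nat_lit 11, t5_7_23_s4, nat_lit 16), (nat_lit 22, t5_7_23_s5, nat_lit 16), (nat_lit 15, t5_7_23_s3, nat_lit 16), (nat_lit 12, t5_7_23_s1, nat_lit 16), (nat_lit 10, t5_7_23_s3, nat_lit 13), (nat_lit 20, t5_7_23_s1, nat_lit 13), (nat_lit 4, t5_7_23_s0, nat_lit 13), (nat_lit 19, t5_7_23_s6, nat_lit 11), (nat_lit 7, t5_7_23_s5, nat_lit 11), (nat_lit 6, t5_7_23_s1, nat_lit 11), (nat_lit 14, t5_7_23_s0, nat_lit 11), (nat_lit 8, t5_7_23_s4, nat_lit 22), (nat_lit 5, t5_7_23_s1, nat_lit 22), (nat_lit 18, t5_7_23_s6, nat_lit 15), (nat_lit 17, t5_7_23_s3, nat_lit 15), (nat_lit 21, t5_7_23_s4,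 nat_lit 10), (nat_lit 3, t5_7_23_s1, nat_lit 10), (nat_lit 9, t5_7_23_s3, nat_lit 4), (nat_lit 2, t5_7_23_s2, nat_lit 19), (nat_lit 1, t5_7_23_s1, nat_lit 19)]
noncomputable def t5_7_23_lev1 : Core.Lev := Core.mkLev m23_n m23_w m23_mask m23_L m23_maskL m23_idc (nat_lit 1) [t5_7_23_s6, t5_7_23_s4, t5_7_23_s5, t5_7_23_s3, t5_7_23_s2, t5_7_23_s1] [(nat_lit 15, t5_7_23_s1, nat_lit 1), (nat_lit 18, t5_7_23_s6, nat_lit 15), (nat_lit 6, t5_7_23_s4, nat_lit 15), (nat_lit 11, t5_7_23_s5, nat_lit 15), (nat_lit 17, t5_7_23_s3, nat_lit 15), (nat_lit 10, t5_7_23_s1, nat_lit 15), (nat_lit 4, t5_7_23_s4, nat_lit 18), (nat_lit 21, t5_7_23_s5, nat_lit 18), (nat_lit 22, t5_7_23_s3, nat_lit 18), (nat_lit 2, t5_7_23_s1, nat_lit 18), (nat_lit 19, t5_7_23_s6, nat_lit 11), (nat_lit 16, t5_7_23_s4, nat_lit 11), (nat_lit 7, t5_7_23_s5, nat_lit 11), (nat_lit 13, t5_7_23_s3,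 nat_lit 11), (nat_lit 5, t5_7_23_s6, nat_lit 17), (nat_lit 8, t5_7_23_s2, nat_lit 17), (nat_lit 9, t5_7_23_s1, nat_lit 17), (nat_lit 12, t5_7_23_s6, nat_lit 10), (nat_lit 14, t5_7_23_s3, nat_lit 10), (nat_lit 3, t5_7_23_s1, nat_lit 10), (nat_lit 20, t5_7_23_s5, nat_lit 21)]
noncomputable def t5_7_23_lev2 : Core.Lev := Core.mkLev m23_n m23_w m23_mask m23_L m23_maskL m23_idc (nat_lit 2) [t5_7_23_s6, t5_7_23_s4, t5_7_23_s5, t5_7_23_s3, t5_7_23_s2] [(nat_lit 20, t5_7_23_s2, nat_lit 2), (nat_lit 11, t5_7_23_s6, nat_lit 20), (nat_lit 7, t5_7_23_s4, nat_lit 20), (nat_lit 18, t5_7_23_s5, nat_lit 20), (nat_lit 5, t5_7_23_s3, nat_lit 20), (nat_lit 6, t5_7_23_s2, nat_lit 20), (nat_lit 19, t5_7_23_s6, nat_lit 11), (nat_lit 16, t5_7_23_s4, nat_lit 11), (nat_lit 13, t5_7_23_s3, nat_lit 11), (nat_lit 10, t5_7_23_s6, nat_lit 7), (nat_lit 15, t5_7_23_s5, nat_lit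 7), (nat_lit 12, t5_7_23_s3, nat_lit 7), (nat_lit 9, t5_7_23_s2, nat_lit 7), (nat_lit 4, t5_7_23_s4, nat_lit 18), (nat_lit 21, t5_7_23_s5, nat_lit 18), (nat_lit 22, t5_7_23_s3, nat_lit 18), (nat_lit 14, t5_7_23_s6, nat_lit 5), (nat_lit 8, t5_7_23_s5, nat_lit 10), (nat_lit 17, t5_7_23_s3, nat_lit 15), (nat_lit 3, t5_7_23_s3, nat_lit 9)]
noncomputable def t5_7_23_lev3 : Core.Lev := Core.mkLev m23_n m23_w m23_mask m23_L m23_maskL m23_idc (nat_lit 3) [t5_7_23_s6, t5_7_23_s4, t5_7_23_s5, t5_7_23_s3] [(nat_lit 21, t5_7_23_s3, nat_lit 3), (nat_lit 9, t5_7_23_s6, nat_lit 21), (nat_lit 10, t5_7_23_s4, nat_lit 21), (nat_lit 20, t5_7_23_s5, nat_lit 21), (nat_lit 8, t5_7_23_s3, nat_lit 21), (nat_lit 19, t5_7_23_s4, nat_lit 9), (nat_lit 12, t5_7_23_s5, nat_lit 9), (nat_lit 14, t5_7_23_s3, nat_lit 10), (nat_lit 11, t5_7_23_s6, nat_lit 20), (nat_lit 7, t5_7_23_s4,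 nat_lit 20), (nat_lit 18, t5_7_23_s5, nat_lit 20), (nat_lit 5, t5_7_23_s3, nat_lit 20), (nat_lit 22, t5_7_23_s4, nat_lit 8), (nat_lit 6, t5_7_23_s5, nat_lit 8), (nat_lit 4, t5_7_23_s3, nat_lit 8), (nat_lit 13, t5_7_23_s4, nat_lit 12), (nat_lit 16, t5_7_23_s3, nat_lit 12), (nat_lit 17, t5_7_23_s6, nat_lit 14), (nat_lit 15, t5_7_23_s5, nat_lit 7)]
noncomputable def t5_7_23_lev4 : Core.Lev := Core.mkLev m23_n m23_w m23_mask m23_L m23_maskL m23_idc (nat_lit 4) [t5_7_23_s6, t5_7_23_s4, t5_7_23_s5] [(nat_lit 18, t5_7_23_s4, nat_lit 4), (nat_lit 16, t5_7_23_s5, nat_lit 4), (nat_lit 6, t5_7_23_s6, nat_lit 18), (nat_lit 21, t5_7_23_s5, nat_lit 18), (nat_lit 13, t5_7_23_s6, nat_lit 16), (nat_lit 11, t5_7_23_s4, nat_lit 16), (nat_lit 22, t5_7_23_s5, nat_lit 16), (nat_lit 15, t5_7_23_s6, nat_lit 6), (nat_lit 10, t5_7_23_s5, nat_lit 6), (nat_lit 9, t5_7_23_s6,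 nat_lit 21), (nat_lit 20, t5_7_23_s5, nat_lit 21), (nat_lit 12, t5_7_23_s4, nat_lit 13), (nat_lit 19, t5_7_23_s6, nat_lit 11), (nat_lit 7, t5_7_23_s5, nat_lit 11), (nat_lit 8, t5_7_23_s4, nat_lit 22)]
noncomputable def t5_7_23_lev5 : Core.Lev := Core.mkLev m23_n m23_w m23_mask m23_L m23_maskL m23_idc (nat_lit 5) [t5_7_23_s6] [(nat_lit 14, t5_7_23_s6, nat_lit 5), (nat_lit 17, t5_7_23_s6, nat_lit 14)]
noncomputable def t5_7_23_levels : List Core.Lev := [t5_7_23_lev0, t5_7_23_lev1, t5_7_23_lev2, t5_7_23_lev3, t5_7_23_lev4, t5_7_23_lev5]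
theorem t5_7_23_ok : Core.checkAll m23_n m23_w m23_mask m23_L m23_maskL m23_idc [t5_7_23_X, t5_7_23_Y] t5_7_23_prog t5_7_23_levels = true := by decide +kernel
theorem t5_7_23_ord : Core.orderC t5_7_23_levels = 10200960 := by decide +kernel
theorem t5_7_23_tr : tripleOK 5 7 23 t5_7_23_X t5_7_23_Y = true := by decide +kernel
theorem wit_5_7_23 : WitP 5 7 23 := wit_of (by norm_num) (by norm_num) (by norm_num) t5_7_23_ok t5_7_23_ord t5_7_23_tr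

def t5_11_11_X : Nat := nat_lit 0xbb4a9ac956744067ace36511098824
def t5_11_11_Y : Nat := nat_lit 0xbbdcb990f5009368d206430232c9aa
def t5_11_11_prog : List (Nat × Nat × Nat) := [(nat_lit 1, nat_lit 1, nat_lit 0), (nat_lit 0, nat_lit 2, nat_lit 1), (nat_lit 0, nat_lit 0, nat_lit 3), (nat_lit 0, nat_lit 0, nat_lit 3), (nat_lit 0, nat_lit 0, nat_lit 4), (nat_lit 0, nat_lit 4, nat_lit 4), (nat_lit 0, nat_lit 0, nat_lit 5), (nat_lit 0, nat_lit 0, nat_lit 2), (nat_lit 0, nat_lit 8, nat_lit 9), (nat_lit 0, nat_lit 0, nat_lit 10), (nat_lit 0, nat_lit 0, nat_lit 10), (nat_lit 0, nat_lit 0, nat_lit 12), (nat_lit 0, nat_lit 0, nat_lit 12), (nat_lit 0, nat_lit 0, nat_lit 13), (nat_lit 0, nat_lit 0, nat_lit 15), (nat_lit 0, nat_lit 0, nat_lit 15), (nat_lit 0, nat_lit 0, nat_lit 16), (nat_lit 0, nat_lit 10, nat_lit 16), (nat_lit 0, nat_lit 0, nat_lit 1), (nat_lit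 1, nat_lit 11, nat_lit 0), (nat_lit 1, nat_lit 1, nat_lit 0), (nat_lit 0, nat_lit 13, nat_lit 2), (nat_lit 0, nat_lit 0, nat_lit 14), (nat_lit 0, nat_lit 15, nat_lit 15), (nat_lit 0, nat_lit 0, nat_lit 5), (nat_lit 0, nat_lit 0, nat_lit 17), (nat_lit 0, nat_lit 0, nat_lit 18), (nat_lit 0, nat_lit 0, nat_lit 8), (nat_lit 0, nat_lit 0, nat_lit 9), (nat_lit 0, nat_lit 0, nat_lit 21), (nat_lit 0, nat_lit 0, nat_lit 11), (nat_lit 0, nat_lit 0, nat_lit 23), (nat_lit 0, nat_lit 12, nat_lit 0), (nat_lit 0, nat_lit 10, nat_lit 14), (nat_lit 0, nat_lit 0, nat_lit 26), (nat_lit 0, nat_lit 0, nat_lit 27), (nat_lit 0, nat_lit 0, nat_lit 17), (nat_lit 0, nat_lit 0, nat_lit 29), (nat_lit 0, nat_lit 0, nat_lit 19), (nat_lit 0, nat_lit 0, nat_lit 20), (nat_lit 0, nat_lit 0, nat_lit 32), (nat_lit 0, nat_lit 20, nat_lit 21), (nat_lit 0, nat_lit 0, nat_lit 1), (nat_lit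 1, nat_lit 10, nat_lit 0), (nat_lit 1, nat_lit 1, nat_lit 0), (nat_lit 0, nat_lit 2, nat_lit 2), (nat_lit 0, nat_lit 0, nat_lit 3), (nat_lit 0, nat_lit 0, nat_lit 14), (nat_lit 0, nat_lit 0, nat_lit 5), (nat_lit 0, nat_lit 0, nat_lit 16), (nat_lit 0, nat_lit 0, nat_lit 7), (nat_lit 0, nat_lit 0, nat_lit 8), (nat_lit 0, nat_lit 8, nat_lit 0), (nat_lit 0, nat_lit 20, nat_lit 10), (nat_lit 0, nat_lit 0, nat_lit 21), (nat_lit 0, nat_lit 0, nat_lit 12), (nat_lit 0, nat_lit 0, nat_lit 23), (nat_lit 0, nat_lit 0, nat_lit 24), (nat_lit 0, nat_lit 0, nat_lit 15), (nat_lit 0, nat_lit 0, nat_lit 16), (nat_lit 0, nat_lit 0, nat_lit 17), (nat_lit 0, nat_lit 17, nat_lit 17), (nat_lit 0, nat_lit 0, nat_lit 17), (nat_lit 0, nat_lit 0, nat_lit 18), (nat_lit 0, nat_lit 0, nat_lit 20), (nat_lit 0, nat_lit 0, nat_lit 4), (nat_lit 1, nat_lit 13, nat_lit 0), (nat_lit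 1, nat_lit 1, nat_lit 0), (nat_lit 0, nat_lit 15, nat_lit 15), (nat_lit 0, nat_lit 0, nat_lit 3), (nat_lit 0, nat_lit 0, nat_lit 4), (nat_lit 0, nat_lit 0, nat_lit 18), (nat_lit 0, nat_lit 0, nat_lit 19), (nat_lit 0, nat_lit 0, nat_lit 20), (nat_lit 0, nat_lit 0, nat_lit 21), (nat_lit 0, nat_lit 0, nat_lit 22), (nat_lit 0, nat_lit 0, nat_lit 23), (nat_lit 0, nat_lit 0, nat_lit 11), (nat_lit 0, nat_lit 10, nat_lit 10), (nat_lit 0, nat_lit 0, nat_lit 11), (nat_lit 0, nat_lit 0, nat_lit 2), (nat_lit 0, nat_lit 15, nat_lit 15), (nat_lit 0, nat_lit 0, nat_lit 16), (nat_lit 0, nat_lit 0, nat_lit 30), (nat_lit 0, nat_lit 0, nat_lit 18), (nat_lit 0, nat_lit 0, nat_lit 32), (nat_lit 0, nat_lit 0, nat_lit 33), (nat_lit 0, nat_lit 0, nat_lit 21), (nat_lit 0, nat_lit 0, nat_lit 35), (nat_lit 0, nat_lit 22, nat_lit 21), (nat_lit 0, nat_lit 0, nat_lit 1), (nat_lit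 0, nat_lit 23, nat_lit 24), (nat_lit 0, nat_lit 39, nat_lit 26), (nat_lit 0, nat_lit 0, nat_lit 40), (nat_lit 0, nat_lit 0, nat_lit 41), (nat_lit 0, nat_lit 0, nat_lit 42), (nat_lit 0, nat_lit 0, nat_lit 43), (nat_lit 0, nat_lit 0, nat_lit 31), (nat_lit 0, nat_lit 0, nat_lit 45), (nat_lit 0, nat_lit 0, nat_lit 33), (nat_lit 0, nat_lit 0, nat_lit 47), (nat_lit 0, nat_lit 0, nat_lit 35), (nat_lit 0, nat_lit 0, nat_lit 49), (nat_lit 0, nat_lit 11, nat_lit 35), (nat_lit 0, nat_lit 0, nat_lit 37), (nat_lit 0, nat_lit 0, nat_lit 2), (nat_lit 1, nat_lit 25, nat_lit 0), (nat_lit 1, nat_lit 1, nat_lit 0), (nat_lit 0, nat_lit 2, nat_lit 17), (nat_lit 0, nat_lit 0, nat_lit 18), (nat_lit 0, nat_lit 0, nat_lit 29), (nat_lit 0, nat_lit 0, nat_lit 30), (nat_lit 0, nat_lit 0, nat_lit 31), (nat_lit 0, nat_lit 5, nat_lit 6), (nat_lit 0, nat_lit 0, nat_lit 1)]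
def t5_11_11_s0 : Nat := nat_lit 0xbb4a9ac956744067ace36511098824
def t5_11_11_s1 : Nat := nat_lit 0xb964c5a2747b54225829899c780ea0
def t5_11_11_s2 : Nat := nat_lit 0xbb44f4468980eb63b8ca64a6522c20
def t5_11_11_s3 : Nat := nat_lit 0xbaab132e14735f26146899ec920820
def t5_11_11_s4 : Nat := nat_lit 0xba0d6aa4b26c56a792143cdcc18820
def t5_11_11_s5 : Nat := nat_lit 0xbd9e854ca46461534967a25cd18820
def t5_11_11_s6 : Nat := nat_lit 0xbc12ba18ad946c79b11553dc418820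
noncomputable def t5_11_11_lev0 : Core.Lev := Core.mkLev m23_n m23_w m23_mask m23_L m23_maskL m23_idc (nat_lit 0) [t5_11_11_s6, t5_11_11_s4, t5_11_11_s5, t5_11_11_s3, t5_11_11_s2, t5_11_11_s1, t5_11_11_s0] [(nat_lit 4, t5_11_11_s0, nat_lit 0), (nat_lit 12, t5_11_11_s4, nat_lit 4), (nat_lit 13, t5_11_11_s5, nat_lit 4), (nat_lit 9, t5_11_11_s3, nat_lit 4), (nat_lit 5, t5_11_11_s2, nat_lit 4), (nat_lit 7, t5_11_11_s1, nat_lit 4), (nat_lit 16, t5_11_11_s0, nat_lit 4), (nat_lit 10, t5_11_11_s4, nat_lit 12), (nat_lit 21, t5_11_11_s5, nat_lit 12), (nat_lit 18, t5_11_11_s3, nat_lit 12), (nat_lit 22, t5_11_11_s2, nat_lit 12), (nat_lit 2, t5_11_11_s1, nat_lit 12), (nat_lit 6, t5_11_11_s0, nat_lit 12), (nat_lit 11, t5_11_11_s4, nat_lit 13), (nat_lit 15, t5_11_11_s3, nat_lit 13), (nat_lit 8, t5_11_11_s6, nat_lit 9), (nat_lit 3, t5_11_11_s3, nat_lit 9), (nat_lit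 1, t5_11_11_s1, nat_lit 9), (nat_lit 14, t5_11_11_s6, nat_lit 5), (nat_lit 19, t5_11_11_s2, nat_lit 5), (nat_lit 20, t5_11_11_s5, nat_lit 7), (nat_lit 17, t5_11_11_s1, nat_lit 7)]
noncomputable def t5_11_11_lev1 : Core.Lev := Core.mkLev m23_n m23_w m23_mask m23_L m23_maskL m23_idc (nat_lit 1) [t5_11_11_s6, t5_11_11_s4, t5_11_11_s5, t5_11_11_s3, t5_11_11_s2, t5_11_11_s1] [(nat_lit 21, t5_11_11_s1, nat_lit 1), (nat_lit 9, t5_11_11_s6, nat_lit 21), (nat_lit 6, t5_11_11_s4, nat_lit 21), (nat_lit 15, t5_11_11_s5, nat_lit 21), (nat_lit 2, t5_11_11_s2, nat_lit 21), (nat_lit 18, t5_11_11_s1, nat_lit 21), (nat_lit 8, t5_11_11_s6, nat_lit 9), (nat_lit 16, t5_11_11_s4, nat_lit 9), (nat_lit 11, t5_11_11_s5, nat_lit 9), (nat_lit 3, t5_11_11_s3, nat_lit 9), (nat_lit 19, t5_11_11_s4, nat_lit 6), (nat_lit 7, t5_11_11_s3, nat_lit 6), (nat_lit 13, t5_11_11_s4, nat_lit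 15), (nat_lit 12, t5_11_11_s5, nat_lit 15), (nat_lit 14, t5_11_11_s3, nat_lit 15), (nat_lit 17, t5_11_11_s2, nat_lit 18), (nat_lit 20, t5_11_11_s4, nat_lit 8), (nat_lit 10, t5_11_11_s2, nat_lit 8), (nat_lit 4, t5_11_11_s5, nat_lit 16), (nat_lit 22, t5_11_11_s6, nat_lit 13), (nat_lit 5, t5_11_11_s6, nat_lit 17)]
noncomputable def t5_11_11_lev2 : Core.Lev := Core.mkLev m23_n m23_w m23_mask m23_L m23_maskL m23_idc (nat_lit 2) [t5_11_11_s6, t5_11_11_s4, t5_11_11_s5, t5_11_11_s3, t5_11_11_s2] [(nat_lit 11, t5_11_11_s2, nat_lit 2), (nat_lit 19, t5_11_11_s6, nat_lit 11), (nat_lit 15, t5_11_11_s4, nat_lit 11), (nat_lit 6, t5_11_11_s5, nat_lit 11), (nat_lit 12, t5_11_11_s3, nat_lit 11), (nat_lit 7, t5_11_11_s2, nat_lit 11), (nat_lit 20, t5_11_11_s6, nat_lit 19), (nat_lit 21, t5_11_11_s4, nat_lit 19), (nat_lit 10, t5_11_11_s5, nat_lit 19), (nat_lit 8, t5_11_11_s2,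 nat_lit 19), (nat_lit 18, t5_11_11_s6, nat_lit 15), (nat_lit 13, t5_11_11_s4, nat_lit 15), (nat_lit 14, t5_11_11_s3, nat_lit 15), (nat_lit 16, t5_11_11_s2, nat_lit 15), (nat_lit 9, t5_11_11_s5, nat_lit 6), (nat_lit 22, t5_11_11_s2, nat_lit 12), (nat_lit 17, t5_11_11_s3, nat_lit 20), (nat_lit 4, t5_11_11_s4, nat_lit 10), (nat_lit 5, t5_11_11_s3, nat_lit 10), (nat_lit 3, t5_11_11_s2, nat_lit 14)]
noncomputable def t5_11_11_lev3 : Core.Lev := Core.mkLev m23_n m23_w m23_mask m23_L m23_maskL m23_idc (nat_lit 3) [t5_11_11_s6, t5_11_11_s4, t5_11_11_s5, t5_11_11_s3] [(nat_lit 4, t5_11_11_s3, nat_lit 3), (nat_lit 12, t5_11_11_s4, nat_lit 4), (nat_lit 13, t5_11_11_s5, nat_lit 4), (nat_lit 9, t5_11_11_s3, nat_lit 4), (nat_lit 7, t5_11_11_s6, nat_lit 12), (nat_lit 10, t5_11_11_s4, nat_lit 12), (nat_lit 21, t5_11_11_s5, nat_lit 12), (nat_lit 18, t5_11_11_s3,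 nat_lit 12), (nat_lit 22, t5_11_11_s6, nat_lit 13), (nat_lit 11, t5_11_11_s4, nat_lit 13), (nat_lit 16, t5_11_11_s5, nat_lit 13), (nat_lit 15, t5_11_11_s3, nat_lit 13), (nat_lit 8, t5_11_11_s6, nat_lit 9), (nat_lit 20, t5_11_11_s5, nat_lit 7), (nat_lit 19, t5_11_11_s3, nat_lit 7), (nat_lit 5, t5_11_11_s3, nat_lit 10), (nat_lit 6, t5_11_11_s4, nat_lit 21), (nat_lit 14, t5_11_11_s3, nat_lit 15), (nat_lit 17, t5_11_11_s3, nat_lit 20)]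
noncomputable def t5_11_11_lev4 : Core.Lev := Core.mkLev m23_n m23_w m23_mask m23_L m23_maskL m23_idc (nat_lit 4) [t5_11_11_s6, t5_11_11_s4, t5_11_11_s5] [(nat_lit 12, t5_11_11_s4, nat_lit 4), (nat_lit 13, t5_11_11_s5, nat_lit 4), (nat_lit 7, t5_11_11_s6, nat_lit 12), (nat_lit 10, t5_11_11_s4, nat_lit 12), (nat_lit 21, t5_11_11_s5, nat_lit 12), (nat_lit 22, t5_11_11_s6, nat_lit 13), (nat_lit 11, t5_11_11_s4, nat_lit 13), (nat_lit 16, t5_11_11_s5, nat_lit 13), (nat_lit 20, t5_11_11_s5, nat_lit 7), (nat_lit 18, t5_11_11_s5, nat_lit 10), (nat_lit 9, t5_11_11_s6, nat_lit 21), (nat_lit 6, t5_11_11_s4, nat_lit 21), (nat_lit 15, t5_11_11_s5, nat_lit 21), (nat_lit 8, t5_11_11_s4, nat_lit 22), (nat_lit 19, t5_11_11_s6, nat_lit 11)]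
noncomputable def t5_11_11_lev5 : Core.Lev := Core.mkLev m23_n m23_w m23_mask m23_L m23_maskL m23_idc (nat_lit 5) [t5_11_11_s6] [(nat_lit 14, t5_11_11_s6, nat_lit 5), (nat_lit 17, t5_11_11_s6, nat_lit 14)]
noncomputable def t5_11_11_levels : List Core.Lev := [t5_11_11_lev0, t5_11_11_lev1, t5_11_11_lev2, t5_11_11_lev3, t5_11_11_lev4, t5_11_11_lev5]
theorem t5_11_11_ok : Core.checkAll m23_n m23_w m23_mask m23_L m23_maskL m23_idc [t5_11_11_X, t5_11_11_Y] t5_11_11_prog t5_11_11_levels = true := by decide +kernel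
theorem t5_11_11_ord : Core.orderC t5_11_11_levels = 10200960 := by decide +kernel
theorem t5_11_11_tr : tripleOK 5 11 11 t5_11_11_X t5_11_11_Y = true := by decide +kernel
theorem wit_5_11_11 : WitP 5 11 11 := wit_of (by norm_num) (by norm_num) (by norm_num) t5_11_11_ok t5_11_11_ord t5_11_11_tr

def t5_11_23_X : Nat := nat_lit 0xbb4a9ac956744067ace36511098824
def t5_11_23_Y : Nat := nat_lit 0xb990c7d8a91442e850e4a81b21aa6b
def t5_11_23_prog : List (Nat × Nat × Nat) := [(nat_lit 1, nat_lit 1, nat_lit 0), (nat_lit 1, nat_lit 1, nat_lit 0), (nat_lit 0, nat_lit 3, nat_lit 2), (nat_lit 0, nat_lit 0, nat_lit 4), (nat_lit 0, nat_lit 0, nat_lit 4), (nat_lit 0, nat_lit 0, nat_lit 5), (nat_lit 0, nat_lit 5, nat_lit 5), (nat_lit 0, nat_lit 0, nat_lit 6), (nat_lit 0, nat_lit 0, nat_lit 6), (nat_lit 0, nat_lit 0, nat_lit 8), (nat_lit 0, nat_lit 0, nat_lit 4),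 (nat_lit 0, nat_lit 11, nat_lit 12), (nat_lit 0, nat_lit 0, nat_lit 13), (nat_lit 0, nat_lit 0, nat_lit 13), (nat_lit 0, nat_lit 0, nat_lit 15), (nat_lit 0, nat_lit 0, nat_lit 15), (nat_lit 0, nat_lit 0, nat_lit 16), (nat_lit 0, nat_lit 0, nat_lit 18), (nat_lit 0, nat_lit 0, nat_lit 18), (nat_lit 0, nat_lit 0, nat_lit 19), (nat_lit 0, nat_lit 12, nat_lit 0), (nat_lit 1, nat_lit 10, nat_lit 0), (nat_lit 1, nat_lit 1, nat_lit 0), (nat_lit 0, nat_lit 12, nat_lit 2), (nat_lit 0, nat_lit 0, nat_lit 13), (nat_lit 0, nat_lit 0, nat_lit 14), (nat_lit 0, nat_lit 0, nat_lit 15), (nat_lit 0, nat_lit 4, nat_lit 5), (nat_lit 0, nat_lit 0, nat_lit 5), (nat_lit 0, nat_lit 0, nat_lit 7), (nat_lit 0, nat_lit 0, nat_lit 3), (nat_lit 0, nat_lit 20, nat_lit 20), (nat_lit 0, nat_lit 0, nat_lit 11), (nat_lit 0, nat_lit 0, nat_lit 22), (nat_lit 0, nat_lit 0, nat_lit 23),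 (nat_lit 0, nat_lit 0, nat_lit 14), (nat_lit 0, nat_lit 0, nat_lit 15), (nat_lit 0, nat_lit 0, nat_lit 26), (nat_lit 0, nat_lit 0, nat_lit 17), (nat_lit 0, nat_lit 0, nat_lit 28), (nat_lit 0, nat_lit 11, nat_lit 17), (nat_lit 0, nat_lit 0, nat_lit 18), (nat_lit 0, nat_lit 0, nat_lit 2), (nat_lit 1, nat_lit 12, nat_lit 0), (nat_lit 1, nat_lit 1, nat_lit 0), (nat_lit 0, nat_lit 14, nat_lit 2), (nat_lit 0, nat_lit 0, nat_lit 15), (nat_lit 0, nat_lit 0, nat_lit 4), (nat_lit 0, nat_lit 0, nat_lit 17), (nat_lit 0, nat_lit 0, nat_lit 18), (nat_lit 0, nat_lit 0, nat_lit 7), (nat_lit 0, nat_lit 0, nat_lit 20), (nat_lit 0, nat_lit 0, nat_lit 9), (nat_lit 0, nat_lit 0, nat_lit 10), (nat_lit 0, nat_lit 0, nat_lit 23), (nat_lit 0, nat_lit 11, nat_lit 10), (nat_lit 0, nat_lit 0, nat_lit 12), (nat_lit 0, nat_lit 0, nat_lit 13), (nat_lit 0, nat_lit 0, nat_lit 3),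 (nat_lit 0, nat_lit 16, nat_lit 16), (nat_lit 0, nat_lit 0, nat_lit 17), (nat_lit 0, nat_lit 0, nat_lit 30), (nat_lit 0, nat_lit 0, nat_lit 19), (nat_lit 0, nat_lit 0, nat_lit 32), (nat_lit 0, nat_lit 0, nat_lit 21), (nat_lit 0, nat_lit 0, nat_lit 22), (nat_lit 0, nat_lit 21, nat_lit 22), (nat_lit 0, nat_lit 0, nat_lit 1), (nat_lit 0, nat_lit 17, nat_lit 25), (nat_lit 0, nat_lit 0, nat_lit 26), (nat_lit 0, nat_lit 13, nat_lit 0), (nat_lit 1, nat_lit 12, nat_lit 0), (nat_lit 1, nat_lit 4, nat_lit 0), (nat_lit 0, nat_lit 2, nat_lit 5), (nat_lit 0, nat_lit 0, nat_lit 15), (nat_lit 0, nat_lit 0, nat_lit 7), (nat_lit 0, nat_lit 4, nat_lit 4), (nat_lit 0, nat_lit 0, nat_lit 5), (nat_lit 0, nat_lit 0, nat_lit 5), (nat_lit 0, nat_lit 0, nat_lit 3), (nat_lit 0, nat_lit 9, nat_lit 9), (nat_lit 0, nat_lit 0, nat_lit 22), (nat_lit 0, nat_lit 0, nat_lit 23),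 (nat_lit 0, nat_lit 0, nat_lit 12), (nat_lit 0, nat_lit 0, nat_lit 25), (nat_lit 0, nat_lit 0, nat_lit 26), (nat_lit 0, nat_lit 0, nat_lit 27), (nat_lit 0, nat_lit 0, nat_lit 16), (nat_lit 0, nat_lit 0, nat_lit 17), (nat_lit 0, nat_lit 17, nat_lit 0), (nat_lit 0, nat_lit 31, nat_lit 19), (nat_lit 0, nat_lit 0, nat_lit 23), (nat_lit 0, nat_lit 0, nat_lit 21), (nat_lit 0, nat_lit 0, nat_lit 25), (nat_lit 0, nat_lit 0, nat_lit 26), (nat_lit 0, nat_lit 0, nat_lit 27), (nat_lit 0, nat_lit 0, nat_lit 25), (nat_lit 0, nat_lit 0, nat_lit 26), (nat_lit 0, nat_lit 0, nat_lit 27), (nat_lit 0, nat_lit 22, nat_lit 0), (nat_lit 1, nat_lit 20, nat_lit 0), (nat_lit 1, nat_lit 1, nat_lit 0), (nat_lit 0, nat_lit 2, nat_lit 12), (nat_lit 0, nat_lit 0, nat_lit 3), (nat_lit 0, nat_lit 0, nat_lit 4), (nat_lit 0, nat_lit 4, nat_lit 4), (nat_lit 0, nat_lit 0, nat_lit 4),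 (nat_lit 0, nat_lit 0, nat_lit 2)]
def t5_11_23_s0 : Nat := nat_lit 0xbb4a9ac956744067ace36511098824
def t5_11_23_s1 : Nat := nat_lit 0xbd9ab11e1474d0f32472ac4242b140
def t5_11_23_s2 : Nat := nat_lit 0xbbe116491458c4e21ed52cda932820
def t5_11_23_s3 : Nat := nat_lit 0xb999093953252b11b6c542de748820
def t5_11_23_s4 : Nat := nat_lit 0xbce8d549c7216ab45a0c4be2618820
def t5_11_23_s5 : Nat := nat_lit 0xbb2ad350abb464f5408999dc818820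
def t5_11_23_s6 : Nat := nat_lit 0xbb5135bdd63160aa1ea964a2418820
noncomputable def t5_11_23_lev0 : Core.Lev := Core.mkLev m23_n m23_w m23_mask m23_L m23_maskL m23_idc (nat_lit 0) [t5_11_23_s6, t5_11_23_s4, t5_11_23_s5, t5_11_23_s3, t5_11_23_s2, t5_11_23_s1, t5_11_23_s0] [(nat_lit 4, t5_11_23_s0, nat_lit 0), (nat_lit 6, t5_11_23_s4, nat_lit 4), (nat_lit 8, t5_11_23_s5, nat_lit 4), (nat_lit 7, t5_11_23_s3, nat_lit 4), (nat_lit 9, t5_11_23_s2, nat_lit 4), (nat_lit 16, t5_11_23_s0, nat_lit 4), (nat_lit 18, t5_11_23_s6, nat_lit 6), (nat_lit 15, t5_11_23_s4, nat_lit 6), (nat_lit 11, t5_11_23_s3, nat_lit 6), (nat_lit 19, t5_11_23_s2, nat_lit 6), (nat_lit 17, t5_11_23_s1, nat_lit 6), (nat_lit 20, t5_11_23_s0, nat_lit 6), (nat_lit 12, t5_11_23_s4, nat_lit 8), (nat_lit 5, t5_11_23_s3, nat_lit 8), (nat_lit 21, t5_11_23_s2, nat_lit 8), (nat_lit 3, t5_11_23_s0,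 nat_lit 8), (nat_lit 22, t5_11_23_s3, nat_lit 9), (nat_lit 14, t5_11_23_s3, nat_lit 18), (nat_lit 10, t5_11_23_s5, nat_lit 11), (nat_lit 2, t5_11_23_s1, nat_lit 19), (nat_lit 13, t5_11_23_s4, nat_lit 20), (nat_lit 1, t5_11_23_s1, nat_lit 5)]
noncomputable def t5_11_23_lev1 : Core.Lev := Core.mkLev m23_n m23_w m23_mask m23_L m23_maskL m23_idc (nat_lit 1) [t5_11_23_s6, t5_11_23_s4, t5_11_23_s5, t5_11_23_s3, t5_11_23_s2, t5_11_23_s1] [(nat_lit 10, t5_11_23_s1, nat_lit 1), (nat_lit 7, t5_11_23_s6, nat_lit 10), (nat_lit 22, t5_11_23_s4, nat_lit 10), (nat_lit 16, t5_11_23_s5, nat_lit 10), (nat_lit 13, t5_11_23_s3, nat_lit 10), (nat_lit 9, t5_11_23_s1, nat_lit 10), (nat_lit 12, t5_11_23_s6, nat_lit 7), (nat_lit 19, t5_11_23_s5, nat_lit 7), (nat_lit 8, t5_11_23_s3, nat_lit 7), (nat_lit 5, t5_11_23_s2, nat_lit 7), (nat_lit 21, t5_11_23_s1, nat_lit 7), (nat_lit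 6, t5_11_23_s3, nat_lit 22), (nat_lit 15, t5_11_23_s2, nat_lit 22), (nat_lit 11, t5_11_23_s5, nat_lit 16), (nat_lit 20, t5_11_23_s2, nat_lit 16), (nat_lit 18, t5_11_23_s5, nat_lit 13), (nat_lit 2, t5_11_23_s2, nat_lit 13), (nat_lit 4, t5_11_23_s5, nat_lit 9), (nat_lit 3, t5_11_23_s1, nat_lit 9), (nat_lit 17, t5_11_23_s3, nat_lit 12), (nat_lit 14, t5_11_23_s2, nat_lit 12)]
noncomputable def t5_11_23_lev2 : Core.Lev := Core.mkLev m23_n m23_w m23_mask m23_L m23_maskL m23_idc (nat_lit 2) [t5_11_23_s6, t5_11_23_s4, t5_11_23_s5, t5_11_23_s3, t5_11_23_s2] [(nat_lit 10, t5_11_23_s2, nat_lit 2), (nat_lit 7, t5_11_23_s6, nat_lit 10), (nat_lit 22, t5_11_23_s4, nat_lit 10), (nat_lit 16, t5_11_23_s5, nat_lit 10), (nat_lit 13, t5_11_23_s3, nat_lit 10), (nat_lit 12, t5_11_23_s6, nat_lit 7), (nat_lit 9, t5_11_23_s4, nat_lit 7), (nat_lit 19, t5_11_23_s5, nat_lit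 7), (nat_lit 8, t5_11_23_s3, nat_lit 7), (nat_lit 5, t5_11_23_s2, nat_lit 7), (nat_lit 6, t5_11_23_s3, nat_lit 22), (nat_lit 15, t5_11_23_s2, nat_lit 22), (nat_lit 11, t5_11_23_s5, nat_lit 16), (nat_lit 20, t5_11_23_s2, nat_lit 16), (nat_lit 21, t5_11_23_s4, nat_lit 13), (nat_lit 18, t5_11_23_s5, nat_lit 13), (nat_lit 17, t5_11_23_s3, nat_lit 12), (nat_lit 14, t5_11_23_s2, nat_lit 12), (nat_lit 4, t5_11_23_s5, nat_lit 9), (nat_lit 3, t5_11_23_s3, nat_lit 11)]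
noncomputable def t5_11_23_lev3 : Core.Lev := Core.mkLev m23_n m23_w m23_mask m23_L m23_maskL m23_idc (nat_lit 3) [t5_11_23_s6, t5_11_23_s4, t5_11_23_s5, t5_11_23_s3] [(nat_lit 9, t5_11_23_s3, nat_lit 3), (nat_lit 21, t5_11_23_s6, nat_lit 9), (nat_lit 16, t5_11_23_s4, nat_lit 9), (nat_lit 4, t5_11_23_s5, nat_lit 9), (nat_lit 22, t5_11_23_s3, nat_lit 9), (nat_lit 8, t5_11_23_s6, nat_lit 21), (nat_lit 20, t5_11_23_s4, nat_lit 21), (nat_lit 12, t5_11_23_s3, nat_lit 21), (nat_lit 7, t5_11_23_s4, nat_lit 16), (nat_lit 11, t5_11_23_s5, nat_lit 16), (nat_lit 19, t5_11_23_s3, nat_lit 16), (nat_lit 6, t5_11_23_s4, nat_lit 4), (nat_lit 13, t5_11_23_s6, nat_lit 22), (nat_lit 5, t5_11_23_s3, nat_lit 8), (nat_lit 10, t5_11_23_s6, nat_lit 12), (nat_lit 15, t5_11_23_s5, nat_lit 12), (nat_lit 17, t5_11_23_s3, nat_lit 12), (nat_lit 18, t5_11_23_s3, nat_lit 19), (nat_lit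 14, t5_11_23_s5, nat_lit 5)]
noncomputable def t5_11_23_lev4 : Core.Lev := Core.mkLev m23_n m23_w m23_mask m23_L m23_maskL m23_idc (nat_lit 4) [t5_11_23_s6, t5_11_23_s4, t5_11_23_s5] [(nat_lit 6, t5_11_23_s4, nat_lit 4), (nat_lit 8, t5_11_23_s5, nat_lit 4), (nat_lit 18, t5_11_23_s6, nat_lit 6), (nat_lit 15, t5_11_23_s4, nat_lit 6), (nat_lit 7, t5_11_23_s5, nat_lit 6), (nat_lit 9, t5_11_23_s6, nat_lit 8), (nat_lit 12, t5_11_23_s4, nat_lit 8), (nat_lit 20, t5_11_23_s5, nat_lit 18), (nat_lit 22, t5_11_23_s5, nat_lit 15), (nat_lit 19, t5_11_23_s5, nat_lit 7), (nat_lit 21, t5_11_23_s6, nat_lit 9), (nat_lit 16, t5_11_23_s4, nat_lit 9), (nat_lit 10, t5_11_23_s6, nat_lit 12), (nat_lit 11, t5_11_23_s4, nat_lit 12), (nat_lit 13, t5_11_23_s4, nat_lit 20)]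
noncomputable def t5_11_23_lev5 : Core.Lev := Core.mkLev m23_n m23_w m23_mask m23_L m23_maskL m23_idc (nat_lit 5) [t5_11_23_s6] [(nat_lit 17, t5_11_23_s6, nat_lit 5), (nat_lit 14, t5_11_23_s6, nat_lit 17)]
noncomputable def t5_11_23_levels : List Core.Lev := [t5_11_23_lev0, t5_11_23_lev1, t5_11_23_lev2, t5_11_23_lev3, t5_11_23_lev4, t5_11_23_lev5]
theorem t5_11_23_ok : Core.checkAll m23_n m23_w m23_mask m23_L m23_maskL m23_idc [t5_11_23_X, t5_11_23_Y] t5_11_23_prog t5_11_23_levels = true := by decide +kernel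
theorem t5_11_23_ord : Core.orderC t5_11_23_levels = 10200960 := by decide +kernel
theorem t5_11_23_tr : tripleOK 5 11 23 t5_11_23_X t5_11_23_Y = true := by decide +kernel
theorem wit_5_11_23 : WitP 5 11 23 := wit_of (by norm_num) (by norm_num) (by norm_num) t5_11_23_ok t5_11_23_ord t5_11_23_tr

def t5_23_23_X : Nat := nat_lit 0xbb4a9ac956744067ace36511098824
def t5_23_23_Y : Nat := nat_lit 0xba14e0b6b3019717d202b0cec910a9
def t5_23_23_prog : List (Nat × Nat × Nat) := [(nat_lit 1, nat_lit 1, nat_lit 0), (nat_lit 1, nat_lit 1, nat_lit 0), (nat_lit 0, nat_lit 3, nat_lit 2), (nat_lit 0, nat_lit 0, nat_lit 4), (nat_lit 0, nat_lit 0, nat_lit 4), (nat_lit 0, nat_lit 0, nat_lit 5), (nat_lit 0, nat_lit 5, nat_lit 4), (nat_lit 0, nat_lit 0, nat_lit 6), (nat_lit 0, nat_lit 0, nat_lit 6), (nat_lit 0, nat_lit 0, nat_lit 3), (nat_lit 0, nat_lit 10, nat_lit 11),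 (nat_lit 0, nat_lit 0, nat_lit 12), (nat_lit 0, nat_lit 0, nat_lit 12), (nat_lit 0, nat_lit 0, nat_lit 14), (nat_lit 0, nat_lit 0, nat_lit 14), (nat_lit 0, nat_lit 0, nat_lit 15), (nat_lit 0, nat_lit 0, nat_lit 17), (nat_lit 0, nat_lit 0, nat_lit 17), (nat_lit 0, nat_lit 0, nat_lit 18), (nat_lit 0, nat_lit 18, nat_lit 18), (nat_lit 0, nat_lit 0, nat_lit 19), (nat_lit 0, nat_lit 0, nat_lit 19), (nat_lit 0, nat_lit 0, nat_lit 3), (nat_lit 1, nat_lit 13, nat_lit 0), (nat_lit 1, nat_lit 1, nat_lit 0), (nat_lit 0, nat_lit 15, nat_lit 2), (nat_lit 0, nat_lit 0, nat_lit 16), (nat_lit 0, nat_lit 3, nat_lit 3), (nat_lit 0, nat_lit 0, nat_lit 4), (nat_lit 0, nat_lit 0, nat_lit 4), (nat_lit 0, nat_lit 20, nat_lit 20), (nat_lit 0, nat_lit 0, nat_lit 8), (nat_lit 0, nat_lit 0, nat_lit 22), (nat_lit 0, nat_lit 0, nat_lit 23), (nat_lit 0, nat_lit 0, nat_lit 11),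 (nat_lit 0, nat_lit 0, nat_lit 12), (nat_lit 0, nat_lit 0, nat_lit 26), (nat_lit 0, nat_lit 0, nat_lit 14), (nat_lit 0, nat_lit 0, nat_lit 28), (nat_lit 0, nat_lit 9, nat_lit 14), (nat_lit 0, nat_lit 0, nat_lit 1), (nat_lit 0, nat_lit 14, nat_lit 18), (nat_lit 0, nat_lit 0, nat_lit 32), (nat_lit 0, nat_lit 0, nat_lit 33), (nat_lit 0, nat_lit 0, nat_lit 21), (nat_lit 0, nat_lit 0, nat_lit 35), (nat_lit 0, nat_lit 0, nat_lit 23), (nat_lit 0, nat_lit 0, nat_lit 24), (nat_lit 0, nat_lit 0, nat_lit 38), (nat_lit 0, nat_lit 21, nat_lit 24), (nat_lit 0, nat_lit 0, nat_lit 1), (nat_lit 1, nat_lit 10, nat_lit 0), (nat_lit 1, nat_lit 1, nat_lit 0), (nat_lit 0, nat_lit 2, nat_lit 2), (nat_lit 0, nat_lit 0, nat_lit 3), (nat_lit 0, nat_lit 0, nat_lit 14), (nat_lit 0, nat_lit 0, nat_lit 5), (nat_lit 0, nat_lit 0, nat_lit 16), (nat_lit 0, nat_lit 0, nat_lit 7),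 (nat_lit 0, nat_lit 0, nat_lit 8), (nat_lit 0, nat_lit 8, nat_lit 8), (nat_lit 0, nat_lit 0, nat_lit 9), (nat_lit 0, nat_lit 0, nat_lit 9), (nat_lit 0, nat_lit 0, nat_lit 10), (nat_lit 0, nat_lit 0, nat_lit 11), (nat_lit 0, nat_lit 0, nat_lit 5), (nat_lit 0, nat_lit 25, nat_lit 15), (nat_lit 0, nat_lit 0, nat_lit 26), (nat_lit 0, nat_lit 0, nat_lit 17), (nat_lit 0, nat_lit 0, nat_lit 28), (nat_lit 0, nat_lit 0, nat_lit 29), (nat_lit 0, nat_lit 0, nat_lit 20), (nat_lit 0, nat_lit 0, nat_lit 21), (nat_lit 0, nat_lit 0, nat_lit 22), (nat_lit 0, nat_lit 21, nat_lit 0), (nat_lit 0, nat_lit 34, nat_lit 34), (nat_lit 0, nat_lit 0, nat_lit 25), (nat_lit 0, nat_lit 0, nat_lit 26), (nat_lit 0, nat_lit 0, nat_lit 37), (nat_lit 0, nat_lit 0, nat_lit 38), (nat_lit 0, nat_lit 0, nat_lit 39), (nat_lit 0, nat_lit 0, nat_lit 40), (nat_lit 0, nat_lit 0, nat_lit 41),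 (nat_lit 0, nat_lit 0, nat_lit 42), (nat_lit 0, nat_lit 0, nat_lit 33), (nat_lit 0, nat_lit 32, nat_lit 33), (nat_lit 0, nat_lit 0, nat_lit 33), (nat_lit 0, nat_lit 0, nat_lit 2), (nat_lit 0, nat_lit 30, nat_lit 47), (nat_lit 0, nat_lit 0, nat_lit 38), (nat_lit 0, nat_lit 0, nat_lit 49), (nat_lit 0, nat_lit 38, nat_lit 38), (nat_lit 0, nat_lit 0, nat_lit 40), (nat_lit 0, nat_lit 0, nat_lit 2), (nat_lit 1, nat_lit 28, nat_lit 0), (nat_lit 1, nat_lit 20, nat_lit 0), (nat_lit 1, nat_lit 8, nat_lit 0), (nat_lit 1, nat_lit 3, nat_lit 0), (nat_lit 0, nat_lit 4, nat_lit 23), (nat_lit 0, nat_lit 0, nat_lit 5), (nat_lit 0, nat_lit 0, nat_lit 6), (nat_lit 0, nat_lit 0, nat_lit 13), (nat_lit 0, nat_lit 0, nat_lit 8), (nat_lit 0, nat_lit 0, nat_lit 15), (nat_lit 0, nat_lit 0, nat_lit 38), (nat_lit 0, nat_lit 0, nat_lit 17), (nat_lit 0, nat_lit 10, nat_lit 11),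 (nat_lit 0, nat_lit 0, nat_lit 9), (nat_lit 0, nat_lit 0, nat_lit 2), (nat_lit 0, nat_lit 43, nat_lit 21), (nat_lit 0, nat_lit 0, nat_lit 44), (nat_lit 0, nat_lit 0, nat_lit 45), (nat_lit 0, nat_lit 0, nat_lit 46), (nat_lit 0, nat_lit 0, nat_lit 47), (nat_lit 0, nat_lit 0, nat_lit 20), (nat_lit 0, nat_lit 0, nat_lit 49), (nat_lit 0, nat_lit 0, nat_lit 28), (nat_lit 0, nat_lit 0, nat_lit 42), (nat_lit 0, nat_lit 0, nat_lit 30), (nat_lit 0, nat_lit 0, nat_lit 53), (nat_lit 0, nat_lit 23, nat_lit 24), (nat_lit 0, nat_lit 0, nat_lit 1), (nat_lit 0, nat_lit 47, nat_lit 34), (nat_lit 0, nat_lit 0, nat_lit 57), (nat_lit 0, nat_lit 0, nat_lit 49), (nat_lit 0, nat_lit 0, nat_lit 50), (nat_lit 0, nat_lit 0, nat_lit 38), (nat_lit 0, nat_lit 0, nat_lit 52), (nat_lit 0, nat_lit 0, nat_lit 40), (nat_lit 0, nat_lit 0, nat_lit 41), (nat_lit 0, nat_lit 32, nat_lit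 0), (nat_lit 0, nat_lit 9, nat_lit 9), (nat_lit 0, nat_lit 0, nat_lit 10), (nat_lit 0, nat_lit 0, nat_lit 24), (nat_lit 0, nat_lit 0, nat_lit 25), (nat_lit 0, nat_lit 0, nat_lit 13), (nat_lit 0, nat_lit 0, nat_lit 14), (nat_lit 0, nat_lit 0, nat_lit 15), (nat_lit 0, nat_lit 0, nat_lit 16)]
def t5_23_23_s0 : Nat := nat_lit 0xbb4a9ac956744067ace36511098824
def t5_23_23_s1 : Nat := nat_lit 0xbc5b5095f4430eb50d2685a7270880
def t5_23_23_s2 : Nat := nat_lit 0xbd26292aa7215c3442c68bd2c5b420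
def t5_23_23_s3 : Nat := nat_lit 0xbb0d49bad24c1111bd45a9dab20820
def t5_23_23_s4 : Nat := nat_lit 0xbbd8459e29b39559b606920b418820
def t5_23_23_s5 : Nat := nat_lit 0xba64d4562f83a87312d362caa18820
def t5_23_23_s6 : Nat := nat_lit 0xbc12ba18ad946c79b11553dc418820
noncomputable def t5_23_23_lev0 : Core.Lev := Core.mkLev m23_n m23_w m23_mask m23_L m23_maskL m23_idc (nat_lit 0) [t5_23_23_s6, t5_23_23_s4, t5_23_23_s5, t5_23_23_s3, t5_23_23_s2, t5_23_23_s1, t5_23_23_s0] [(nat_lit 4, t5_23_23_s0, nat_lit 0), (nat_lit 20, t5_23_23_s4, nat_lit 4), (nat_lit 10, t5_23_23_s5, nat_lit 4), (nat_lit 11, t5_23_23_s3, nat_lit 4), (nat_lit 12, t5_23_23_s2, nat_lit 4), (nat_lit 18, t5_23_23_s1, nat_lit 4), (nat_lit 16, t5_23_23_s0, nat_lit 4), (nat_lit 13, t5_23_23_s5, nat_lit 20), (nat_lit 2, t5_23_23_s2, nat_lit 20), (nat_lit 21, t5_23_23_s1, nat_lit 20), (nat_lit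 9, t5_23_23_s0, nat_lit 20), (nat_lit 15, t5_23_23_s3, nat_lit 10), (nat_lit 3, t5_23_23_s1, nat_lit 10), (nat_lit 19, t5_23_23_s6, nat_lit 11), (nat_lit 6, t5_23_23_s5, nat_lit 11), (nat_lit 8, t5_23_23_s2, nat_lit 11), (nat_lit 7, t5_23_23_s6, nat_lit 12), (nat_lit 17, t5_23_23_s3, nat_lit 12), (nat_lit 14, t5_23_23_s3, nat_lit 18), (nat_lit 5, t5_23_23_s1, nat_lit 18), (nat_lit 22, t5_23_23_s0, nat_lit 16), (nat_lit 1, t5_23_23_s1, nat_lit 19)]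
noncomputable def t5_23_23_lev1 : Core.Lev := Core.mkLev m23_n m23_w m23_mask m23_L m23_maskL m23_idc (nat_lit 1) [t5_23_23_s6, t5_23_23_s4, t5_23_23_s5, t5_23_23_s3, t5_23_23_s2, t5_23_23_s1] [(nat_lit 4, t5_23_23_s1, nat_lit 1), (nat_lit 20, t5_23_23_s4, nat_lit 4), (nat_lit 10, t5_23_23_s5, nat_lit 4), (nat_lit 11, t5_23_23_s3, nat_lit 4), (nat_lit 12, t5_23_23_s2, nat_lit 4), (nat_lit 18, t5_23_23_s1, nat_lit 4), (nat_lit 13, t5_23_23_s5, nat_lit 20), (nat_lit 2, t5_23_23_s2, nat_lit 20), (nat_lit 21, t5_23_23_s1, nat_lit 20), (nat_lit 15, t5_23_23_s3, nat_lit 10), (nat_lit 16, t5_23_23_s2, nat_lit 10), (nat_lit 3, t5_23_23_s1, nat_lit 10), (nat_lit 19, t5_23_23_s6, nat_lit 11), (nat_lit 6, t5_23_23_s5, nat_lit 11), (nat_lit 8, t5_23_23_s2, nat_lit 11), (nat_lit 7, t5_23_23_s6, nat_lit 12), (nat_lit 17, t5_23_23_s3, nat_lit 12), (nat_lit 14,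 t5_23_23_s3, nat_lit 18), (nat_lit 5, t5_23_23_s1, nat_lit 18), (nat_lit 22, t5_23_23_s6, nat_lit 13), (nat_lit 9, t5_23_23_s6, nat_lit 21)]
noncomputable def t5_23_23_lev2 : Core.Lev := Core.mkLev m23_n m23_w m23_mask m23_L m23_maskL m23_idc (nat_lit 2) [t5_23_23_s6, t5_23_23_s4, t5_23_23_s5, t5_23_23_s3, t5_23_23_s2] [(nat_lit 13, t5_23_23_s2, nat_lit 2), (nat_lit 22, t5_23_23_s6, nat_lit 13), (nat_lit 10, t5_23_23_s4, nat_lit 13), (nat_lit 20, t5_23_23_s5, nat_lit 13), (nat_lit 8, t5_23_23_s3, nat_lit 13), (nat_lit 14, t5_23_23_s2, nat_lit 13), (nat_lit 16, t5_23_23_s6, nat_lit 22), (nat_lit 15, t5_23_23_s4, nat_lit 22), (nat_lit 9, t5_23_23_s5, nat_lit 22), (nat_lit 12, t5_23_23_s3, nat_lit 22), (nat_lit 4, t5_23_23_s5, nat_lit 10), (nat_lit 11, t5_23_23_s6, nat_lit 20), (nat_lit 21, t5_23_23_s6, nat_lit 8), (nat_lit 6, t5_23_23_s4, nat_lit 8),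 (nat_lit 19, t5_23_23_s5, nat_lit 8), (nat_lit 5, t5_23_23_s3, nat_lit 8), (nat_lit 17, t5_23_23_s6, nat_lit 14), (nat_lit 18, t5_23_23_s3, nat_lit 16), (nat_lit 7, t5_23_23_s2, nat_lit 16), (nat_lit 3, t5_23_23_s2, nat_lit 12)]
noncomputable def t5_23_23_lev3 : Core.Lev := Core.mkLev m23_n m23_w m23_mask m23_L m23_maskL m23_idc (nat_lit 3) [t5_23_23_s6, t5_23_23_s4, t5_23_23_s5, t5_23_23_s3] [(nat_lit 4, t5_23_23_s3, nat_lit 3), (nat_lit 20, t5_23_23_s4, nat_lit 4), (nat_lit 10, t5_23_23_s5, nat_lit 4), (nat_lit 11, t5_23_23_s3, nat_lit 4), (nat_lit 13, t5_23_23_s5, nat_lit 20), (nat_lit 12, t5_23_23_s6, nat_lit 10), (nat_lit 15, t5_23_23_s3, nat_lit 10), (nat_lit 19, t5_23_23_s6, nat_lit 11), (nat_lit 6, t5_23_23_s5, nat_lit 11), (nat_lit 22, t5_23_23_s6, nat_lit 13), (nat_lit 8, t5_23_23_s3, nat_lit 13), (nat_lit 7, t5_23_23_s6, nat_lit 12), (nat_lit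 21, t5_23_23_s4, nat_lit 12), (nat_lit 17, t5_23_23_s3, nat_lit 12), (nat_lit 18, t5_23_23_s6, nat_lit 15), (nat_lit 16, t5_23_23_s5, nat_lit 15), (nat_lit 9, t5_23_23_s3, nat_lit 15), (nat_lit 5, t5_23_23_s3, nat_lit 8), (nat_lit 14, t5_23_23_s3, nat_lit 18)]
noncomputable def t5_23_23_lev4 : Core.Lev := Core.mkLev m23_n m23_w m23_mask m23_L m23_maskL m23_idc (nat_lit 4) [t5_23_23_s6, t5_23_23_s4, t5_23_23_s5] [(nat_lit 20, t5_23_23_s4, nat_lit 4), (nat_lit 10, t5_23_23_s5, nat_lit 4), (nat_lit 11, t5_23_23_s6, nat_lit 20), (nat_lit 13, t5_23_23_s5, nat_lit 20), (nat_lit 12, t5_23_23_s6, nat_lit 10), (nat_lit 19, t5_23_23_s6, nat_lit 11), (nat_lit 6, t5_23_23_s5, nat_lit 11), (nat_lit 22, t5_23_23_s6, nat_lit 13), (nat_lit 7, t5_23_23_s6, nat_lit 12), (nat_lit 21, t5_23_23_s4, nat_lit 12), (nat_lit 8, t5_23_23_s5, nat_lit 19), (nat_lit 15, t5_23_23_s6,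 nat_lit 6), (nat_lit 16, t5_23_23_s6, nat_lit 22), (nat_lit 9, t5_23_23_s5, nat_lit 22), (nat_lit 18, t5_23_23_s4, nat_lit 7)]
noncomputable def t5_23_23_lev5 : Core.Lev := Core.mkLev m23_n m23_w m23_mask m23_L m23_maskL m23_idc (nat_lit 5) [t5_23_23_s6] [(nat_lit 14, t5_23_23_s6, nat_lit 5), (nat_lit 17, t5_23_23_s6, nat_lit 14)]
noncomputable def t5_23_23_levels : List Core.Lev := [t5_23_23_lev0, t5_23_23_lev1, t5_23_23_lev2, t5_23_23_lev3, t5_23_23_lev4, t5_23_23_lev5]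
theorem t5_23_23_ok : Core.checkAll m23_n m23_w m23_mask m23_L m23_maskL m23_idc [t5_23_23_X, t5_23_23_Y] t5_23_23_prog t5_23_23_levels = true := by decide +kernel
theorem t5_23_23_ord : Core.orderC t5_23_23_levels = 10200960 := by decide +kernel
theorem t5_23_23_tr : tripleOK 5 23 23 t5_23_23_X t5_23_23_Y = true := by decide +kernel
theorem wit_5_23_23 : WitP 5 23 23 := wit_of (by norm_num) (by norm_num) (by norm_num) t5_23_23_ok t5_23_23_ord t5_23_23_tr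

end Cfsg.Agent.Lib.M23Triples.Cert2
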