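import Cfsg.Agent.Lib.M23Triples.Wit

/-!
# Certificates of generation, part 3
-/

set_option autoImplicit false

namespace Cfsg.Agent.Lib.M23Triples.Cert3

open Cfsg.Agent.Lib.PermComp Cfsg.Agent.Lib.PermComp.Mathieu.CertM23 Cfsg.Agent.Lib.M23Triples.Wit

def t7_7_7_X : Nat := nat_lit 0xb89842be20522b66d20958e5371c26
def t7_7_7_Y : Nat := nat_lit 0xbbc548264a70d6d890e6658a00cd15
def t7_7_7_prog : List (Nat × Nat × Nat) := [(nat_lit 1, nat_lit 1, nat_lit 0), (nat_lit 1, nat_lit 1, nat_lit 0), (nat_lit 0, nat_lit 3, nat_lit 2), (nat_lit 0, nat_lit 0, nat_lit 4), (nat_lit 0, nat_lit 0, nat_lit 4), (nat_lit 0, nat_lit 0, nat_lit 5), (nat_lit 0, nat_lit 5, nat_lit 4), (nat_lit 0, nat_lit 0, nat_lit 1), (nat_lit 0, nat_lit 8, nat_lit 9), (nat_lit 0, nat_lit 0, nat_lit 10), (nat_lit 0, nat_lit 0, nat_lit 10), (nat_lit 0, nat_lit 0, nat_lit 12), (nat_lit 0, nat_lit 0,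 nat_lit 12), (nat_lit 0, nat_lit 0, nat_lit 13), (nat_lit 0, nat_lit 0, nat_lit 15), (nat_lit 0, nat_lit 0, nat_lit 15), (nat_lit 0, nat_lit 0, nat_lit 16), (nat_lit 0, nat_lit 15, nat_lit 16), (nat_lit 0, nat_lit 0, nat_lit 16), (nat_lit 0, nat_lit 0, nat_lit 17), (nat_lit 0, nat_lit 0, nat_lit 18), (nat_lit 0, nat_lit 0, nat_lit 4), (nat_lit 1, nat_lit 14, nat_lit 0), (nat_lit 1, nat_lit 1, nat_lit 0), (nat_lit 0, nat_lit 16, nat_lit 2), (nat_lit 0, nat_lit 0, nat_lit 17), (nat_lit 0, nat_lit 0, nat_lit 18), (nat_lit 0, nat_lit 0, nat_lit 19), (nat_lit 0, nat_lit 5, nat_lit 4), (nat_lit 0, nat_lit 0, nat_lit 6), (nat_lit 0, nat_lit 0, nat_lit 6), (nat_lit 0, nat_lit 0, nat_lit 3), (nat_lit 0, nat_lit 24, nat_lit 24), (nat_lit 0, nat_lit 0, nat_lit 11), (nat_lit 0, nat_lit 0, nat_lit 26), (nat_lit 0, nat_lit 0, nat_lit 27), (nat_lit 0, nat_lit 0, nat_lit 14),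 (nat_lit 0, nat_lit 0, nat_lit 15), (nat_lit 0, nat_lit 0, nat_lit 30), (nat_lit 0, nat_lit 0, nat_lit 17), (nat_lit 0, nat_lit 0, nat_lit 32), (nat_lit 0, nat_lit 18, nat_lit 18), (nat_lit 0, nat_lit 0, nat_lit 18), (nat_lit 0, nat_lit 0, nat_lit 2), (nat_lit 1, nat_lit 12, nat_lit 0), (nat_lit 1, nat_lit 1, nat_lit 0), (nat_lit 0, nat_lit 14, nat_lit 2), (nat_lit 0, nat_lit 0, nat_lit 15), (nat_lit 0, nat_lit 0, nat_lit 4), (nat_lit 0, nat_lit 0, nat_lit 17), (nat_lit 0, nat_lit 0, nat_lit 18), (nat_lit 0, nat_lit 0, nat_lit 7), (nat_lit 0, nat_lit 0, nat_lit 20), (nat_lit 0, nat_lit 0, nat_lit 9), (nat_lit 0, nat_lit 0, nat_lit 10), (nat_lit 0, nat_lit 0, nat_lit 23), (nat_lit 0, nat_lit 10, nat_lit 11), (nat_lit 0, nat_lit 0, nat_lit 1), (nat_lit 0, nat_lit 14, nat_lit 14), (nat_lit 0, nat_lit 0, nat_lit 15), (nat_lit 0, nat_lit 0, nat_lit 28), (nat_lit 0,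 nat_lit 0, nat_lit 17), (nat_lit 0, nat_lit 0, nat_lit 30), (nat_lit 0, nat_lit 0, nat_lit 19), (nat_lit 0, nat_lit 0, nat_lit 20), (nat_lit 0, nat_lit 20, nat_lit 20), (nat_lit 0, nat_lit 0, nat_lit 21), (nat_lit 0, nat_lit 0, nat_lit 22), (nat_lit 0, nat_lit 0, nat_lit 3), (nat_lit 1, nat_lit 11, nat_lit 0), (nat_lit 1, nat_lit 1, nat_lit 0), (nat_lit 0, nat_lit 13, nat_lit 2), (nat_lit 0, nat_lit 0, nat_lit 14), (nat_lit 0, nat_lit 0, nat_lit 4), (nat_lit 0, nat_lit 0, nat_lit 16), (nat_lit 0, nat_lit 0, nat_lit 17), (nat_lit 0, nat_lit 0, nat_lit 7), (nat_lit 0, nat_lit 0, nat_lit 8), (nat_lit 0, nat_lit 0, nat_lit 9), (nat_lit 0, nat_lit 21, nat_lit 21), (nat_lit 0, nat_lit 0, nat_lit 11), (nat_lit 0, nat_lit 0, nat_lit 12), (nat_lit 0, nat_lit 0, nat_lit 24), (nat_lit 0, nat_lit 0, nat_lit 25), (nat_lit 0, nat_lit 0, nat_lit 26), (nat_lit 0, nat_lit 0,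 nat_lit 27), (nat_lit 0, nat_lit 0, nat_lit 28), (nat_lit 0, nat_lit 0, nat_lit 29), (nat_lit 0, nat_lit 0, nat_lit 19), (nat_lit 0, nat_lit 19, nat_lit 19), (nat_lit 0, nat_lit 0, nat_lit 19), (nat_lit 0, nat_lit 0, nat_lit 20), (nat_lit 0, nat_lit 0, nat_lit 21), (nat_lit 0, nat_lit 0, nat_lit 4), (nat_lit 0, nat_lit 25, nat_lit 25), (nat_lit 0, nat_lit 0, nat_lit 26), (nat_lit 0, nat_lit 0, nat_lit 38), (nat_lit 0, nat_lit 0, nat_lit 28), (nat_lit 0, nat_lit 0, nat_lit 40), (nat_lit 0, nat_lit 0, nat_lit 41), (nat_lit 0, nat_lit 0, nat_lit 31), (nat_lit 0, nat_lit 0, nat_lit 43), (nat_lit 0, nat_lit 32, nat_lit 31), (nat_lit 0, nat_lit 0, nat_lit 33), (nat_lit 0, nat_lit 0, nat_lit 33), (nat_lit 0, nat_lit 0, nat_lit 3), (nat_lit 0, nat_lit 12, nat_lit 0), (nat_lit 0, nat_lit 0, nat_lit 1), (nat_lit 0, nat_lit 0, nat_lit 29), (nat_lit 0, nat_lit 0, nat_lit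 3), (nat_lit 0, nat_lit 0, nat_lit 16), (nat_lit 0, nat_lit 0, nat_lit 17), (nat_lit 0, nat_lit 0, nat_lit 18), (nat_lit 0, nat_lit 0, nat_lit 19)]
def t7_7_7_s0 : Nat := nat_lit 0xb89842be20522b66d20958e5371c26
def t7_7_7_s1 : Nat := nat_lit 0xb8e2e79d54915950b53345890588c0
def t7_7_7_s2 : Nat := nat_lit 0xb8cc563a926bce89aeb62445052420
def t7_7_7_s3 : Nat := nat_lit 0xbb555a1644332c38ccee7a57040820
def t7_7_7_s4 : Nat := nat_lit 0xba9b5b48a93468864ceb811cf18820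
def t7_7_7_s5 : Nat := nat_lit 0xb926faa22da3a0b6255231cb618820
def t7_7_7_s6 : Nat := nat_lit 0xbc12ba18ad946c79b11553dc418820
noncomputable def t7_7_7_lev0 : Core.Lev := Core.mkLev m23_n m23_w m23_mask m23_L m23_maskL m23_idc (nat_lit 0) [t7_7_7_s6, t7_7_7_s4, t7_7_7_s5, t7_7_7_s3, t7_7_7_s2, t7_7_7_s1, t7_7_7_s0] [(nat_lit 6, t7_7_7_s0, nat_lit 0), (nat_lit 15, t7_7_7_s6, nat_lit 6), (nat_lit 4, t7_7_7_s4, nat_lit 6), (nat_lit 7, t7_7_7_s5, nat_lit 6), (nat_lit 9, t7_7_7_s3, nat_lit 6), (nat_lit 17, t7_7_7_s2, nat_lit 6), (nat_lit 22, t7_7_7_s1, nat_lit 6), (nat_lit 3, t7_7_7_s0, nat_lit 6), (nat_lit 18, t7_7_7_s6, nat_lit 15), (nat_lit 20, t7_7_7_s5, nat_lit 15), (nat_lit 13, t7_7_7_s2, nat_lit 15), (nat_lit 10, t7_7_7_s0, nat_lit 15), (nat_lit 16, t7_7_7_s3, nat_lit 4), (nat_lit 19, t7_7_7_s0, nat_lit 4), (nat_lit 8, t7_7_7_s1, nat_lit 7), (nat_lit 11, t7_7_7_s0,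 nat_lit 7), (nat_lit 21, t7_7_7_s2, nat_lit 9), (nat_lit 5, t7_7_7_s6, nat_lit 17), (nat_lit 2, t7_7_7_s0, nat_lit 22), (nat_lit 14, t7_7_7_s0, nat_lit 3), (nat_lit 12, t7_7_7_s1, nat_lit 13), (nat_lit 1, t7_7_7_s1, nat_lit 11)]
noncomputable def t7_7_7_lev1 : Core.Lev := Core.mkLev m23_n m23_w m23_mask m23_L m23_maskL m23_idc (nat_lit 1) [t7_7_7_s6, t7_7_7_s4, t7_7_7_s5, t7_7_7_s3, t7_7_7_s2, t7_7_7_s1] [(nat_lit 6, t7_7_7_s1, nat_lit 1), (nat_lit 15, t7_7_7_s6, nat_lit 6), (nat_lit 4, t7_7_7_s4, nat_lit 6), (nat_lit 7, t7_7_7_s5, nat_lit 6), (nat_lit 9, t7_7_7_s3, nat_lit 6), (nat_lit 17, t7_7_7_s2, nat_lit 6), (nat_lit 22, t7_7_7_s1, nat_lit 6), (nat_lit 18, t7_7_7_s6, nat_lit 15), (nat_lit 20, t7_7_7_s5, nat_lit 15), (nat_lit 13, t7_7_7_s2, nat_lit 15), (nat_lit 16, t7_7_7_s3, nat_lit 4), (nat_lit 10, t7_7_7_s6, nat_lit 7), (nat_lit 8, t7_7_7_s1, nat_lit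 7), (nat_lit 21, t7_7_7_s2, nat_lit 9), (nat_lit 5, t7_7_7_s6, nat_lit 17), (nat_lit 3, t7_7_7_s2, nat_lit 22), (nat_lit 14, t7_7_7_s2, nat_lit 18), (nat_lit 11, t7_7_7_s6, nat_lit 20), (nat_lit 12, t7_7_7_s1, nat_lit 13), (nat_lit 19, t7_7_7_s4, nat_lit 10), (nat_lit 2, t7_7_7_s2, nat_lit 5)]
noncomputable def t7_7_7_lev2 : Core.Lev := Core.mkLev m23_n m23_w m23_mask m23_L m23_maskL m23_idc (nat_lit 2) [t7_7_7_s6, t7_7_7_s4, t7_7_7_s5, t7_7_7_s3, t7_7_7_s2] [(nat_lit 9, t7_7_7_s2, nat_lit 2), (nat_lit 8, t7_7_7_s6, nat_lit 9), (nat_lit 7, t7_7_7_s4, nat_lit 9), (nat_lit 10, t7_7_7_s5, nat_lit 9), (nat_lit 21, t7_7_7_s2, nat_lit 9), (nat_lit 11, t7_7_7_s4, nat_lit 8), (nat_lit 18, t7_7_7_s5, nat_lit 8), (nat_lit 14, t7_7_7_s3, nat_lit 8), (nat_lit 22, t7_7_7_s2, nat_lit 8), (nat_lit 16, t7_7_7_s4, nat_lit 7), (nat_lit 6, t7_7_7_s5, nat_lit 7), (nat_lit 15, t7_7_7_s3,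 nat_lit 7), (nat_lit 4, t7_7_7_s2, nat_lit 7), (nat_lit 12, t7_7_7_s6, nat_lit 10), (nat_lit 19, t7_7_7_s4, nat_lit 10), (nat_lit 13, t7_7_7_s4, nat_lit 21), (nat_lit 17, t7_7_7_s3, nat_lit 11), (nat_lit 5, t7_7_7_s3, nat_lit 18), (nat_lit 3, t7_7_7_s2, nat_lit 22), (nat_lit 20, t7_7_7_s5, nat_lit 15)]
noncomputable def t7_7_7_lev3 : Core.Lev := Core.mkLev m23_n m23_w m23_mask m23_L m23_maskL m23_idc (nat_lit 3) [t7_7_7_s6, t7_7_7_s4, t7_7_7_s5, t7_7_7_s3] [(nat_lit 8, t7_7_7_s3, nat_lit 3), (nat_lit 21, t7_7_7_s6, nat_lit 8), (nat_lit 11, t7_7_7_s4, nat_lit 8), (nat_lit 18, t7_7_7_s5, nat_lit 8), (nat_lit 14, t7_7_7_s3, nat_lit 8), (nat_lit 9, t7_7_7_s6, nat_lit 21), (nat_lit 13, t7_7_7_s4, nat_lit 21), (nat_lit 19, t7_7_7_s5, nat_lit 21), (nat_lit 10, t7_7_7_s3, nat_lit 21), (nat_lit 12, t7_7_7_s4, nat_lit 11), (nat_lit 17, t7_7_7_s3, nat_lit 11), (nat_lit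 6, t7_7_7_s6, nat_lit 18), (nat_lit 5, t7_7_7_s3, nat_lit 18), (nat_lit 7, t7_7_7_s4, nat_lit 9), (nat_lit 22, t7_7_7_s6, nat_lit 13), (nat_lit 20, t7_7_7_s4, nat_lit 13), (nat_lit 16, t7_7_7_s5, nat_lit 13), (nat_lit 15, t7_7_7_s6, nat_lit 6), (nat_lit 4, t7_7_7_s4, nat_lit 6)]
noncomputable def t7_7_7_lev4 : Core.Lev := Core.mkLev m23_n m23_w m23_mask m23_L m23_maskL m23_idc (nat_lit 4) [t7_7_7_s6, t7_7_7_s4, t7_7_7_s5] [(nat_lit 15, t7_7_7_s4, nat_lit 4), (nat_lit 22, t7_7_7_s5, nat_lit 4), (nat_lit 18, t7_7_7_s6, nat_lit 15), (nat_lit 6, t7_7_7_s4, nat_lit 15), (nat_lit 20, t7_7_7_s5, nat_lit 15), (nat_lit 16, t7_7_7_s6, nat_lit 22), (nat_lit 10, t7_7_7_s4, nat_lit 22), (nat_lit 8, t7_7_7_s5, nat_lit 18), (nat_lit 7, t7_7_7_s5, nat_lit 6), (nat_lit 11, t7_7_7_s6, nat_lit 20), (nat_lit 21, t7_7_7_s4, nat_lit 20), (nat_lit 13, t7_7_7_s6, nat_lit 16), (nat_lit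 9, t7_7_7_s4, nat_lit 16), (nat_lit 12, t7_7_7_s6, nat_lit 10), (nat_lit 19, t7_7_7_s4, nat_lit 10)]
noncomputable def t7_7_7_lev5 : Core.Lev := Core.mkLev m23_n m23_w m23_mask m23_L m23_maskL m23_idc (nat_lit 5) [t7_7_7_s6] [(nat_lit 14, t7_7_7_s6, nat_lit 5), (nat_lit 17, t7_7_7_s6, nat_lit 14)]
noncomputable def t7_7_7_levels : List Core.Lev := [t7_7_7_lev0, t7_7_7_lev1, t7_7_7_lev2, t7_7_7_lev3, t7_7_7_lev4, t7_7_7_lev5]
theorem t7_7_7_ok : Core.checkAll m23_n m23_w m23_mask m23_L m23_maskL m23_idc [t7_7_7_X, t7_7_7_Y] t7_7_7_prog t7_7_7_levels = true := by decide +kernel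
theorem t7_7_7_ord : Core.orderC t7_7_7_levels = 10200960 := by decide +kernel
theorem t7_7_7_tr : tripleOK 7 7 7 t7_7_7_X t7_7_7_Y = true := by decide +kernel
theorem wit_7_7_7 : WitP 7 7 7 := wit_of (by norm_num) (by norm_num) (by norm_num) t7_7_7_ok t7_7_7_ord t7_7_7_tr

def t7_7_11_X : Nat := nat_lit 0xbb1aa2162990d753bd0e1027435830
def t7_7_11_Y : Nat := nat_lit 0xbc89071551b21a931e8360aa15cde0
def t7_7_11_prog : List (Nat × Nat × Nat) := [(nat_lit 1, nat_lit 1, nat_lit 0), (nat_lit 1, nat_lit 1, nat_lit 0), (nat_lit 0, nat_lit 3, nat_lit 2), (nat_lit 0, nat_lit 0, nat_lit 4), (nat_lit 0, nat_lit 0, nat_lit 4), (nat_lit 0, nat_lit 0, nat_lit 5), (nat_lit 0, nat_lit 5, nat_lit 4), (nat_lit 0, nat_lit 0, nat_lit 1), (nat_lit 0, nat_lit 8, nat_lit 9), (nat_lit 0, nat_lit 0, nat_lit 10), (nat_lit 0, nat_lit 0, nat_lit 10), (nat_lit 0, nat_lit 0, nat_lit 12),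 (nat_lit 0, nat_lit 0, nat_lit 12), (nat_lit 0, nat_lit 0, nat_lit 13), (nat_lit 0, nat_lit 0, nat_lit 15), (nat_lit 0, nat_lit 0, nat_lit 15), (nat_lit 0, nat_lit 0, nat_lit 16), (nat_lit 0, nat_lit 10, nat_lit 15), (nat_lit 0, nat_lit 0, nat_lit 16), (nat_lit 0, nat_lit 0, nat_lit 18), (nat_lit 0, nat_lit 0, nat_lit 18), (nat_lit 0, nat_lit 0, nat_lit 20), (nat_lit 0, nat_lit 0, nat_lit 5), (nat_lit 1, nat_lit 15, nat_lit 0), (nat_lit 1, nat_lit 1, nat_lit 0), (nat_lit 0, nat_lit 17, nat_lit 2), (nat_lit 0, nat_lit 0, nat_lit 18), (nat_lit 0, nat_lit 0, nat_lit 19), (nat_lit 0, nat_lit 0, nat_lit 20), (nat_lit 0, nat_lit 4, nat_lit 5), (nat_lit 0, nat_lit 0, nat_lit 5), (nat_lit 0, nat_lit 0, nat_lit 7), (nat_lit 0, nat_lit 0, nat_lit 3), (nat_lit 0, nat_lit 25, nat_lit 25), (nat_lit 0, nat_lit 0, nat_lit 11), (nat_lit 0, nat_lit 0, nat_lit 27), (nat_lit 0,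 nat_lit 0, nat_lit 28), (nat_lit 0, nat_lit 0, nat_lit 14), (nat_lit 0, nat_lit 0, nat_lit 15), (nat_lit 0, nat_lit 0, nat_lit 31), (nat_lit 0, nat_lit 0, nat_lit 17), (nat_lit 0, nat_lit 0, nat_lit 33), (nat_lit 0, nat_lit 17, nat_lit 17), (nat_lit 0, nat_lit 0, nat_lit 18), (nat_lit 0, nat_lit 0, nat_lit 2), (nat_lit 1, nat_lit 12, nat_lit 0), (nat_lit 1, nat_lit 1, nat_lit 0), (nat_lit 0, nat_lit 14, nat_lit 2), (nat_lit 0, nat_lit 0, nat_lit 15), (nat_lit 0, nat_lit 0, nat_lit 4), (nat_lit 0, nat_lit 0, nat_lit 17), (nat_lit 0, nat_lit 0, nat_lit 18), (nat_lit 0, nat_lit 0, nat_lit 7), (nat_lit 0, nat_lit 0, nat_lit 20), (nat_lit 0, nat_lit 0, nat_lit 9), (nat_lit 0, nat_lit 0, nat_lit 10), (nat_lit 0, nat_lit 0, nat_lit 23), (nat_lit 0, nat_lit 10, nat_lit 10), (nat_lit 0, nat_lit 0, nat_lit 11), (nat_lit 0, nat_lit 0, nat_lit 2), (nat_lit 0, nat_lit 15,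 nat_lit 15), (nat_lit 0, nat_lit 0, nat_lit 16), (nat_lit 0, nat_lit 0, nat_lit 29), (nat_lit 0, nat_lit 0, nat_lit 18), (nat_lit 0, nat_lit 0, nat_lit 31), (nat_lit 0, nat_lit 0, nat_lit 20), (nat_lit 0, nat_lit 0, nat_lit 21), (nat_lit 0, nat_lit 21, nat_lit 21), (nat_lit 0, nat_lit 0, nat_lit 21), (nat_lit 0, nat_lit 0, nat_lit 2), (nat_lit 0, nat_lit 17, nat_lit 25), (nat_lit 0, nat_lit 0, nat_lit 26), (nat_lit 0, nat_lit 14, nat_lit 0), (nat_lit 1, nat_lit 13, nat_lit 0), (nat_lit 1, nat_lit 1, nat_lit 0), (nat_lit 1, nat_lit 5, nat_lit 0), (nat_lit 0, nat_lit 3, nat_lit 6), (nat_lit 0, nat_lit 0, nat_lit 17), (nat_lit 0, nat_lit 0, nat_lit 8), (nat_lit 0, nat_lit 5, nat_lit 4), (nat_lit 0, nat_lit 0, nat_lit 4), (nat_lit 0, nat_lit 0, nat_lit 2), (nat_lit 0, nat_lit 22, nat_lit 9), (nat_lit 0, nat_lit 0, nat_lit 13), (nat_lit 0, nat_lit 0, nat_lit 11),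 (nat_lit 0, nat_lit 0, nat_lit 15), (nat_lit 0, nat_lit 0, nat_lit 16), (nat_lit 0, nat_lit 0, nat_lit 17), (nat_lit 0, nat_lit 0, nat_lit 15), (nat_lit 0, nat_lit 0, nat_lit 16), (nat_lit 0, nat_lit 0, nat_lit 17), (nat_lit 0, nat_lit 16, nat_lit 16), (nat_lit 0, nat_lit 0, nat_lit 18), (nat_lit 0, nat_lit 0, nat_lit 17), (nat_lit 0, nat_lit 0, nat_lit 3), (nat_lit 0, nat_lit 18, nat_lit 22), (nat_lit 0, nat_lit 0, nat_lit 23), (nat_lit 0, nat_lit 23, nat_lit 23), (nat_lit 0, nat_lit 0, nat_lit 22), (nat_lit 0, nat_lit 0, nat_lit 2), (nat_lit 0, nat_lit 17, nat_lit 40), (nat_lit 0, nat_lit 0, nat_lit 31), (nat_lit 0, nat_lit 0, nat_lit 42), (nat_lit 0, nat_lit 0, nat_lit 33), (nat_lit 0, nat_lit 0, nat_lit 34), (nat_lit 0, nat_lit 0, nat_lit 32), (nat_lit 0, nat_lit 0, nat_lit 33), (nat_lit 0, nat_lit 0, nat_lit 47), (nat_lit 0, nat_lit 0, nat_lit 35), (nat_lit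 0, nat_lit 0, nat_lit 39), (nat_lit 0, nat_lit 29, nat_lit 0), (nat_lit 1, nat_lit 11, nat_lit 0), (nat_lit 1, nat_lit 1, nat_lit 0), (nat_lit 0, nat_lit 2, nat_lit 31), (nat_lit 0, nat_lit 0, nat_lit 3), (nat_lit 0, nat_lit 0, nat_lit 20), (nat_lit 0, nat_lit 0, nat_lit 34), (nat_lit 0, nat_lit 0, nat_lit 35), (nat_lit 0, nat_lit 5, nat_lit 6), (nat_lit 0, nat_lit 0, nat_lit 1)]
def t7_7_11_s0 : Nat := nat_lit 0xbb1aa2162990d753bd0e1027435830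
def t7_7_11_s1 : Nat := nat_lit 0xba4412b98baa8c37c2326cec725100
def t7_7_11_s2 : Nat := nat_lit 0xb8a0a1bd93b3aa442e259268669c20
def t7_7_11_s3 : Nat := nat_lit 0xbbe6e3aec98915260ca8a9a1468820
def t7_7_11_s4 : Nat := nat_lit 0xbc0ea332364b892451ebaccad18820
def t7_7_11_s5 : Nat := nat_lit 0xbae703bcac245144b6caa99d218820
def t7_7_11_s6 : Nat := nat_lit 0xbb5135bdd63160aa1ea964a2418820
noncomputable def t7_7_11_lev0 : Core.Lev := Core.mkLev m23_n m23_w m23_mask m23_L m23_maskL m23_idc (nat_lit 0) [t7_7_11_s6, t7_7_11_s4, t7_7_11_s5, t7_7_11_s3, t7_7_11_s2, t7_7_11_s1, t7_7_11_s0] [(nat_lit 16, t7_7_11_s0, nat_lit 0), (nat_lit 22, t7_7_11_s6, nat_lit 16), (nat_lit 12, t7_7_11_s5, nat_lit 16), (nat_lit 9, t7_7_11_s3, nat_lit 16), (nat_lit 19, t7_7_11_s2, nat_lit 16), (nat_lit 11, t7_7_11_s1, nat_lit 16), (nat_lit 13, t7_7_11_s6, nat_lit 22), (nat_lit 15, t7_7_11_s3,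 nat_lit 22), (nat_lit 2, t7_7_11_s2, nat_lit 22), (nat_lit 10, t7_7_11_s6, nat_lit 12), (nat_lit 18, t7_7_11_s4, nat_lit 12), (nat_lit 20, t7_7_11_s5, nat_lit 12), (nat_lit 4, t7_7_11_s2, nat_lit 12), (nat_lit 3, t7_7_11_s1, nat_lit 12), (nat_lit 21, t7_7_11_s0, nat_lit 12), (nat_lit 5, t7_7_11_s3, nat_lit 9), (nat_lit 17, t7_7_11_s2, nat_lit 9), (nat_lit 8, t7_7_11_s0, nat_lit 9), (nat_lit 6, t7_7_11_s4, nat_lit 19), (nat_lit 7, t7_7_11_s5, nat_lit 19), (nat_lit 14, t7_7_11_s1, nat_lit 18), (nat_lit 1, t7_7_11_s1, nat_lit 20)]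
noncomputable def t7_7_11_lev1 : Core.Lev := Core.mkLev m23_n m23_w m23_mask m23_L m23_maskL m23_idc (nat_lit 1) [t7_7_11_s6, t7_7_11_s4, t7_7_11_s5, t7_7_11_s3, t7_7_11_s2, t7_7_11_s1] [(nat_lit 8, t7_7_11_s1, nat_lit 1), (nat_lit 9, t7_7_11_s6, nat_lit 8), (nat_lit 11, t7_7_11_s4, nat_lit 8), (nat_lit 10, t7_7_11_s5, nat_lit 8), (nat_lit 5, t7_7_11_s2, nat_lit 8), (nat_lit 18, t7_7_11_s1, nat_lit 8), (nat_lit 21, t7_7_11_s6, nat_lit 9), (nat_lit 15, t7_7_11_s4, nat_lit 9), (nat_lit 22, t7_7_11_s5, nat_lit 9), (nat_lit 17, t7_7_11_s2, nat_lit 9), (nat_lit 20, t7_7_11_s6, nat_lit 11), (nat_lit 12, t7_7_11_s3, nat_lit 11), (nat_lit 7, t7_7_11_s6, nat_lit 10), (nat_lit 13, t7_7_11_s5, nat_lit 10), (nat_lit 3, t7_7_11_s3, nat_lit 10), (nat_lit 16, t7_7_11_s1, nat_lit 10), (nat_lit 14, t7_7_11_s5, nat_lit 5), (nat_lit 19, t7_7_11_s5, nat_lit 21), (nat_lit 2, t7_7_11_s1,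 nat_lit 21), (nat_lit 6, t7_7_11_s6, nat_lit 15), (nat_lit 4, t7_7_11_s5, nat_lit 15)]
noncomputable def t7_7_11_lev2 : Core.Lev := Core.mkLev m23_n m23_w m23_mask m23_L m23_maskL m23_idc (nat_lit 2) [t7_7_11_s6, t7_7_11_s4, t7_7_11_s5, t7_7_11_s3, t7_7_11_s2] [(nat_lit 7, t7_7_11_s2, nat_lit 2), (nat_lit 12, t7_7_11_s6, nat_lit 7), (nat_lit 21, t7_7_11_s4, nat_lit 7), (nat_lit 18, t7_7_11_s2, nat_lit 7), (nat_lit 10, t7_7_11_s6, nat_lit 12), (nat_lit 20, t7_7_11_s5, nat_lit 12), (nat_lit 4, t7_7_11_s2, nat_lit 12), (nat_lit 8, t7_7_11_s6, nat_lit 21), (nat_lit 19, t7_7_11_s5, nat_lit 21), (nat_lit 16, t7_7_11_s2, nat_lit 21), (nat_lit 15, t7_7_11_s6, nat_lit 18), (nat_lit 11, t7_7_11_s3, nat_lit 18), (nat_lit 13, t7_7_11_s5, nat_lit 10), (nat_lit 3, t7_7_11_s3, nat_lit 10), (nat_lit 14, t7_7_11_s3, nat_lit 20), (nat_lit 6, t7_7_11_s2, nat_lit 4), (nat_lit 9,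 t7_7_11_s6, nat_lit 8), (nat_lit 5, t7_7_11_s2, nat_lit 8), (nat_lit 22, t7_7_11_s6, nat_lit 16), (nat_lit 17, t7_7_11_s3, nat_lit 15)]
noncomputable def t7_7_11_lev3 : Core.Lev := Core.mkLev m23_n m23_w m23_mask m23_L m23_maskL m23_idc (nat_lit 3) [t7_7_11_s6, t7_7_11_s4, t7_7_11_s5, t7_7_11_s3] [(nat_lit 13, t7_7_11_s3, nat_lit 3), (nat_lit 16, t7_7_11_s6, nat_lit 13), (nat_lit 4, t7_7_11_s4, nat_lit 13), (nat_lit 8, t7_7_11_s5, nat_lit 13), (nat_lit 10, t7_7_11_s3, nat_lit 13), (nat_lit 22, t7_7_11_s6, nat_lit 16), (nat_lit 12, t7_7_11_s5, nat_lit 16), (nat_lit 9, t7_7_11_s3, nat_lit 16), (nat_lit 18, t7_7_11_s5, nat_lit 4), (nat_lit 20, t7_7_11_s3, nat_lit 4), (nat_lit 11, t7_7_11_s4, nat_lit 8), (nat_lit 7, t7_7_11_s6, nat_lit 10), (nat_lit 15, t7_7_11_s3, nat_lit 22), (nat_lit 21, t7_7_11_s6, nat_lit 9), (nat_lit 5, t7_7_11_s3, nat_lit 9), (nat_lit 19,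 t7_7_11_s6, nat_lit 20), (nat_lit 14, t7_7_11_s3, nat_lit 20), (nat_lit 6, t7_7_11_s6, nat_lit 15), (nat_lit 17, t7_7_11_s3, nat_lit 15)]
noncomputable def t7_7_11_lev4 : Core.Lev := Core.mkLev m23_n m23_w m23_mask m23_L m23_maskL m23_idc (nat_lit 4) [t7_7_11_s6, t7_7_11_s4, t7_7_11_s5] [(nat_lit 13, t7_7_11_s4, nat_lit 4), (nat_lit 18, t7_7_11_s5, nat_lit 4), (nat_lit 16, t7_7_11_s6, nat_lit 13), (nat_lit 8, t7_7_11_s5, nat_lit 13), (nat_lit 15, t7_7_11_s6, nat_lit 18), (nat_lit 12, t7_7_11_s4, nat_lit 18), (nat_lit 22, t7_7_11_s6, nat_lit 16), (nat_lit 9, t7_7_11_s6, nat_lit 8), (nat_lit 11, t7_7_11_s4, nat_lit 8), (nat_lit 10, t7_7_11_s5, nat_lit 8), (nat_lit 6, t7_7_11_s6, nat_lit 15), (nat_lit 20, t7_7_11_s5, nat_lit 12), (nat_lit 21, t7_7_11_s6, nat_lit 9), (nat_lit 7, t7_7_11_s6, nat_lit 10), (nat_lit 19, t7_7_11_s4, nat_lit 6)]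
noncomputable def t7_7_11_lev5 : Core.Lev := Core.mkLev m23_n m23_w m23_mask m23_L m23_maskL m23_idc (nat_lit 5) [t7_7_11_s6] [(nat_lit 17, t7_7_11_s6, nat_lit 5), (nat_lit 14, t7_7_11_s6, nat_lit 17)]
noncomputable def t7_7_11_levels : List Core.Lev := [t7_7_11_lev0, t7_7_11_lev1, t7_7_11_lev2, t7_7_11_lev3, t7_7_11_lev4, t7_7_11_lev5]
theorem t7_7_11_ok : Core.checkAll m23_n m23_w m23_mask m23_L m23_maskL m23_idc [t7_7_11_X, t7_7_11_Y] t7_7_11_prog t7_7_11_levels = true := by decide +kernel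
theorem t7_7_11_ord : Core.orderC t7_7_11_levels = 10200960 := by decide +kernel
theorem t7_7_11_tr : tripleOK 7 7 11 t7_7_11_X t7_7_11_Y = true := by decide +kernel
theorem wit_7_7_11 : WitP 7 7 11 := wit_of (by norm_num) (by norm_num) (by norm_num) t7_7_11_ok t7_7_11_ord t7_7_11_tr

def t7_7_23_X : Nat := nat_lit 0xb89842be20522b66d20958e5371c26
def t7_7_23_Y : Nat := nat_lit 0xbc568856857b592019219d8671114e
def t7_7_23_prog : List (Nat × Nat × Nat) := [(nat_lit 1, nat_lit 1, nat_lit 0), (nat_lit 1, nat_lit 1, nat_lit 0), (nat_lit 0, nat_lit 3, nat_lit 2), (nat_lit 0, nat_lit 0, nat_lit 4), (nat_lit 0, nat_lit 0, nat_lit 4), (nat_lit 0, nat_lit 0, nat_lit 5), (nat_lit 0, nat_lit 4, nat_lit 4), (nat_lit 0, nat_lit 0, nat_lit 1), (nat_lit 0, nat_lit 8, nat_lit 9), (nat_lit 0, nat_lit 0, nat_lit 10), (nat_lit 0, nat_lit 0, nat_lit 10), (nat_lit 0, nat_lit 0, nat_lit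 12), (nat_lit 0, nat_lit 0, nat_lit 12), (nat_lit 0, nat_lit 0, nat_lit 13), (nat_lit 0, nat_lit 0, nat_lit 15), (nat_lit 0, nat_lit 0, nat_lit 15), (nat_lit 0, nat_lit 0, nat_lit 16), (nat_lit 0, nat_lit 16, nat_lit 16), (nat_lit 0, nat_lit 0, nat_lit 16), (nat_lit 0, nat_lit 0, nat_lit 18), (nat_lit 0, nat_lit 0, nat_lit 18), (nat_lit 0, nat_lit 0, nat_lit 4), (nat_lit 1, nat_lit 14, nat_lit 0), (nat_lit 1, nat_lit 1, nat_lit 0), (nat_lit 0, nat_lit 16, nat_lit 2), (nat_lit 0, nat_lit 0, nat_lit 17), (nat_lit 0, nat_lit 0, nat_lit 18), (nat_lit 0, nat_lit 0, nat_lit 19), (nat_lit 0, nat_lit 5, nat_lit 4), (nat_lit 0, nat_lit 0, nat_lit 6), (nat_lit 0, nat_lit 0, nat_lit 2), (nat_lit 0, nat_lit 23, nat_lit 23), (nat_lit 0, nat_lit 0, nat_lit 10), (nat_lit 0, nat_lit 0, nat_lit 25), (nat_lit 0, nat_lit 0, nat_lit 26), (nat_lit 0, nat_lit 0, nat_lit 13), (nat_lit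 0, nat_lit 0, nat_lit 14), (nat_lit 0, nat_lit 0, nat_lit 29), (nat_lit 0, nat_lit 0, nat_lit 16), (nat_lit 0, nat_lit 0, nat_lit 31), (nat_lit 0, nat_lit 10, nat_lit 17), (nat_lit 0, nat_lit 0, nat_lit 17), (nat_lit 0, nat_lit 0, nat_lit 18), (nat_lit 0, nat_lit 0, nat_lit 3), (nat_lit 1, nat_lit 0, nat_lit 0), (nat_lit 1, nat_lit 14, nat_lit 0), (nat_lit 0, nat_lit 15, nat_lit 2), (nat_lit 0, nat_lit 0, nat_lit 16), (nat_lit 0, nat_lit 0, nat_lit 4), (nat_lit 0, nat_lit 0, nat_lit 18), (nat_lit 0, nat_lit 0, nat_lit 19), (nat_lit 0, nat_lit 0, nat_lit 7), (nat_lit 0, nat_lit 0, nat_lit 21), (nat_lit 0, nat_lit 0, nat_lit 9), (nat_lit 0, nat_lit 0, nat_lit 10), (nat_lit 0, nat_lit 0, nat_lit 24), (nat_lit 0, nat_lit 11, nat_lit 10), (nat_lit 0, nat_lit 0, nat_lit 11), (nat_lit 0, nat_lit 0, nat_lit 13), (nat_lit 0, nat_lit 0, nat_lit 13), (nat_lit 0, nat_lit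 0, nat_lit 4), (nat_lit 0, nat_lit 17, nat_lit 17), (nat_lit 0, nat_lit 0, nat_lit 18), (nat_lit 0, nat_lit 0, nat_lit 32), (nat_lit 0, nat_lit 0, nat_lit 20), (nat_lit 0, nat_lit 0, nat_lit 34), (nat_lit 0, nat_lit 0, nat_lit 22), (nat_lit 0, nat_lit 0, nat_lit 23), (nat_lit 0, nat_lit 23, nat_lit 0), (nat_lit 0, nat_lit 17, nat_lit 25), (nat_lit 0, nat_lit 0, nat_lit 26), (nat_lit 0, nat_lit 12, nat_lit 0), (nat_lit 1, nat_lit 11, nat_lit 0), (nat_lit 1, nat_lit 4, nat_lit 0), (nat_lit 1, nat_lit 2, nat_lit 0), (nat_lit 0, nat_lit 3, nat_lit 6), (nat_lit 0, nat_lit 0, nat_lit 15), (nat_lit 0, nat_lit 0, nat_lit 8), (nat_lit 0, nat_lit 6, nat_lit 6), (nat_lit 0, nat_lit 0, nat_lit 18), (nat_lit 0, nat_lit 0, nat_lit 19), (nat_lit 0, nat_lit 0, nat_lit 9), (nat_lit 0, nat_lit 0, nat_lit 21), (nat_lit 0, nat_lit 0, nat_lit 22), (nat_lit 0, nat_lit 0, nat_lit 23),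 (nat_lit 0, nat_lit 0, nat_lit 13), (nat_lit 0, nat_lit 0, nat_lit 14), (nat_lit 0, nat_lit 13, nat_lit 12), (nat_lit 0, nat_lit 0, nat_lit 14), (nat_lit 0, nat_lit 0, nat_lit 2), (nat_lit 0, nat_lit 14, nat_lit 18), (nat_lit 0, nat_lit 0, nat_lit 19), (nat_lit 0, nat_lit 19, nat_lit 17), (nat_lit 0, nat_lit 0, nat_lit 18), (nat_lit 0, nat_lit 0, nat_lit 2), (nat_lit 1, nat_lit 0, nat_lit 0), (nat_lit 0, nat_lit 6, nat_lit 6), (nat_lit 0, nat_lit 0, nat_lit 7), (nat_lit 0, nat_lit 0, nat_lit 20), (nat_lit 0, nat_lit 0, nat_lit 4), (nat_lit 0, nat_lit 0, nat_lit 5), (nat_lit 0, nat_lit 0, nat_lit 6), (nat_lit 0, nat_lit 0, nat_lit 7), (nat_lit 0, nat_lit 0, nat_lit 13), (nat_lit 0, nat_lit 8, nat_lit 0)]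
def t7_7_23_s0 : Nat := nat_lit 0xb89842be20522b66d20958e5371c26
def t7_7_23_s1 : Nat := nat_lit 0xbc8b6728ec8190fa11a988e6ba8440
def t7_7_23_s2 : Nat := nat_lit 0xbbe66a38f56a5912a14222e1690c20
def t7_7_23_s3 : Nat := nat_lit 0xbbe12b44e95d54e2a1832367430820
def t7_7_23_s4 : Nat := nat_lit 0xbc8e49a8a884589a59af355cb18820
def t7_7_23_s5 : Nat := nat_lit 0xbc92655a2c3b9706cea47d0a818820
def t7_7_23_s6 : Nat := nat_lit 0xbc12ba18ad946c79b11553dc418820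
noncomputable def t7_7_23_lev0 : Core.Lev := Core.mkLev m23_n m23_w m23_mask m23_L m23_maskL m23_idc (nat_lit 0) [t7_7_23_s6, t7_7_23_s4, t7_7_23_s5, t7_7_23_s3, t7_7_23_s2, t7_7_23_s1, t7_7_23_s0] [(nat_lit 6, t7_7_23_s0, nat_lit 0), (nat_lit 15, t7_7_23_s6, nat_lit 6), (nat_lit 21, t7_7_23_s4, nat_lit 6), (nat_lit 20, t7_7_23_s5, nat_lit 6), (nat_lit 13, t7_7_23_s3, nat_lit 6), (nat_lit 11, t7_7_23_s2, nat_lit 6), (nat_lit 3, t7_7_23_s1, nat_lit 6), (nat_lit 18, t7_7_23_s6, nat_lit 15), (nat_lit 16, t7_7_23_s4, nat_lit 15), (nat_lit 7, t7_7_23_s5, nat_lit 15), (nat_lit 10, t7_7_23_s0, nat_lit 15), (nat_lit 9, t7_7_23_s6, nat_lit 21), (nat_lit 19, t7_7_23_s2, nat_lit 21), (nat_lit 5, t7_7_23_s1, nat_lit 21), (nat_lit 12, t7_7_23_s0, nat_lit 21), (nat_lit 4, t7_7_23_s4, nat_lit 20), (nat_lit 22, t7_7_23_s1, nat_lit 20), (nat_lit 8, t7_7_23_s1, nat_lit 13), (nat_lit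 14, t7_7_23_s0, nat_lit 3), (nat_lit 17, t7_7_23_s3, nat_lit 18), (nat_lit 2, t7_7_23_s0, nat_lit 22), (nat_lit 1, t7_7_23_s1, nat_lit 2)]
noncomputable def t7_7_23_lev1 : Core.Lev := Core.mkLev m23_n m23_w m23_mask m23_L m23_maskL m23_idc (nat_lit 1) [t7_7_23_s6, t7_7_23_s4, t7_7_23_s5, t7_7_23_s3, t7_7_23_s2, t7_7_23_s1] [(nat_lit 2, t7_7_23_s1, nat_lit 1), (nat_lit 3, t7_7_23_s2, nat_lit 2), (nat_lit 6, t7_7_23_s3, nat_lit 3), (nat_lit 18, t7_7_23_s2, nat_lit 3), (nat_lit 21, t7_7_23_s1, nat_lit 3), (nat_lit 15, t7_7_23_s6, nat_lit 6), (nat_lit 20, t7_7_23_s5, nat_lit 6), (nat_lit 13, t7_7_23_s3, nat_lit 6), (nat_lit 11, t7_7_23_s2, nat_lit 6), (nat_lit 10, t7_7_23_s4, nat_lit 18), (nat_lit 22, t7_7_23_s5, nat_lit 18), (nat_lit 17, t7_7_23_s3, nat_lit 18), (nat_lit 14, t7_7_23_s2, nat_lit 18), (nat_lit 9, t7_7_23_s6, nat_lit 21), (nat_lit 7, t7_7_23_s4, nat_lit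 21), (nat_lit 16, t7_7_23_s3, nat_lit 21), (nat_lit 19, t7_7_23_s2, nat_lit 21), (nat_lit 5, t7_7_23_s1, nat_lit 21), (nat_lit 4, t7_7_23_s4, nat_lit 20), (nat_lit 12, t7_7_23_s4, nat_lit 13), (nat_lit 8, t7_7_23_s1, nat_lit 13)]
noncomputable def t7_7_23_lev2 : Core.Lev := Core.mkLev m23_n m23_w m23_mask m23_L m23_maskL m23_idc (nat_lit 2) [t7_7_23_s6, t7_7_23_s4, t7_7_23_s5, t7_7_23_s3, t7_7_23_s2] [(nat_lit 3, t7_7_23_s2, nat_lit 2), (nat_lit 6, t7_7_23_s3, nat_lit 3), (nat_lit 18, t7_7_23_s2, nat_lit 3), (nat_lit 15, t7_7_23_s6, nat_lit 6), (nat_lit 21, t7_7_23_s4, nat_lit 6), (nat_lit 20, t7_7_23_s5, nat_lit 6), (nat_lit 13, t7_7_23_s3, nat_lit 6), (nat_lit 11, t7_7_23_s2, nat_lit 6), (nat_lit 10, t7_7_23_s4, nat_lit 18), (nat_lit 22, t7_7_23_s5, nat_lit 18), (nat_lit 17, t7_7_23_s3, nat_lit 18), (nat_lit 14, t7_7_23_s2, nat_lit 18), (nat_lit 16, t7_7_23_s4,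 nat_lit 15), (nat_lit 7, t7_7_23_s5, nat_lit 15), (nat_lit 9, t7_7_23_s6, nat_lit 21), (nat_lit 19, t7_7_23_s2, nat_lit 21), (nat_lit 4, t7_7_23_s4, nat_lit 20), (nat_lit 12, t7_7_23_s4, nat_lit 13), (nat_lit 5, t7_7_23_s3, nat_lit 11), (nat_lit 8, t7_7_23_s3, nat_lit 10)]
noncomputable def t7_7_23_lev3 : Core.Lev := Core.mkLev m23_n m23_w m23_mask m23_L m23_maskL m23_idc (nat_lit 3) [t7_7_23_s6, t7_7_23_s4, t7_7_23_s5, t7_7_23_s3] [(nat_lit 6, t7_7_23_s3, nat_lit 3), (nat_lit 15, t7_7_23_s6, nat_lit 6), (nat_lit 21, t7_7_23_s4, nat_lit 6), (nat_lit 20, t7_7_23_s5, nat_lit 6), (nat_lit 13, t7_7_23_s3, nat_lit 6), (nat_lit 18, t7_7_23_s6, nat_lit 15), (nat_lit 16, t7_7_23_s4, nat_lit 15), (nat_lit 7, t7_7_23_s5, nat_lit 15), (nat_lit 11, t7_7_23_s3, nat_lit 15), (nat_lit 9, t7_7_23_s6, nat_lit 21), (nat_lit 4, t7_7_23_s4, nat_lit 20), (nat_lit 22, t7_7_23_s6,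 nat_lit 13), (nat_lit 12, t7_7_23_s4, nat_lit 13), (nat_lit 10, t7_7_23_s3, nat_lit 13), (nat_lit 17, t7_7_23_s3, nat_lit 18), (nat_lit 8, t7_7_23_s4, nat_lit 16), (nat_lit 19, t7_7_23_s6, nat_lit 11), (nat_lit 5, t7_7_23_s3, nat_lit 11), (nat_lit 14, t7_7_23_s3, nat_lit 12)]
noncomputable def t7_7_23_lev4 : Core.Lev := Core.mkLev m23_n m23_w m23_mask m23_L m23_maskL m23_idc (nat_lit 4) [t7_7_23_s6, t7_7_23_s4, t7_7_23_s5] [(nat_lit 11, t7_7_23_s4, nat_lit 4), (nat_lit 8, t7_7_23_s5, nat_lit 4), (nat_lit 19, t7_7_23_s6, nat_lit 11), (nat_lit 20, t7_7_23_s4, nat_lit 11), (nat_lit 13, t7_7_23_s5, nat_lit 11), (nat_lit 21, t7_7_23_s6, nat_lit 8), (nat_lit 15, t7_7_23_s4, nat_lit 8), (nat_lit 10, t7_7_23_s5, nat_lit 19), (nat_lit 6, t7_7_23_s5, nat_lit 20), (nat_lit 22, t7_7_23_s6, nat_lit 13), (nat_lit 12, t7_7_23_s4, nat_lit 13), (nat_lit 9, t7_7_23_s6, nat_lit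 21), (nat_lit 7, t7_7_23_s4, nat_lit 21), (nat_lit 18, t7_7_23_s6, nat_lit 15), (nat_lit 16, t7_7_23_s4, nat_lit 15)]
noncomputable def t7_7_23_lev5 : Core.Lev := Core.mkLev m23_n m23_w m23_mask m23_L m23_maskL m23_idc (nat_lit 5) [t7_7_23_s6] [(nat_lit 14, t7_7_23_s6, nat_lit 5), (nat_lit 17, t7_7_23_s6, nat_lit 14)]
noncomputable def t7_7_23_levels : List Core.Lev := [t7_7_23_lev0, t7_7_23_lev1, t7_7_23_lev2, t7_7_23_lev3, t7_7_23_lev4, t7_7_23_lev5]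
theorem t7_7_23_ok : Core.checkAll m23_n m23_w m23_mask m23_L m23_maskL m23_idc [t7_7_23_X, t7_7_23_Y] t7_7_23_prog t7_7_23_levels = true := by decide +kernel
theorem t7_7_23_ord : Core.orderC t7_7_23_levels = 10200960 := by decide +kernel
theorem t7_7_23_tr : tripleOK 7 7 23 t7_7_23_X t7_7_23_Y = true := by decide +kernel
theorem wit_7_7_23 : WitP 7 7 23 := wit_of (by norm_num) (by norm_num) (by norm_num) t7_7_23_ok t7_7_23_ord t7_7_23_tr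

def t7_11_11_X : Nat := nat_lit 0xbd56fa4e28298ed149c3b408a03029
def t7_11_11_Y : Nat := nat_lit 0xba9201cec7a21c692de2ac0246c585
def t7_11_11_prog : List (Nat × Nat × Nat) := [(nat_lit 1, nat_lit 1, nat_lit 0), (nat_lit 1, nat_lit 1, nat_lit 0), (nat_lit 0, nat_lit 3, nat_lit 2), (nat_lit 0, nat_lit 0, nat_lit 4), (nat_lit 0, nat_lit 0, nat_lit 4), (nat_lit 0, nat_lit 0, nat_lit 5), (nat_lit 0, nat_lit 4, nat_lit 4), (nat_lit 0, nat_lit 0, nat_lit 5), (nat_lit 0, nat_lit 0, nat_lit 7), (nat_lit 0, nat_lit 0, nat_lit 3), (nat_lit 0, nat_lit 10, nat_lit 11), (nat_lit 0, nat_lit 0, nat_lit 12), (nat_lit 0, nat_lit 0, nat_lit 12), (nat_lit 0, nat_lit 0, nat_lit 14), (nat_lit 0, nat_lit 0, nat_lit 14), (nat_lit 0, nat_lit 0, nat_lit 15), (nat_lit 0, nat_lit 0, nat_lit 17), (nat_lit 0, nat_lit 0, nat_lit 17), (nat_lit 0, nat_lit 0, nat_lit 18), (nat_lit 0, nat_lit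 18, nat_lit 0), (nat_lit 1, nat_lit 10, nat_lit 0), (nat_lit 1, nat_lit 1, nat_lit 0), (nat_lit 0, nat_lit 12, nat_lit 2), (nat_lit 0, nat_lit 0, nat_lit 13), (nat_lit 0, nat_lit 14, nat_lit 14), (nat_lit 0, nat_lit 0, nat_lit 5), (nat_lit 0, nat_lit 0, nat_lit 16), (nat_lit 0, nat_lit 0, nat_lit 17), (nat_lit 0, nat_lit 0, nat_lit 8), (nat_lit 0, nat_lit 0, nat_lit 9), (nat_lit 0, nat_lit 0, nat_lit 20), (nat_lit 0, nat_lit 0, nat_lit 11), (nat_lit 0, nat_lit 0, nat_lit 22), (nat_lit 0, nat_lit 12, nat_lit 11), (nat_lit 0, nat_lit 0, nat_lit 1), (nat_lit 0, nat_lit 11, nat_lit 15), (nat_lit 0, nat_lit 0, nat_lit 26), (nat_lit 0, nat_lit 0, nat_lit 27), (nat_lit 0, nat_lit 0, nat_lit 18), (nat_lit 0, nat_lit 0, nat_lit 29), (nat_lit 0, nat_lit 0, nat_lit 20), (nat_lit 0, nat_lit 0, nat_lit 21), (nat_lit 0, nat_lit 0, nat_lit 32), (nat_lit 0, nat_lit 22, nat_lit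 0), (nat_lit 1, nat_lit 9, nat_lit 0), (nat_lit 1, nat_lit 1, nat_lit 0), (nat_lit 0, nat_lit 2, nat_lit 2), (nat_lit 0, nat_lit 0, nat_lit 3), (nat_lit 0, nat_lit 0, nat_lit 13), (nat_lit 0, nat_lit 0, nat_lit 5), (nat_lit 0, nat_lit 0, nat_lit 15), (nat_lit 0, nat_lit 0, nat_lit 7), (nat_lit 0, nat_lit 0, nat_lit 8), (nat_lit 0, nat_lit 7, nat_lit 7), (nat_lit 0, nat_lit 0, nat_lit 9), (nat_lit 0, nat_lit 0, nat_lit 10), (nat_lit 0, nat_lit 0, nat_lit 3), (nat_lit 0, nat_lit 22, nat_lit 13), (nat_lit 0, nat_lit 0, nat_lit 23), (nat_lit 0, nat_lit 0, nat_lit 15), (nat_lit 0, nat_lit 0, nat_lit 25), (nat_lit 0, nat_lit 0, nat_lit 26), (nat_lit 0, nat_lit 0, nat_lit 18), (nat_lit 0, nat_lit 0, nat_lit 19), (nat_lit 0, nat_lit 0, nat_lit 20), (nat_lit 0, nat_lit 19, nat_lit 0), (nat_lit 1, nat_lit 9, nat_lit 0), (nat_lit 1, nat_lit 1, nat_lit 0), (nat_lit 0, nat_lit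 11, nat_lit 11), (nat_lit 0, nat_lit 0, nat_lit 3), (nat_lit 0, nat_lit 0, nat_lit 4), (nat_lit 0, nat_lit 0, nat_lit 14), (nat_lit 0, nat_lit 0, nat_lit 15), (nat_lit 0, nat_lit 0, nat_lit 16), (nat_lit 0, nat_lit 0, nat_lit 17), (nat_lit 0, nat_lit 0, nat_lit 18), (nat_lit 0, nat_lit 0, nat_lit 19), (nat_lit 0, nat_lit 0, nat_lit 11), (nat_lit 0, nat_lit 11, nat_lit 10), (nat_lit 0, nat_lit 0, nat_lit 12), (nat_lit 0, nat_lit 0, nat_lit 13), (nat_lit 0, nat_lit 0, nat_lit 13), (nat_lit 0, nat_lit 0, nat_lit 4), (nat_lit 0, nat_lit 17, nat_lit 17), (nat_lit 0, nat_lit 0, nat_lit 18), (nat_lit 0, nat_lit 0, nat_lit 28), (nat_lit 0, nat_lit 0, nat_lit 20), (nat_lit 0, nat_lit 0, nat_lit 30), (nat_lit 0, nat_lit 0, nat_lit 31), (nat_lit 0, nat_lit 0, nat_lit 23), (nat_lit 0, nat_lit 0, nat_lit 33), (nat_lit 0, nat_lit 23, nat_lit 0), (nat_lit 0, nat_lit 24, nat_lit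 25), (nat_lit 0, nat_lit 0, nat_lit 26), (nat_lit 0, nat_lit 0, nat_lit 26), (nat_lit 0, nat_lit 38, nat_lit 29), (nat_lit 0, nat_lit 0, nat_lit 39), (nat_lit 0, nat_lit 0, nat_lit 40), (nat_lit 0, nat_lit 0, nat_lit 41), (nat_lit 0, nat_lit 0, nat_lit 33), (nat_lit 0, nat_lit 0, nat_lit 43), (nat_lit 0, nat_lit 0, nat_lit 35), (nat_lit 0, nat_lit 0, nat_lit 36), (nat_lit 0, nat_lit 8, nat_lit 0), (nat_lit 0, nat_lit 18, nat_lit 47), (nat_lit 0, nat_lit 0, nat_lit 39), (nat_lit 0, nat_lit 0, nat_lit 40), (nat_lit 0, nat_lit 0, nat_lit 41), (nat_lit 0, nat_lit 0, nat_lit 42), (nat_lit 0, nat_lit 16, nat_lit 0), (nat_lit 1, nat_lit 27, nat_lit 0), (nat_lit 1, nat_lit 1, nat_lit 0), (nat_lit 0, nat_lit 20, nat_lit 29), (nat_lit 0, nat_lit 0, nat_lit 9), (nat_lit 0, nat_lit 0, nat_lit 22), (nat_lit 0, nat_lit 0, nat_lit 5), (nat_lit 0, nat_lit 0, nat_lit 33), (nat_lit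 0, nat_lit 0, nat_lit 25), (nat_lit 0, nat_lit 0, nat_lit 35), (nat_lit 0, nat_lit 8, nat_lit 7), (nat_lit 0, nat_lit 0, nat_lit 1)]
def t7_11_11_s0 : Nat := nat_lit 0xbd56fa4e28298ed149c3b408a03029
def t7_11_11_s1 : Nat := nat_lit 0xbba8433d563964d4aea818a710c180
def t7_11_11_s2 : Nat := nat_lit 0xbadc36ce227a65055aa53d08833020
def t7_11_11_s3 : Nat := nat_lit 0xbc51662a6e818b47b48992ce3a8820
def t7_11_11_s4 : Nat := nat_lit 0xbb4c93ae2453ac893e8c9d4b018820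
def t7_11_11_s5 : Nat := nat_lit 0xba0d6aa4b26c56a792143cdcc18820
def t7_11_11_s6 : Nat := nat_lit 0xbc12ba18ad946c79b11553dc418820
noncomputable def t7_11_11_lev0 : Core.Lev := Core.mkLev m23_n m23_w m23_mask m23_L m23_maskL m23_idc (nat_lit 0) [t7_11_11_s6, t7_11_11_s4, t7_11_11_s5, t7_11_11_s3, t7_11_11_s2, t7_11_11_s1, t7_11_11_s0] [(nat_lit 9, t7_11_11_s0, nat_lit 0), (nat_lit 8, t7_11_11_s6, nat_lit 9), (nat_lit 20, t7_11_11_s4, nat_lit 9), (nat_lit 16, t7_11_11_s5, nat_lit 9), (nat_lit 4, t7_11_11_s3, nat_lit 9), (nat_lit 21, t7_11_11_s2, nat_lit 9), (nat_lit 14, t7_11_11_s0, nat_lit 9), (nat_lit 12, t7_11_11_s4, nat_lit 8), (nat_lit 5, t7_11_11_s2, nat_lit 8), (nat_lit 3, t7_11_11_s0, nat_lit 8), (nat_lit 11, t7_11_11_s6, nat_lit 20), (nat_lit 22, t7_11_11_s5, nat_lit 20), (nat_lit 15, t7_11_11_s0, nat_lit 20), (nat_lit 13, t7_11_11_s6, nat_lit 16), (nat_lit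 18, t7_11_11_s5, nat_lit 16), (nat_lit 2, t7_11_11_s2, nat_lit 16), (nat_lit 17, t7_11_11_s1, nat_lit 4), (nat_lit 10, t7_11_11_s0, nat_lit 4), (nat_lit 6, t7_11_11_s4, nat_lit 21), (nat_lit 7, t7_11_11_s6, nat_lit 12), (nat_lit 19, t7_11_11_s1, nat_lit 5), (nat_lit 1, t7_11_11_s1, nat_lit 3)]
noncomputable def t7_11_11_lev1 : Core.Lev := Core.mkLev m23_n m23_w m23_mask m23_L m23_maskL m23_idc (nat_lit 1) [t7_11_11_s6, t7_11_11_s4, t7_11_11_s5, t7_11_11_s3, t7_11_11_s2, t7_11_11_s1] [(nat_lit 12, t7_11_11_s1, nat_lit 1), (nat_lit 7, t7_11_11_s6, nat_lit 12), (nat_lit 8, t7_11_11_s4, nat_lit 12), (nat_lit 10, t7_11_11_s5, nat_lit 12), (nat_lit 20, t7_11_11_s3, nat_lit 12), (nat_lit 16, t7_11_11_s2, nat_lit 12), (nat_lit 13, t7_11_11_s1, nat_lit 12), (nat_lit 19, t7_11_11_s4, nat_lit 7), (nat_lit 18, t7_11_11_s3, nat_lit 7), (nat_lit 3, t7_11_11_s1, nat_lit 7),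 (nat_lit 21, t7_11_11_s6, nat_lit 8), (nat_lit 9, t7_11_11_s3, nat_lit 8), (nat_lit 5, t7_11_11_s2, nat_lit 8), (nat_lit 15, t7_11_11_s4, nat_lit 10), (nat_lit 4, t7_11_11_s5, nat_lit 10), (nat_lit 22, t7_11_11_s2, nat_lit 10), (nat_lit 11, t7_11_11_s1, nat_lit 10), (nat_lit 14, t7_11_11_s3, nat_lit 16), (nat_lit 2, t7_11_11_s2, nat_lit 16), (nat_lit 6, t7_11_11_s1, nat_lit 19), (nat_lit 17, t7_11_11_s1, nat_lit 4)]
noncomputable def t7_11_11_lev2 : Core.Lev := Core.mkLev m23_n m23_w m23_mask m23_L m23_maskL m23_idc (nat_lit 2) [t7_11_11_s6, t7_11_11_s4, t7_11_11_s5, t7_11_11_s3, t7_11_11_s2] [(nat_lit 12, t7_11_11_s2, nat_lit 2), (nat_lit 7, t7_11_11_s6, nat_lit 12), (nat_lit 8, t7_11_11_s4, nat_lit 12), (nat_lit 10, t7_11_11_s5, nat_lit 12), (nat_lit 20, t7_11_11_s3, nat_lit 12), (nat_lit 16, t7_11_11_s2, nat_lit 12), (nat_lit 19, t7_11_11_s4, nat_lit 7), (nat_lit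 18, t7_11_11_s3, nat_lit 7), (nat_lit 21, t7_11_11_s6, nat_lit 8), (nat_lit 9, t7_11_11_s3, nat_lit 8), (nat_lit 5, t7_11_11_s2, nat_lit 8), (nat_lit 15, t7_11_11_s4, nat_lit 10), (nat_lit 4, t7_11_11_s5, nat_lit 10), (nat_lit 13, t7_11_11_s3, nat_lit 10), (nat_lit 22, t7_11_11_s2, nat_lit 10), (nat_lit 11, t7_11_11_s6, nat_lit 20), (nat_lit 3, t7_11_11_s2, nat_lit 20), (nat_lit 14, t7_11_11_s3, nat_lit 16), (nat_lit 6, t7_11_11_s6, nat_lit 18), (nat_lit 17, t7_11_11_s3, nat_lit 22)]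
noncomputable def t7_11_11_lev3 : Core.Lev := Core.mkLev m23_n m23_w m23_mask m23_L m23_maskL m23_idc (nat_lit 3) [t7_11_11_s6, t7_11_11_s4, t7_11_11_s5, t7_11_11_s3] [(nat_lit 21, t7_11_11_s3, nat_lit 3), (nat_lit 9, t7_11_11_s6, nat_lit 21), (nat_lit 6, t7_11_11_s4, nat_lit 21), (nat_lit 8, t7_11_11_s3, nat_lit 21), (nat_lit 20, t7_11_11_s4, nat_lit 9), (nat_lit 16, t7_11_11_s5, nat_lit 9), (nat_lit 4, t7_11_11_s3, nat_lit 9), (nat_lit 15, t7_11_11_s6, nat_lit 6), (nat_lit 19, t7_11_11_s5, nat_lit 6), (nat_lit 11, t7_11_11_s3, nat_lit 6), (nat_lit 12, t7_11_11_s4, nat_lit 8), (nat_lit 22, t7_11_11_s5, nat_lit 20), (nat_lit 13, t7_11_11_s6, nat_lit 16), (nat_lit 18, t7_11_11_s5, nat_lit 16), (nat_lit 14, t7_11_11_s3, nat_lit 16), (nat_lit 10, t7_11_11_s4, nat_lit 15), (nat_lit 7, t7_11_11_s4, nat_lit 19), (nat_lit 17, t7_11_11_s3, nat_lit 22), (nat_lit 5, t7_11_11_s3,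 nat_lit 13)]
noncomputable def t7_11_11_lev4 : Core.Lev := Core.mkLev m23_n m23_w m23_mask m23_L m23_maskL m23_idc (nat_lit 4) [t7_11_11_s6, t7_11_11_s4, t7_11_11_s5] [(nat_lit 16, t7_11_11_s4, nat_lit 4), (nat_lit 12, t7_11_11_s5, nat_lit 4), (nat_lit 13, t7_11_11_s6, nat_lit 16), (nat_lit 18, t7_11_11_s5, nat_lit 16), (nat_lit 7, t7_11_11_s6, nat_lit 12), (nat_lit 8, t7_11_11_s4, nat_lit 12), (nat_lit 10, t7_11_11_s5, nat_lit 12), (nat_lit 22, t7_11_11_s6, nat_lit 13), (nat_lit 11, t7_11_11_s5, nat_lit 13), (nat_lit 6, t7_11_11_s6, nat_lit 18), (nat_lit 9, t7_11_11_s5, nat_lit 18), (nat_lit 19, t7_11_11_s4, nat_lit 7), (nat_lit 21, t7_11_11_s6, nat_lit 8), (nat_lit 20, t7_11_11_s5, nat_lit 8), (nat_lit 15, t7_11_11_s4, nat_lit 10)]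
noncomputable def t7_11_11_lev5 : Core.Lev := Core.mkLev m23_n m23_w m23_mask m23_L m23_maskL m23_idc (nat_lit 5) [t7_11_11_s6] [(nat_lit 14, t7_11_11_s6, nat_lit 5), (nat_lit 17, t7_11_11_s6, nat_lit 14)]
noncomputable def t7_11_11_levels : List Core.Lev := [t7_11_11_lev0, t7_11_11_lev1, t7_11_11_lev2, t7_11_11_lev3, t7_11_11_lev4, t7_11_11_lev5]
theorem t7_11_11_ok : Core.checkAll m23_n m23_w m23_mask m23_L m23_maskL m23_idc [t7_11_11_X, t7_11_11_Y] t7_11_11_prog t7_11_11_levels = true := by decide +kernel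
theorem t7_11_11_ord : Core.orderC t7_11_11_levels = 10200960 := by decide +kernel
theorem t7_11_11_tr : tripleOK 7 11 11 t7_11_11_X t7_11_11_Y = true := by decide +kernel
theorem wit_7_11_11 : WitP 7 11 11 := wit_of (by norm_num) (by norm_num) (by norm_num) t7_11_11_ok t7_11_11_ord t7_11_11_tr

def t7_11_23_X : Nat := nat_lit 0xbac457d223242c764cc0aa1524b42e
def t7_11_23_Y : Nat := nat_lit 0xb890bac06f658ae51e4134c04a3629
def t7_11_23_prog : List (Nat × Nat × Nat) := [(nat_lit 1, nat_lit 1, nat_lit 0), (nat_lit 1, nat_lit 1, nat_lit 0), (nat_lit 0, nat_lit 3, nat_lit 2), (nat_lit 0, nat_lit 0, nat_lit 4), (nat_lit 0, nat_lit 0, nat_lit 4), (nat_lit 0, nat_lit 0, nat_lit 5), (nat_lit 0, nat_lit 5, nat_lit 5), (nat_lit 0, nat_lit 0, nat_lit 5), (nat_lit 0, nat_lit 0, nat_lit 6), (nat_lit 0, nat_lit 0, nat_lit 3), (nat_lit 0, nat_lit 10, nat_lit 11), (nat_lit 0,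 nat_lit 0, nat_lit 12), (nat_lit 0, nat_lit 0, nat_lit 12), (nat_lit 0, nat_lit 0, nat_lit 14), (nat_lit 0, nat_lit 0, nat_lit 14), (nat_lit 0, nat_lit 0, nat_lit 15), (nat_lit 0, nat_lit 0, nat_lit 17), (nat_lit 0, nat_lit 0, nat_lit 17), (nat_lit 0, nat_lit 0, nat_lit 18), (nat_lit 0, nat_lit 17, nat_lit 17), (nat_lit 0, nat_lit 0, nat_lit 19), (nat_lit 0, nat_lit 0, nat_lit 20), (nat_lit 0, nat_lit 0, nat_lit 3), (nat_lit 1, nat_lit 13, nat_lit 0), (nat_lit 1, nat_lit 1, nat_lit 0), (nat_lit 0, nat_lit 15, nat_lit 2), (nat_lit 0, nat_lit 0, nat_lit 16), (nat_lit 0, nat_lit 0, nat_lit 17), (nat_lit 0, nat_lit 0, nat_lit 18), (nat_lit 0, nat_lit 4, nat_lit 4), (nat_lit 0, nat_lit 0, nat_lit 5), (nat_lit 0, nat_lit 0, nat_lit 7), (nat_lit 0, nat_lit 0, nat_lit 3), (nat_lit 0, nat_lit 23, nat_lit 23), (nat_lit 0, nat_lit 0, nat_lit 11), (nat_lit 0, nat_lit 0,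 nat_lit 25), (nat_lit 0, nat_lit 0, nat_lit 26), (nat_lit 0, nat_lit 0, nat_lit 14), (nat_lit 0, nat_lit 0, nat_lit 15), (nat_lit 0, nat_lit 0, nat_lit 29), (nat_lit 0, nat_lit 0, nat_lit 17), (nat_lit 0, nat_lit 0, nat_lit 31), (nat_lit 0, nat_lit 18, nat_lit 18), (nat_lit 0, nat_lit 0, nat_lit 1), (nat_lit 1, nat_lit 11, nat_lit 0), (nat_lit 1, nat_lit 1, nat_lit 0), (nat_lit 0, nat_lit 13, nat_lit 2), (nat_lit 0, nat_lit 0, nat_lit 14), (nat_lit 0, nat_lit 0, nat_lit 4), (nat_lit 0, nat_lit 0, nat_lit 16), (nat_lit 0, nat_lit 0, nat_lit 17), (nat_lit 0, nat_lit 0, nat_lit 7), (nat_lit 0, nat_lit 0, nat_lit 19), (nat_lit 0, nat_lit 0, nat_lit 9), (nat_lit 0, nat_lit 0, nat_lit 10), (nat_lit 0, nat_lit 0, nat_lit 22), (nat_lit 0, nat_lit 10, nat_lit 10), (nat_lit 0, nat_lit 0, nat_lit 11), (nat_lit 0, nat_lit 0, nat_lit 12), (nat_lit 0, nat_lit 0, nat_lit 3),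 (nat_lit 0, nat_lit 16, nat_lit 16), (nat_lit 0, nat_lit 0, nat_lit 17), (nat_lit 0, nat_lit 0, nat_lit 29), (nat_lit 0, nat_lit 0, nat_lit 19), (nat_lit 0, nat_lit 0, nat_lit 31), (nat_lit 0, nat_lit 0, nat_lit 21), (nat_lit 0, nat_lit 0, nat_lit 22), (nat_lit 0, nat_lit 22, nat_lit 21), (nat_lit 0, nat_lit 0, nat_lit 1), (nat_lit 0, nat_lit 17, nat_lit 25), (nat_lit 0, nat_lit 0, nat_lit 26), (nat_lit 0, nat_lit 25, nat_lit 26), (nat_lit 0, nat_lit 0, nat_lit 27), (nat_lit 0, nat_lit 0, nat_lit 27), (nat_lit 0, nat_lit 0, nat_lit 3), (nat_lit 1, nat_lit 15, nat_lit 0), (nat_lit 1, nat_lit 7, nat_lit 0), (nat_lit 0, nat_lit 2, nat_lit 8), (nat_lit 0, nat_lit 0, nat_lit 18), (nat_lit 0, nat_lit 0, nat_lit 10), (nat_lit 0, nat_lit 5, nat_lit 5), (nat_lit 0, nat_lit 0, nat_lit 21), (nat_lit 0, nat_lit 0, nat_lit 22), (nat_lit 0, nat_lit 0, nat_lit 8), (nat_lit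 0, nat_lit 0, nat_lit 24), (nat_lit 0, nat_lit 0, nat_lit 25), (nat_lit 0, nat_lit 0, nat_lit 26), (nat_lit 0, nat_lit 0, nat_lit 12), (nat_lit 0, nat_lit 0, nat_lit 13), (nat_lit 0, nat_lit 29, nat_lit 14), (nat_lit 0, nat_lit 0, nat_lit 21), (nat_lit 0, nat_lit 0, nat_lit 16), (nat_lit 0, nat_lit 0, nat_lit 23), (nat_lit 0, nat_lit 0, nat_lit 24), (nat_lit 0, nat_lit 0, nat_lit 25), (nat_lit 0, nat_lit 0, nat_lit 20), (nat_lit 0, nat_lit 0, nat_lit 21), (nat_lit 0, nat_lit 0, nat_lit 22), (nat_lit 0, nat_lit 22, nat_lit 21), (nat_lit 0, nat_lit 0, nat_lit 23), (nat_lit 0, nat_lit 0, nat_lit 2), (nat_lit 0, nat_lit 23, nat_lit 26), (nat_lit 0, nat_lit 0, nat_lit 27), (nat_lit 0, nat_lit 26, nat_lit 26), (nat_lit 0, nat_lit 0, nat_lit 1), (nat_lit 1, nat_lit 25, nat_lit 0), (nat_lit 1, nat_lit 17, nat_lit 0), (nat_lit 0, nat_lit 18, nat_lit 18), (nat_lit 0, nat_lit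 0, nat_lit 3), (nat_lit 0, nat_lit 0, nat_lit 29), (nat_lit 0, nat_lit 0, nat_lit 5), (nat_lit 0, nat_lit 0, nat_lit 10), (nat_lit 0, nat_lit 0, nat_lit 23), (nat_lit 0, nat_lit 0, nat_lit 8), (nat_lit 0, nat_lit 0, nat_lit 9), (nat_lit 0, nat_lit 0, nat_lit 14), (nat_lit 0, nat_lit 0, nat_lit 11), (nat_lit 0, nat_lit 0, nat_lit 16), (nat_lit 0, nat_lit 12, nat_lit 11), (nat_lit 0, nat_lit 0, nat_lit 1)]
def t7_11_23_s0 : Nat := nat_lit 0xbac457d223242c764cc0aa1524b42e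
def t7_11_23_s1 : Nat := nat_lit 0xb8928a1945991cbab0f26d9e180e20
def t7_11_23_s2 : Nat := nat_lit 0xb9e269548c541cb2a0697cc54b3420
def t7_11_23_s3 : Nat := nat_lit 0xb96b29d08e5c0697a18a39ad168820
def t7_11_23_s4 : Nat := nat_lit 0xb9e086be3593a6952d94b10a618820
def t7_11_23_s5 : Nat := nat_lit 0xbd6cb22627638cfa224a834b318820
def t7_11_23_s6 : Nat := nat_lit 0xbc12ba18ad946c79b11553dc418820
noncomputable def t7_11_23_lev0 : Core.Lev := Core.mkLev m23_n m23_w m23_mask m23_L m23_maskL m23_idc (nat_lit 0) [t7_11_23_s6, t7_11_23_s4, t7_11_23_s5, t7_11_23_s3, t7_11_23_s2, t7_11_23_s1, t7_11_23_s0] [(nat_lit 14, t7_11_23_s0, nat_lit 0), (nat_lit 17, t7_11_23_s6, nat_lit 14), (nat_lit 16, t7_11_23_s3, nat_lit 14), (nat_lit 4, t7_11_23_s1, nat_lit 14), (nat_lit 5, t7_11_23_s6, nat_lit 17), (nat_lit 10, t7_11_23_s1, nat_lit 17), (nat_lit 13, t7_11_23_s6, nat_lit 16),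 (nat_lit 21, t7_11_23_s4, nat_lit 16), (nat_lit 7, t7_11_23_s5, nat_lit 16), (nat_lit 12, t7_11_23_s2, nat_lit 16), (nat_lit 3, t7_11_23_s0, nat_lit 16), (nat_lit 6, t7_11_23_s4, nat_lit 4), (nat_lit 19, t7_11_23_s5, nat_lit 4), (nat_lit 20, t7_11_23_s2, nat_lit 4), (nat_lit 1, t7_11_23_s1, nat_lit 4), (nat_lit 18, t7_11_23_s0, nat_lit 4), (nat_lit 22, t7_11_23_s3, nat_lit 5), (nat_lit 2, t7_11_23_s2, nat_lit 5), (nat_lit 15, t7_11_23_s1, nat_lit 5), (nat_lit 11, t7_11_23_s4, nat_lit 10), (nat_lit 8, t7_11_23_s5, nat_lit 10), (nat_lit 9, t7_11_23_s6, nat_lit 21)]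
noncomputable def t7_11_23_lev1 : Core.Lev := Core.mkLev m23_n m23_w m23_mask m23_L m23_maskL m23_idc (nat_lit 1) [t7_11_23_s6, t7_11_23_s4, t7_11_23_s5, t7_11_23_s3, t7_11_23_s2, t7_11_23_s1] [(nat_lit 17, t7_11_23_s1, nat_lit 1), (nat_lit 5, t7_11_23_s6, nat_lit 17), (nat_lit 4, t7_11_23_s3, nat_lit 17), (nat_lit 10, t7_11_23_s1, nat_lit 17), (nat_lit 14, t7_11_23_s6, nat_lit 5), (nat_lit 22, t7_11_23_s3, nat_lit 5), (nat_lit 2, t7_11_23_s2, nat_lit 5), (nat_lit 15, t7_11_23_s1, nat_lit 5), (nat_lit 6, t7_11_23_s4, nat_lit 4), (nat_lit 19, t7_11_23_s5, nat_lit 4), (nat_lit 20, t7_11_23_s2, nat_lit 4), (nat_lit 12, t7_11_23_s6, nat_lit 10), (nat_lit 11, t7_11_23_s4, nat_lit 10), (nat_lit 8, t7_11_23_s5, nat_lit 10), (nat_lit 16, t7_11_23_s3, nat_lit 14), (nat_lit 7, t7_11_23_s4, nat_lit 22), (nat_lit 21, t7_11_23_s5, nat_lit 22), (nat_lit 13, t7_11_23_s2, nat_lit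 2), (nat_lit 3, t7_11_23_s1, nat_lit 2), (nat_lit 18, t7_11_23_s6, nat_lit 15), (nat_lit 9, t7_11_23_s4, nat_lit 12)]
noncomputable def t7_11_23_lev2 : Core.Lev := Core.mkLev m23_n m23_w m23_mask m23_L m23_maskL m23_idc (nat_lit 2) [t7_11_23_s6, t7_11_23_s4, t7_11_23_s5, t7_11_23_s3, t7_11_23_s2] [(nat_lit 13, t7_11_23_s2, nat_lit 2), (nat_lit 22, t7_11_23_s6, nat_lit 13), (nat_lit 19, t7_11_23_s4, nat_lit 13), (nat_lit 6, t7_11_23_s5, nat_lit 13), (nat_lit 3, t7_11_23_s3, nat_lit 13), (nat_lit 14, t7_11_23_s2, nat_lit 13), (nat_lit 16, t7_11_23_s6, nat_lit 22), (nat_lit 7, t7_11_23_s4, nat_lit 22), (nat_lit 21, t7_11_23_s5, nat_lit 22), (nat_lit 5, t7_11_23_s3, nat_lit 22), (nat_lit 20, t7_11_23_s6, nat_lit 19), (nat_lit 4, t7_11_23_s5, nat_lit 19), (nat_lit 18, t7_11_23_s2, nat_lit 19), (nat_lit 15, t7_11_23_s6, nat_lit 6), (nat_lit 17, t7_11_23_s6, nat_lit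 14), (nat_lit 12, t7_11_23_s2, nat_lit 16), (nat_lit 10, t7_11_23_s6, nat_lit 7), (nat_lit 9, t7_11_23_s6, nat_lit 21), (nat_lit 11, t7_11_23_s6, nat_lit 20), (nat_lit 8, t7_11_23_s4, nat_lit 20)]
noncomputable def t7_11_23_lev3 : Core.Lev := Core.mkLev m23_n m23_w m23_mask m23_L m23_maskL m23_idc (nat_lit 3) [t7_11_23_s6, t7_11_23_s4, t7_11_23_s5, t7_11_23_s3] [(nat_lit 13, t7_11_23_s3, nat_lit 3), (nat_lit 22, t7_11_23_s6, nat_lit 13), (nat_lit 19, t7_11_23_s4, nat_lit 13), (nat_lit 6, t7_11_23_s5, nat_lit 13), (nat_lit 16, t7_11_23_s6, nat_lit 22), (nat_lit 7, t7_11_23_s4, nat_lit 22), (nat_lit 21, t7_11_23_s5, nat_lit 22), (nat_lit 5, t7_11_23_s3, nat_lit 22), (nat_lit 20, t7_11_23_s6, nat_lit 19), (nat_lit 4, t7_11_23_s5, nat_lit 19), (nat_lit 15, t7_11_23_s6, nat_lit 6), (nat_lit 14, t7_11_23_s3, nat_lit 16), (nat_lit 10, t7_11_23_s6, nat_lit 7), (nat_lit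 9, t7_11_23_s6, nat_lit 21), (nat_lit 11, t7_11_23_s6, nat_lit 20), (nat_lit 8, t7_11_23_s4, nat_lit 20), (nat_lit 18, t7_11_23_s3, nat_lit 20), (nat_lit 17, t7_11_23_s3, nat_lit 4), (nat_lit 12, t7_11_23_s5, nat_lit 15)]
noncomputable def t7_11_23_lev4 : Core.Lev := Core.mkLev m23_n m23_w m23_mask m23_L m23_maskL m23_idc (nat_lit 4) [t7_11_23_s6, t7_11_23_s4, t7_11_23_s5] [(nat_lit 6, t7_11_23_s4, nat_lit 4), (nat_lit 19, t7_11_23_s5, nat_lit 4), (nat_lit 15, t7_11_23_s6, nat_lit 6), (nat_lit 13, t7_11_23_s5, nat_lit 6), (nat_lit 20, t7_11_23_s6, nat_lit 19), (nat_lit 18, t7_11_23_s6, nat_lit 15), (nat_lit 12, t7_11_23_s5, nat_lit 15), (nat_lit 22, t7_11_23_s6, nat_lit 13), (nat_lit 11, t7_11_23_s6, nat_lit 20), (nat_lit 8, t7_11_23_s4, nat_lit 20), (nat_lit 9, t7_11_23_s5, nat_lit 18), (nat_lit 7, t7_11_23_s6, nat_lit 12), (nat_lit 16, t7_11_23_s6, nat_lit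 22), (nat_lit 21, t7_11_23_s5, nat_lit 22), (nat_lit 10, t7_11_23_s4, nat_lit 11)]
noncomputable def t7_11_23_lev5 : Core.Lev := Core.mkLev m23_n m23_w m23_mask m23_L m23_maskL m23_idc (nat_lit 5) [t7_11_23_s6] [(nat_lit 14, t7_11_23_s6, nat_lit 5), (nat_lit 17, t7_11_23_s6, nat_lit 14)]
noncomputable def t7_11_23_levels : List Core.Lev := [t7_11_23_lev0, t7_11_23_lev1, t7_11_23_lev2, t7_11_23_lev3, t7_11_23_lev4, t7_11_23_lev5]
theorem t7_11_23_ok : Core.checkAll m23_n m23_w m23_mask m23_L m23_maskL m23_idc [t7_11_23_X, t7_11_23_Y] t7_11_23_prog t7_11_23_levels = true := by decide +kernel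
theorem t7_11_23_ord : Core.orderC t7_11_23_levels = 10200960 := by decide +kernel
theorem t7_11_23_tr : tripleOK 7 11 23 t7_11_23_X t7_11_23_Y = true := by decide +kernel
theorem wit_7_11_23 : WitP 7 11 23 := wit_of (by norm_num) (by norm_num) (by norm_num) t7_11_23_ok t7_11_23_ord t7_11_23_tr

def t7_23_23_X : Nat := nat_lit 0xbd56fa4e28298ed149c3b408a03029
def t7_23_23_Y : Nat := nat_lit 0xb862aada87488a3999cd64a00591e8
def t7_23_23_prog : List (Nat × Nat × Nat) := [(nat_lit 1, nat_lit 1, nat_lit 0), (nat_lit 1, nat_lit 1, nat_lit 0), (nat_lit 0, nat_lit 3, nat_lit 2), (nat_lit 0, nat_lit 0, nat_lit 4), (nat_lit 0, nat_lit 0, nat_lit 4), (nat_lit 0, nat_lit 0, nat_lit 5), (nat_lit 0, nat_lit 4, nat_lit 4), (nat_lit 0, nat_lit 0, nat_lit 1), (nat_lit 0, nat_lit 8, nat_lit 9), (nat_lit 0, nat_lit 0, nat_lit 10), (nat_lit 0, nat_lit 0, nat_lit 10), (nat_lit 0,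 nat_lit 0, nat_lit 12), (nat_lit 0, nat_lit 0, nat_lit 12), (nat_lit 0, nat_lit 0, nat_lit 13), (nat_lit 0, nat_lit 0, nat_lit 15), (nat_lit 0, nat_lit 0, nat_lit 15), (nat_lit 0, nat_lit 0, nat_lit 16), (nat_lit 0, nat_lit 15, nat_lit 0), (nat_lit 0, nat_lit 14, nat_lit 19), (nat_lit 0, nat_lit 0, nat_lit 20), (nat_lit 0, nat_lit 18, nat_lit 19), (nat_lit 0, nat_lit 0, nat_lit 19), (nat_lit 0, nat_lit 0, nat_lit 20), (nat_lit 0, nat_lit 0, nat_lit 3), (nat_lit 1, nat_lit 16, nat_lit 0), (nat_lit 1, nat_lit 7, nat_lit 0), (nat_lit 0, nat_lit 2, nat_lit 18), (nat_lit 0, nat_lit 0, nat_lit 9), (nat_lit 0, nat_lit 0, nat_lit 4), (nat_lit 0, nat_lit 0, nat_lit 21), (nat_lit 0, nat_lit 0, nat_lit 12), (nat_lit 0, nat_lit 0, nat_lit 7), (nat_lit 0, nat_lit 0, nat_lit 24), (nat_lit 0, nat_lit 0, nat_lit 9), (nat_lit 0, nat_lit 0, nat_lit 26), (nat_lit 0, nat_lit 0,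 nat_lit 17), (nat_lit 0, nat_lit 0, nat_lit 18), (nat_lit 0, nat_lit 12, nat_lit 12), (nat_lit 0, nat_lit 0, nat_lit 12), (nat_lit 0, nat_lit 0, nat_lit 2), (nat_lit 0, nat_lit 16, nat_lit 22), (nat_lit 0, nat_lit 0, nat_lit 33), (nat_lit 0, nat_lit 0, nat_lit 18), (nat_lit 0, nat_lit 0, nat_lit 35), (nat_lit 0, nat_lit 0, nat_lit 26), (nat_lit 0, nat_lit 0, nat_lit 27), (nat_lit 0, nat_lit 20, nat_lit 20), (nat_lit 0, nat_lit 0, nat_lit 1), (nat_lit 1, nat_lit 8, nat_lit 0), (nat_lit 1, nat_lit 1, nat_lit 0), (nat_lit 0, nat_lit 10, nat_lit 10), (nat_lit 0, nat_lit 0, nat_lit 11), (nat_lit 0, nat_lit 0, nat_lit 4), (nat_lit 0, nat_lit 0, nat_lit 13), (nat_lit 0, nat_lit 0, nat_lit 6), (nat_lit 0, nat_lit 0, nat_lit 7), (nat_lit 0, nat_lit 0, nat_lit 16), (nat_lit 0, nat_lit 0, nat_lit 9), (nat_lit 0, nat_lit 0, nat_lit 10), (nat_lit 0, nat_lit 10, nat_lit 10),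 (nat_lit 0, nat_lit 0, nat_lit 1), (nat_lit 0, nat_lit 13, nat_lit 13), (nat_lit 0, nat_lit 0, nat_lit 22), (nat_lit 0, nat_lit 0, nat_lit 15), (nat_lit 0, nat_lit 0, nat_lit 24), (nat_lit 0, nat_lit 0, nat_lit 17), (nat_lit 0, nat_lit 0, nat_lit 18), (nat_lit 0, nat_lit 0, nat_lit 27), (nat_lit 0, nat_lit 0, nat_lit 20), (nat_lit 0, nat_lit 0, nat_lit 21), (nat_lit 0, nat_lit 0, nat_lit 30), (nat_lit 0, nat_lit 0, nat_lit 23), (nat_lit 0, nat_lit 22, nat_lit 22), (nat_lit 0, nat_lit 0, nat_lit 1), (nat_lit 0, nat_lit 34, nat_lit 26), (nat_lit 0, nat_lit 0, nat_lit 27), (nat_lit 0, nat_lit 0, nat_lit 28), (nat_lit 0, nat_lit 0, nat_lit 37), (nat_lit 0, nat_lit 0, nat_lit 30), (nat_lit 0, nat_lit 30, nat_lit 29), (nat_lit 0, nat_lit 0, nat_lit 1), (nat_lit 1, nat_lit 20, nat_lit 0), (nat_lit 1, nat_lit 8, nat_lit 0), (nat_lit 1, nat_lit 2, nat_lit 0), (nat_lit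 0, nat_lit 23, nat_lit 3), (nat_lit 0, nat_lit 0, nat_lit 4), (nat_lit 0, nat_lit 0, nat_lit 5), (nat_lit 0, nat_lit 0, nat_lit 6), (nat_lit 0, nat_lit 0, nat_lit 14), (nat_lit 0, nat_lit 0, nat_lit 8), (nat_lit 0, nat_lit 0, nat_lit 29), (nat_lit 0, nat_lit 7, nat_lit 8), (nat_lit 0, nat_lit 0, nat_lit 10), (nat_lit 0, nat_lit 0, nat_lit 2), (nat_lit 0, nat_lit 33, nat_lit 33), (nat_lit 0, nat_lit 0, nat_lit 34), (nat_lit 0, nat_lit 0, nat_lit 35), (nat_lit 0, nat_lit 0, nat_lit 16), (nat_lit 0, nat_lit 0, nat_lit 17), (nat_lit 0, nat_lit 0, nat_lit 38), (nat_lit 0, nat_lit 0, nat_lit 26), (nat_lit 0, nat_lit 0, nat_lit 20), (nat_lit 0, nat_lit 0, nat_lit 28), (nat_lit 0, nat_lit 0, nat_lit 22), (nat_lit 0, nat_lit 0, nat_lit 30), (nat_lit 0, nat_lit 21, nat_lit 21), (nat_lit 0, nat_lit 0, nat_lit 23), (nat_lit 0, nat_lit 0, nat_lit 2), (nat_lit 0, nat_lit 34,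 nat_lit 27), (nat_lit 0, nat_lit 0, nat_lit 28), (nat_lit 0, nat_lit 0, nat_lit 29), (nat_lit 0, nat_lit 0, nat_lit 30), (nat_lit 0, nat_lit 0, nat_lit 51), (nat_lit 0, nat_lit 0, nat_lit 39), (nat_lit 0, nat_lit 0, nat_lit 33), (nat_lit 0, nat_lit 33, nat_lit 31), (nat_lit 0, nat_lit 0, nat_lit 34), (nat_lit 0, nat_lit 0, nat_lit 34), (nat_lit 0, nat_lit 0, nat_lit 3), (nat_lit 0, nat_lit 38, nat_lit 38), (nat_lit 0, nat_lit 0, nat_lit 39), (nat_lit 0, nat_lit 0, nat_lit 60), (nat_lit 0, nat_lit 0, nat_lit 48), (nat_lit 0, nat_lit 0, nat_lit 62), (nat_lit 0, nat_lit 40, nat_lit 0), (nat_lit 0, nat_lit 15, nat_lit 64), (nat_lit 0, nat_lit 0, nat_lit 45), (nat_lit 0, nat_lit 0, nat_lit 53), (nat_lit 0, nat_lit 0, nat_lit 54), (nat_lit 0, nat_lit 0, nat_lit 55), (nat_lit 0, nat_lit 0, nat_lit 56), (nat_lit 0, nat_lit 48, nat_lit 48), (nat_lit 0, nat_lit 0, nat_lit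 1), (nat_lit 1, nat_lit 14, nat_lit 0), (nat_lit 1, nat_lit 9, nat_lit 0), (nat_lit 0, nat_lit 2, nat_lit 10), (nat_lit 0, nat_lit 0, nat_lit 3), (nat_lit 0, nat_lit 0, nat_lit 43), (nat_lit 0, nat_lit 0, nat_lit 30), (nat_lit 0, nat_lit 0, nat_lit 31), (nat_lit 0, nat_lit 0, nat_lit 7), (nat_lit 0, nat_lit 0, nat_lit 8), (nat_lit 0, nat_lit 0, nat_lit 34), (nat_lit 0, nat_lit 9, nat_lit 8), (nat_lit 0, nat_lit 0, nat_lit 1)]
def t7_23_23_s0 : Nat := nat_lit 0xbd56fa4e28298ed149c3b408a03029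
def t7_23_23_s1 : Nat := nat_lit 0xb91e6b216e1b4b1ab0413ce4955200
def t7_23_23_s2 : Nat := nat_lit 0xbd14c8b6657a24220eb059dc64d820
def t7_23_23_s3 : Nat := nat_lit 0xbbce39b2092b5485ba32356d420820
def t7_23_23_s4 : Nat := nat_lit 0xbcd69958b5a44c4829ed621c718820
def t7_23_23_s5 : Nat := nat_lit 0xbc8e49a8a884589a59af355cb18820
def t7_23_23_s6 : Nat := nat_lit 0xbb5135bdd63160aa1ea964a2418820
noncomputable def t7_23_23_lev0 : Core.Lev := Core.mkLev m23_n m23_w m23_mask m23_L m23_maskL m23_idc (nat_lit 0) [t7_23_23_s6, t7_23_23_s4, t7_23_23_s5, t7_23_23_s3, t7_23_23_s2, t7_23_23_s1, t7_23_23_s0] [(nat_lit 9, t7_23_23_s0, nat_lit 0), (nat_lit 21, t7_23_23_s6, nat_lit 9), (nat_lit 15, t7_23_23_s4, nat_lit 9), (nat_lit 13, t7_23_23_s5, nat_lit 9), (nat_lit 17, t7_23_23_s3, nat_lit 9), (nat_lit 2, t7_23_23_s1, nat_lit 9), (nat_lit 14, t7_23_23_s0, nat_lit 9), (nat_lit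 8, t7_23_23_s6, nat_lit 21), (nat_lit 11, t7_23_23_s4, nat_lit 21), (nat_lit 7, t7_23_23_s5, nat_lit 21), (nat_lit 10, t7_23_23_s2, nat_lit 21), (nat_lit 6, t7_23_23_s6, nat_lit 15), (nat_lit 20, t7_23_23_s4, nat_lit 15), (nat_lit 16, t7_23_23_s5, nat_lit 15), (nat_lit 5, t7_23_23_s3, nat_lit 15), (nat_lit 3, t7_23_23_s1, nat_lit 15), (nat_lit 12, t7_23_23_s5, nat_lit 13), (nat_lit 18, t7_23_23_s2, nat_lit 13), (nat_lit 19, t7_23_23_s2, nat_lit 17), (nat_lit 22, t7_23_23_s2, nat_lit 2), (nat_lit 1, t7_23_23_s1, nat_lit 8), (nat_lit 4, t7_23_23_s2, nat_lit 11)]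
noncomputable def t7_23_23_lev1 : Core.Lev := Core.mkLev m23_n m23_w m23_mask m23_L m23_maskL m23_idc (nat_lit 1) [t7_23_23_s6, t7_23_23_s4, t7_23_23_s5, t7_23_23_s3, t7_23_23_s2, t7_23_23_s1] [(nat_lit 16, t7_23_23_s1, nat_lit 1), (nat_lit 22, t7_23_23_s6, nat_lit 16), (nat_lit 21, t7_23_23_s4, nat_lit 16), (nat_lit 8, t7_23_23_s5, nat_lit 16), (nat_lit 9, t7_23_23_s3, nat_lit 16), (nat_lit 5, t7_23_23_s2, nat_lit 16), (nat_lit 14, t7_23_23_s1, nat_lit 16), (nat_lit 13, t7_23_23_s6, nat_lit 22), (nat_lit 19, t7_23_23_s4, nat_lit 22), (nat_lit 18, t7_23_23_s5, nat_lit 22), (nat_lit 15, t7_23_23_s3, nat_lit 22), (nat_lit 20, t7_23_23_s2, nat_lit 22), (nat_lit 4, t7_23_23_s1, nat_lit 22), (nat_lit 11, t7_23_23_s4, nat_lit 21), (nat_lit 7, t7_23_23_s5, nat_lit 21), (nat_lit 10, t7_23_23_s2, nat_lit 21), (nat_lit 17, t7_23_23_s3, nat_lit 9), (nat_lit 2, t7_23_23_s1,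 nat_lit 9), (nat_lit 6, t7_23_23_s4, nat_lit 13), (nat_lit 12, t7_23_23_s5, nat_lit 13), (nat_lit 3, t7_23_23_s1, nat_lit 15)]
noncomputable def t7_23_23_lev2 : Core.Lev := Core.mkLev m23_n m23_w m23_mask m23_L m23_maskL m23_idc (nat_lit 2) [t7_23_23_s6, t7_23_23_s4, t7_23_23_s5, t7_23_23_s3, t7_23_23_s2] [(nat_lit 22, t7_23_23_s2, nat_lit 2), (nat_lit 13, t7_23_23_s6, nat_lit 22), (nat_lit 19, t7_23_23_s4, nat_lit 22), (nat_lit 18, t7_23_23_s5, nat_lit 22), (nat_lit 15, t7_23_23_s3, nat_lit 22), (nat_lit 20, t7_23_23_s2, nat_lit 22), (nat_lit 16, t7_23_23_s6, nat_lit 13), (nat_lit 6, t7_23_23_s4, nat_lit 13), (nat_lit 12, t7_23_23_s5, nat_lit 13), (nat_lit 10, t7_23_23_s3, nat_lit 13), (nat_lit 11, t7_23_23_s6, nat_lit 19), (nat_lit 17, t7_23_23_s2, nat_lit 19), (nat_lit 5, t7_23_23_s3, nat_lit 15), (nat_lit 9, t7_23_23_s4, nat_lit 20), (nat_lit 4, t7_23_23_s5,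 nat_lit 20), (nat_lit 3, t7_23_23_s3, nat_lit 20), (nat_lit 21, t7_23_23_s4, nat_lit 16), (nat_lit 8, t7_23_23_s5, nat_lit 16), (nat_lit 7, t7_23_23_s2, nat_lit 6), (nat_lit 14, t7_23_23_s3, nat_lit 10)]
noncomputable def t7_23_23_lev3 : Core.Lev := Core.mkLev m23_n m23_w m23_mask m23_L m23_maskL m23_idc (nat_lit 3) [t7_23_23_s6, t7_23_23_s4, t7_23_23_s5, t7_23_23_s3] [(nat_lit 4, t7_23_23_s3, nat_lit 3), (nat_lit 7, t7_23_23_s4, nat_lit 4), (nat_lit 11, t7_23_23_s5, nat_lit 4), (nat_lit 20, t7_23_23_s3, nat_lit 4), (nat_lit 12, t7_23_23_s6, nat_lit 7), (nat_lit 6, t7_23_23_s5, nat_lit 7), (nat_lit 16, t7_23_23_s4, nat_lit 11), (nat_lit 19, t7_23_23_s6, nat_lit 20), (nat_lit 9, t7_23_23_s4, nat_lit 20), (nat_lit 10, t7_23_23_s6, nat_lit 12), (nat_lit 8, t7_23_23_s3, nat_lit 12), (nat_lit 18, t7_23_23_s6, nat_lit 6), (nat_lit 21, t7_23_23_s5, nat_lit 6), (nat_lit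 22, t7_23_23_s6, nat_lit 16), (nat_lit 15, t7_23_23_s4, nat_lit 9), (nat_lit 13, t7_23_23_s5, nat_lit 9), (nat_lit 17, t7_23_23_s3, nat_lit 9), (nat_lit 14, t7_23_23_s3, nat_lit 10), (nat_lit 5, t7_23_23_s3, nat_lit 15)]
noncomputable def t7_23_23_lev4 : Core.Lev := Core.mkLev m23_n m23_w m23_mask m23_L m23_maskL m23_idc (nat_lit 4) [t7_23_23_s6, t7_23_23_s4, t7_23_23_s5] [(nat_lit 7, t7_23_23_s4, nat_lit 4), (nat_lit 11, t7_23_23_s5, nat_lit 4), (nat_lit 12, t7_23_23_s6, nat_lit 7), (nat_lit 6, t7_23_23_s5, nat_lit 7), (nat_lit 20, t7_23_23_s6, nat_lit 11), (nat_lit 16, t7_23_23_s4, nat_lit 11), (nat_lit 10, t7_23_23_s6, nat_lit 12), (nat_lit 9, t7_23_23_s5, nat_lit 12), (nat_lit 18, t7_23_23_s6, nat_lit 6), (nat_lit 8, t7_23_23_s4, nat_lit 6), (nat_lit 21, t7_23_23_s5, nat_lit 6), (nat_lit 19, t7_23_23_s6, nat_lit 20), (nat_lit 22, t7_23_23_s6, nat_lit 16),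 (nat_lit 15, t7_23_23_s4, nat_lit 9), (nat_lit 13, t7_23_23_s5, nat_lit 9)]
noncomputable def t7_23_23_lev5 : Core.Lev := Core.mkLev m23_n m23_w m23_mask m23_L m23_maskL m23_idc (nat_lit 5) [t7_23_23_s6] [(nat_lit 17, t7_23_23_s6, nat_lit 5), (nat_lit 14, t7_23_23_s6, nat_lit 17)]
noncomputable def t7_23_23_levels : List Core.Lev := [t7_23_23_lev0, t7_23_23_lev1, t7_23_23_lev2, t7_23_23_lev3, t7_23_23_lev4, t7_23_23_lev5]
theorem t7_23_23_ok : Core.checkAll m23_n m23_w m23_mask m23_L m23_maskL m23_idc [t7_23_23_X, t7_23_23_Y] t7_23_23_prog t7_23_23_levels = true := by decide +kernel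
theorem t7_23_23_ord : Core.orderC t7_23_23_levels = 10200960 := by decide +kernel
theorem t7_23_23_tr : tripleOK 7 23 23 t7_23_23_X t7_23_23_Y = true := by decide +kernel
theorem wit_7_23_23 : WitP 7 23 23 := wit_of (by norm_num) (by norm_num) (by norm_num) t7_23_23_ok t7_23_23_ord t7_23_23_tr

def t11_11_11_X : Nat := nat_lit 0xb8aa50a9b35c08695227b0d0e4818f
def t11_11_11_Y : Nat := nat_lit 0xb8d6d8450a3b895919e26500598536
def t11_11_11_prog : List (Nat × Nat × Nat) := [(nat_lit 1, nat_lit 1, nat_lit 0), (nat_lit 1, nat_lit 1, nat_lit 0), (nat_lit 0, nat_lit 3, nat_lit 2), (nat_lit 0, nat_lit 0, nat_lit 4), (nat_lit 0, nat_lit 0, nat_lit 4), (nat_lit 0, nat_lit 0, nat_lit 5), (nat_lit 0, nat_lit 5, nat_lit 5), (nat_lit 0, nat_lit 0, nat_lit 1), (nat_lit 0, nat_lit 8, nat_lit 9), (nat_lit 0, nat_lit 0, nat_lit 10), (nat_lit 0, nat_lit 0, nat_lit 10), (nat_lit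 0, nat_lit 0, nat_lit 12), (nat_lit 0, nat_lit 0, nat_lit 12), (nat_lit 0, nat_lit 0, nat_lit 13), (nat_lit 0, nat_lit 0, nat_lit 15), (nat_lit 0, nat_lit 0, nat_lit 15), (nat_lit 0, nat_lit 0, nat_lit 16), (nat_lit 0, nat_lit 10, nat_lit 16), (nat_lit 0, nat_lit 0, nat_lit 16), (nat_lit 0, nat_lit 0, nat_lit 17), (nat_lit 0, nat_lit 0, nat_lit 3), (nat_lit 1, nat_lit 13, nat_lit 0), (nat_lit 1, nat_lit 1, nat_lit 0), (nat_lit 0, nat_lit 15, nat_lit 2), (nat_lit 0, nat_lit 0, nat_lit 16), (nat_lit 0, nat_lit 0, nat_lit 17), (nat_lit 0, nat_lit 0, nat_lit 18), (nat_lit 0, nat_lit 4, nat_lit 5), (nat_lit 0, nat_lit 0, nat_lit 5), (nat_lit 0, nat_lit 0, nat_lit 6), (nat_lit 0, nat_lit 0, nat_lit 3), (nat_lit 0, nat_lit 23, nat_lit 23), (nat_lit 0, nat_lit 0, nat_lit 11), (nat_lit 0, nat_lit 0, nat_lit 25), (nat_lit 0, nat_lit 0, nat_lit 26), (nat_lit 0, nat_lit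 0, nat_lit 14), (nat_lit 0, nat_lit 0, nat_lit 15), (nat_lit 0, nat_lit 0, nat_lit 29), (nat_lit 0, nat_lit 0, nat_lit 17), (nat_lit 0, nat_lit 0, nat_lit 31), (nat_lit 0, nat_lit 18, nat_lit 17), (nat_lit 0, nat_lit 0, nat_lit 18), (nat_lit 0, nat_lit 0, nat_lit 2), (nat_lit 0, nat_lit 18, nat_lit 22), (nat_lit 0, nat_lit 0, nat_lit 36), (nat_lit 0, nat_lit 0, nat_lit 37), (nat_lit 0, nat_lit 0, nat_lit 25), (nat_lit 0, nat_lit 0, nat_lit 39), (nat_lit 0, nat_lit 0, nat_lit 27), (nat_lit 0, nat_lit 0, nat_lit 28), (nat_lit 0, nat_lit 0, nat_lit 42), (nat_lit 0, nat_lit 23, nat_lit 29), (nat_lit 0, nat_lit 0, nat_lit 1), (nat_lit 1, nat_lit 22, nat_lit 0), (nat_lit 1, nat_lit 11, nat_lit 0), (nat_lit 1, nat_lit 2, nat_lit 0), (nat_lit 0, nat_lit 13, nat_lit 3), (nat_lit 0, nat_lit 0, nat_lit 14), (nat_lit 0, nat_lit 0, nat_lit 5), (nat_lit 0, nat_lit 0, nat_lit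 16), (nat_lit 0, nat_lit 0, nat_lit 7), (nat_lit 0, nat_lit 0, nat_lit 30), (nat_lit 0, nat_lit 0, nat_lit 19), (nat_lit 0, nat_lit 9, nat_lit 0), (nat_lit 0, nat_lit 33, nat_lit 21), (nat_lit 0, nat_lit 0, nat_lit 12), (nat_lit 0, nat_lit 0, nat_lit 35), (nat_lit 0, nat_lit 0, nat_lit 24), (nat_lit 0, nat_lit 0, nat_lit 15), (nat_lit 0, nat_lit 0, nat_lit 16), (nat_lit 0, nat_lit 0, nat_lit 17), (nat_lit 0, nat_lit 0, nat_lit 18), (nat_lit 0, nat_lit 0, nat_lit 29), (nat_lit 0, nat_lit 17, nat_lit 17), (nat_lit 0, nat_lit 0, nat_lit 19), (nat_lit 0, nat_lit 0, nat_lit 2), (nat_lit 0, nat_lit 45, nat_lit 23), (nat_lit 0, nat_lit 0, nat_lit 24), (nat_lit 0, nat_lit 0, nat_lit 47), (nat_lit 0, nat_lit 0, nat_lit 48), (nat_lit 0, nat_lit 0, nat_lit 27), (nat_lit 0, nat_lit 0, nat_lit 38), (nat_lit 0, nat_lit 0, nat_lit 39), (nat_lit 0, nat_lit 0, nat_lit 40), (nat_lit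 0, nat_lit 0, nat_lit 31), (nat_lit 0, nat_lit 0, nat_lit 54), (nat_lit 0, nat_lit 30, nat_lit 31), (nat_lit 0, nat_lit 0, nat_lit 1), (nat_lit 0, nat_lit 45, nat_lit 45), (nat_lit 0, nat_lit 0, nat_lit 36), (nat_lit 0, nat_lit 0, nat_lit 37), (nat_lit 0, nat_lit 36, nat_lit 35), (nat_lit 0, nat_lit 0, nat_lit 36), (nat_lit 0, nat_lit 0, nat_lit 2), (nat_lit 1, nat_lit 30, nat_lit 0), (nat_lit 1, nat_lit 19, nat_lit 0), (nat_lit 1, nat_lit 8, nat_lit 0), (nat_lit 1, nat_lit 3, nat_lit 0), (nat_lit 0, nat_lit 4, nat_lit 22), (nat_lit 0, nat_lit 0, nat_lit 23), (nat_lit 0, nat_lit 0, nat_lit 36), (nat_lit 0, nat_lit 0, nat_lit 25), (nat_lit 0, nat_lit 0, nat_lit 26), (nat_lit 0, nat_lit 7, nat_lit 7), (nat_lit 0, nat_lit 0, nat_lit 7), (nat_lit 0, nat_lit 0, nat_lit 2), (nat_lit 0, nat_lit 12, nat_lit 18), (nat_lit 0, nat_lit 0, nat_lit 19), (nat_lit 0, nat_lit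 0, nat_lit 14), (nat_lit 0, nat_lit 0, nat_lit 21), (nat_lit 0, nat_lit 0, nat_lit 46), (nat_lit 0, nat_lit 0, nat_lit 17), (nat_lit 0, nat_lit 0, nat_lit 36), (nat_lit 0, nat_lit 0, nat_lit 37), (nat_lit 0, nat_lit 0, nat_lit 20), (nat_lit 0, nat_lit 0, nat_lit 51), (nat_lit 0, nat_lit 0, nat_lit 22), (nat_lit 0, nat_lit 22, nat_lit 19), (nat_lit 0, nat_lit 0, nat_lit 1), (nat_lit 0, nat_lit 31, nat_lit 43), (nat_lit 0, nat_lit 0, nat_lit 26), (nat_lit 0, nat_lit 0, nat_lit 27), (nat_lit 0, nat_lit 0, nat_lit 34), (nat_lit 0, nat_lit 0, nat_lit 29), (nat_lit 0, nat_lit 0, nat_lit 36), (nat_lit 0, nat_lit 0, nat_lit 61), (nat_lit 0, nat_lit 0, nat_lit 38), (nat_lit 0, nat_lit 0, nat_lit 33), (nat_lit 0, nat_lit 0, nat_lit 64), (nat_lit 0, nat_lit 0, nat_lit 53), (nat_lit 0, nat_lit 35, nat_lit 0), (nat_lit 1, nat_lit 12, nat_lit 0), (nat_lit 0, nat_lit 1, nat_lit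 1), (nat_lit 0, nat_lit 0, nat_lit 2), (nat_lit 0, nat_lit 0, nat_lit 28), (nat_lit 0, nat_lit 0, nat_lit 29), (nat_lit 0, nat_lit 0, nat_lit 5), (nat_lit 0, nat_lit 5, nat_lit 5), (nat_lit 0, nat_lit 0, nat_lit 1)]
def t11_11_11_s0 : Nat := nat_lit 0xb8aa50a9b35c08695227b0d0e4818f
def t11_11_11_s1 : Nat := nat_lit 0xb8d84884f054ac9688d57d26871560
def t11_11_11_s2 : Nat := nat_lit 0xba9eb69dd0a2182a9066946c54cc20
def t11_11_11_s3 : Nat := nat_lit 0xbc6c86d52e5bca7332532428350820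
def t11_11_11_s4 : Nat := nat_lit 0xbcd69958b5a44c4829ed621c718820
def t11_11_11_s5 : Nat := nat_lit 0xb990f640a75466db512492dd518820
def t11_11_11_s6 : Nat := nat_lit 0xbc12ba18ad946c79b11553dc418820
noncomputable def t11_11_11_lev0 : Core.Lev := Core.mkLev m23_n m23_w m23_mask m23_L m23_maskL m23_idc (nat_lit 0) [t11_11_11_s6, t11_11_11_s4, t11_11_11_s5, t11_11_11_s3, t11_11_11_s2, t11_11_11_s1, t11_11_11_s0] [(nat_lit 15, t11_11_11_s0, nat_lit 0), (nat_lit 18, t11_11_11_s6, nat_lit 15), (nat_lit 20, t11_11_11_s4, nat_lit 15), (nat_lit 10, t11_11_11_s5, nat_lit 15), (nat_lit 11, t11_11_11_s3, nat_lit 15), (nat_lit 6, t11_11_11_s6, nat_lit 18), (nat_lit 22, t11_11_11_s4, nat_lit 18), (nat_lit 16, t11_11_11_s5, nat_lit 18), (nat_lit 21, t11_11_11_s3, nat_lit 18), (nat_lit 7, t11_11_11_s2, nat_lit 18), (nat_lit 1, t11_11_11_s1, nat_lit 18), (nat_lit 9, t11_11_11_s4,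 nat_lit 20), (nat_lit 8, t11_11_11_s3, nat_lit 20), (nat_lit 4, t11_11_11_s1, nat_lit 20), (nat_lit 5, t11_11_11_s0, nat_lit 20), (nat_lit 12, t11_11_11_s6, nat_lit 10), (nat_lit 2, t11_11_11_s1, nat_lit 10), (nat_lit 19, t11_11_11_s6, nat_lit 11), (nat_lit 13, t11_11_11_s1, nat_lit 11), (nat_lit 17, t11_11_11_s2, nat_lit 6), (nat_lit 3, t11_11_11_s0, nat_lit 6), (nat_lit 14, t11_11_11_s3, nat_lit 16)]
noncomputable def t11_11_11_lev1 : Core.Lev := Core.mkLev m23_n m23_w m23_mask m23_L m23_maskL m23_idc (nat_lit 1) [t11_11_11_s6, t11_11_11_s4, t11_11_11_s5, t11_11_11_s3, t11_11_11_s2, t11_11_11_s1] [(nat_lit 11, t11_11_11_s1, nat_lit 1), (nat_lit 19, t11_11_11_s6, nat_lit 11), (nat_lit 16, t11_11_11_s4, nat_lit 11), (nat_lit 22, t11_11_11_s5, nat_lit 11), (nat_lit 6, t11_11_11_s3, nat_lit 11), (nat_lit 21, t11_11_11_s2, nat_lit 11), (nat_lit 13, t11_11_11_s1,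 nat_lit 11), (nat_lit 20, t11_11_11_s6, nat_lit 19), (nat_lit 18, t11_11_11_s4, nat_lit 19), (nat_lit 12, t11_11_11_s5, nat_lit 19), (nat_lit 17, t11_11_11_s1, nat_lit 19), (nat_lit 7, t11_11_11_s5, nat_lit 16), (nat_lit 14, t11_11_11_s3, nat_lit 16), (nat_lit 10, t11_11_11_s2, nat_lit 22), (nat_lit 3, t11_11_11_s1, nat_lit 22), (nat_lit 15, t11_11_11_s6, nat_lit 6), (nat_lit 8, t11_11_11_s4, nat_lit 6), (nat_lit 9, t11_11_11_s6, nat_lit 21), (nat_lit 5, t11_11_11_s3, nat_lit 13), (nat_lit 4, t11_11_11_s1, nat_lit 20), (nat_lit 2, t11_11_11_s2, nat_lit 12)]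
noncomputable def t11_11_11_lev2 : Core.Lev := Core.mkLev m23_n m23_w m23_mask m23_L m23_maskL m23_idc (nat_lit 2) [t11_11_11_s6, t11_11_11_s4, t11_11_11_s5, t11_11_11_s3, t11_11_11_s2] [(nat_lit 19, t11_11_11_s2, nat_lit 2), (nat_lit 20, t11_11_11_s6, nat_lit 19), (nat_lit 18, t11_11_11_s4, nat_lit 19), (nat_lit 12, t11_11_11_s5, nat_lit 19), (nat_lit 13, t11_11_11_s3, nat_lit 19), (nat_lit 11, t11_11_11_s6, nat_lit 20), (nat_lit 9, t11_11_11_s4, nat_lit 20), (nat_lit 15, t11_11_11_s5, nat_lit 20), (nat_lit 8, t11_11_11_s3, nat_lit 20), (nat_lit 6, t11_11_11_s6, nat_lit 18), (nat_lit 22, t11_11_11_s4, nat_lit 18), (nat_lit 16, t11_11_11_s5, nat_lit 18), (nat_lit 21, t11_11_11_s3, nat_lit 18), (nat_lit 7, t11_11_11_s2, nat_lit 18), (nat_lit 4, t11_11_11_s4, nat_lit 12), (nat_lit 5, t11_11_11_s3, nat_lit 13), (nat_lit 3, t11_11_11_s2, nat_lit 9), (nat_lit 10,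 t11_11_11_s5, nat_lit 15), (nat_lit 17, t11_11_11_s2, nat_lit 6), (nat_lit 14, t11_11_11_s3, nat_lit 16)]
noncomputable def t11_11_11_lev3 : Core.Lev := Core.mkLev m23_n m23_w m23_mask m23_L m23_maskL m23_idc (nat_lit 3) [t11_11_11_s6, t11_11_11_s4, t11_11_11_s5, t11_11_11_s3] [(nat_lit 10, t11_11_11_s3, nat_lit 3), (nat_lit 12, t11_11_11_s6, nat_lit 10), (nat_lit 20, t11_11_11_s5, nat_lit 10), (nat_lit 7, t11_11_11_s6, nat_lit 12), (nat_lit 4, t11_11_11_s4, nat_lit 12), (nat_lit 13, t11_11_11_s5, nat_lit 12), (nat_lit 11, t11_11_11_s6, nat_lit 20), (nat_lit 9, t11_11_11_s4, nat_lit 20), (nat_lit 15, t11_11_11_s5, nat_lit 20), (nat_lit 8, t11_11_11_s3, nat_lit 20), (nat_lit 18, t11_11_11_s5, nat_lit 7), (nat_lit 21, t11_11_11_s5, nat_lit 4), (nat_lit 22, t11_11_11_s6, nat_lit 13), (nat_lit 6, t11_11_11_s4, nat_lit 13), (nat_lit 19, t11_11_11_s5, nat_lit 13),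 (nat_lit 5, t11_11_11_s3, nat_lit 13), (nat_lit 16, t11_11_11_s4, nat_lit 11), (nat_lit 17, t11_11_11_s3, nat_lit 22), (nat_lit 14, t11_11_11_s6, nat_lit 5)]
noncomputable def t11_11_11_lev4 : Core.Lev := Core.mkLev m23_n m23_w m23_mask m23_L m23_maskL m23_idc (nat_lit 4) [t11_11_11_s6, t11_11_11_s4, t11_11_11_s5] [(nat_lit 7, t11_11_11_s4, nat_lit 4), (nat_lit 21, t11_11_11_s5, nat_lit 4), (nat_lit 10, t11_11_11_s6, nat_lit 7), (nat_lit 12, t11_11_11_s4, nat_lit 7), (nat_lit 18, t11_11_11_s5, nat_lit 7), (nat_lit 9, t11_11_11_s6, nat_lit 21), (nat_lit 11, t11_11_11_s4, nat_lit 21), (nat_lit 8, t11_11_11_s5, nat_lit 21), (nat_lit 20, t11_11_11_s5, nat_lit 10), (nat_lit 13, t11_11_11_s5, nat_lit 12), (nat_lit 6, t11_11_11_s6, nat_lit 18), (nat_lit 22, t11_11_11_s4, nat_lit 18), (nat_lit 16, t11_11_11_s5, nat_lit 18), (nat_lit 15, t11_11_11_s4, nat_lit 9), (nat_lit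 19, t11_11_11_s6, nat_lit 11)]
noncomputable def t11_11_11_lev5 : Core.Lev := Core.mkLev m23_n m23_w m23_mask m23_L m23_maskL m23_idc (nat_lit 5) [t11_11_11_s6] [(nat_lit 14, t11_11_11_s6, nat_lit 5), (nat_lit 17, t11_11_11_s6, nat_lit 14)]
noncomputable def t11_11_11_levels : List Core.Lev := [t11_11_11_lev0, t11_11_11_lev1, t11_11_11_lev2, t11_11_11_lev3, t11_11_11_lev4, t11_11_11_lev5]
theorem t11_11_11_ok : Core.checkAll m23_n m23_w m23_mask m23_L m23_maskL m23_idc [t11_11_11_X, t11_11_11_Y] t11_11_11_prog t11_11_11_levels = true := by decide +kernel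
theorem t11_11_11_ord : Core.orderC t11_11_11_levels = 10200960 := by decide +kernel
theorem t11_11_11_tr : tripleOK 11 11 11 t11_11_11_X t11_11_11_Y = true := by decide +kernel
theorem wit_11_11_11 : WitP 11 11 11 := wit_of (by norm_num) (by norm_num) (by norm_num) t11_11_11_ok t11_11_11_ord t11_11_11_tr

def t11_11_23_X : Nat := nat_lit 0xb82a86508194dc3515b6124f08bccb
def t11_11_23_Y : Nat := nat_lit 0xb806e305e26a8f4592b0922658b2c9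
def t11_11_23_prog : List (Nat × Nat × Nat) := [(nat_lit 1, nat_lit 1, nat_lit 0), (nat_lit 1, nat_lit 1, nat_lit 0), (nat_lit 0, nat_lit 3, nat_lit 2), (nat_lit 0, nat_lit 0, nat_lit 4), (nat_lit 0, nat_lit 0, nat_lit 4), (nat_lit 0, nat_lit 0, nat_lit 5), (nat_lit 0, nat_lit 4, nat_lit 4), (nat_lit 0, nat_lit 0, nat_lit 5), (nat_lit 0, nat_lit 0, nat_lit 7), (nat_lit 0, nat_lit 0, nat_lit 3), (nat_lit 0, nat_lit 10, nat_lit 11), (nat_lit 0, nat_lit 0, nat_lit 12), (nat_lit 0, nat_lit 0, nat_lit 12), (nat_lit 0, nat_lit 0, nat_lit 14), (nat_lit 0, nat_lit 0, nat_lit 14), (nat_lit 0, nat_lit 0, nat_lit 15), (nat_lit 0, nat_lit 0, nat_lit 17), (nat_lit 0, nat_lit 0, nat_lit 17), (nat_lit 0, nat_lit 0, nat_lit 18), (nat_lit 0, nat_lit 18, nat_lit 18), (nat_lit 0, nat_lit 0, nat_lit 19), (nat_lit 0, nat_lit 0, nat_lit 19), (nat_lit 0, nat_lit 0, nat_lit 21), (nat_lit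 0, nat_lit 0, nat_lit 4), (nat_lit 1, nat_lit 14, nat_lit 0), (nat_lit 1, nat_lit 1, nat_lit 0), (nat_lit 0, nat_lit 16, nat_lit 2), (nat_lit 0, nat_lit 0, nat_lit 17), (nat_lit 0, nat_lit 0, nat_lit 18), (nat_lit 0, nat_lit 0, nat_lit 19), (nat_lit 0, nat_lit 4, nat_lit 5), (nat_lit 0, nat_lit 0, nat_lit 6), (nat_lit 0, nat_lit 0, nat_lit 7), (nat_lit 0, nat_lit 0, nat_lit 3), (nat_lit 0, nat_lit 24, nat_lit 24), (nat_lit 0, nat_lit 0, nat_lit 11), (nat_lit 0, nat_lit 0, nat_lit 26), (nat_lit 0, nat_lit 0, nat_lit 27), (nat_lit 0, nat_lit 0, nat_lit 14), (nat_lit 0, nat_lit 0, nat_lit 15), (nat_lit 0, nat_lit 0, nat_lit 30), (nat_lit 0, nat_lit 0, nat_lit 17), (nat_lit 0, nat_lit 0, nat_lit 32), (nat_lit 0, nat_lit 18, nat_lit 18), (nat_lit 0, nat_lit 0, nat_lit 19), (nat_lit 0, nat_lit 0, nat_lit 20), (nat_lit 0, nat_lit 0, nat_lit 3), (nat_lit 1, nat_lit 13,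 nat_lit 0), (nat_lit 1, nat_lit 1, nat_lit 0), (nat_lit 0, nat_lit 15, nat_lit 2), (nat_lit 0, nat_lit 0, nat_lit 16), (nat_lit 0, nat_lit 0, nat_lit 4), (nat_lit 0, nat_lit 0, nat_lit 18), (nat_lit 0, nat_lit 0, nat_lit 19), (nat_lit 0, nat_lit 0, nat_lit 7), (nat_lit 0, nat_lit 0, nat_lit 21), (nat_lit 0, nat_lit 0, nat_lit 9), (nat_lit 0, nat_lit 0, nat_lit 10), (nat_lit 0, nat_lit 0, nat_lit 24), (nat_lit 0, nat_lit 10, nat_lit 10), (nat_lit 0, nat_lit 0, nat_lit 12), (nat_lit 0, nat_lit 0, nat_lit 13), (nat_lit 0, nat_lit 0, nat_lit 3), (nat_lit 0, nat_lit 16, nat_lit 16), (nat_lit 0, nat_lit 0, nat_lit 17), (nat_lit 0, nat_lit 0, nat_lit 31), (nat_lit 0, nat_lit 0, nat_lit 19), (nat_lit 0, nat_lit 0, nat_lit 33), (nat_lit 0, nat_lit 0, nat_lit 21), (nat_lit 0, nat_lit 0, nat_lit 22), (nat_lit 0, nat_lit 8, nat_lit 22), (nat_lit 0, nat_lit 0, nat_lit 22),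 (nat_lit 0, nat_lit 0, nat_lit 2), (nat_lit 1, nat_lit 10, nat_lit 0), (nat_lit 1, nat_lit 1, nat_lit 0), (nat_lit 0, nat_lit 12, nat_lit 2), (nat_lit 0, nat_lit 0, nat_lit 13), (nat_lit 0, nat_lit 0, nat_lit 4), (nat_lit 0, nat_lit 0, nat_lit 15), (nat_lit 0, nat_lit 0, nat_lit 16), (nat_lit 0, nat_lit 0, nat_lit 7), (nat_lit 0, nat_lit 0, nat_lit 8), (nat_lit 0, nat_lit 0, nat_lit 9), (nat_lit 0, nat_lit 9, nat_lit 8), (nat_lit 0, nat_lit 0, nat_lit 10), (nat_lit 0, nat_lit 0, nat_lit 2), (nat_lit 0, nat_lit 23, nat_lit 23), (nat_lit 0, nat_lit 0, nat_lit 14), (nat_lit 0, nat_lit 0, nat_lit 15), (nat_lit 0, nat_lit 0, nat_lit 26), (nat_lit 0, nat_lit 0, nat_lit 27), (nat_lit 0, nat_lit 0, nat_lit 28), (nat_lit 0, nat_lit 0, nat_lit 29), (nat_lit 0, nat_lit 0, nat_lit 30), (nat_lit 0, nat_lit 0, nat_lit 31), (nat_lit 0, nat_lit 0, nat_lit 22), (nat_lit 0, nat_lit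 21, nat_lit 21), (nat_lit 0, nat_lit 0, nat_lit 22), (nat_lit 0, nat_lit 0, nat_lit 23), (nat_lit 0, nat_lit 0, nat_lit 3), (nat_lit 0, nat_lit 27, nat_lit 27), (nat_lit 0, nat_lit 0, nat_lit 28), (nat_lit 0, nat_lit 0, nat_lit 39), (nat_lit 0, nat_lit 0, nat_lit 30), (nat_lit 0, nat_lit 0, nat_lit 41), (nat_lit 0, nat_lit 0, nat_lit 42), (nat_lit 0, nat_lit 0, nat_lit 33), (nat_lit 0, nat_lit 0, nat_lit 44), (nat_lit 0, nat_lit 23, nat_lit 33), (nat_lit 0, nat_lit 0, nat_lit 1), (nat_lit 0, nat_lit 37, nat_lit 47), (nat_lit 0, nat_lit 0, nat_lit 38), (nat_lit 0, nat_lit 0, nat_lit 39), (nat_lit 0, nat_lit 0, nat_lit 40), (nat_lit 0, nat_lit 0, nat_lit 41), (nat_lit 0, nat_lit 0, nat_lit 42), (nat_lit 0, nat_lit 0, nat_lit 53), (nat_lit 0, nat_lit 0, nat_lit 44), (nat_lit 0, nat_lit 9, nat_lit 0), (nat_lit 1, nat_lit 33, nat_lit 0), (nat_lit 0, nat_lit 20, nat_lit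 34), (nat_lit 0, nat_lit 0, nat_lit 11), (nat_lit 0, nat_lit 0, nat_lit 22), (nat_lit 0, nat_lit 0, nat_lit 4), (nat_lit 0, nat_lit 0, nat_lit 38), (nat_lit 0, nat_lit 0, nat_lit 25), (nat_lit 0, nat_lit 0, nat_lit 40), (nat_lit 0, nat_lit 7, nat_lit 0)]
def t11_11_23_s0 : Nat := nat_lit 0xb82a86508194dc3515b6124f08bccb
def t11_11_23_s1 : Nat := nat_lit 0xbc5ca9058941844a3ea329ed06cd60
def t11_11_23_s2 : Nat := nat_lit 0xbacd115889849af1d10c99d4575420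
def t11_11_23_s3 : Nat := nat_lit 0xbd5045b9e7824d11d9a564953a0820
def t11_11_23_s4 : Nat := nat_lit 0xbd087830af9c54b91aa8b35c918820
def t11_11_23_s5 : Nat := nat_lit 0xbc8e49a8a884589a59af355cb18820
def t11_11_23_s6 : Nat := nat_lit 0xbb5135bdd63160aa1ea964a2418820
noncomputable def t11_11_23_lev0 : Core.Lev := Core.mkLev m23_n m23_w m23_mask m23_L m23_maskL m23_idc (nat_lit 0) [t11_11_23_s6, t11_11_23_s4, t11_11_23_s5, t11_11_23_s3, t11_11_23_s2, t11_11_23_s1, t11_11_23_s0] [(nat_lit 11, t11_11_23_s0, nat_lit 0), (nat_lit 20, t11_11_23_s6, nat_lit 11), (nat_lit 18, t11_11_23_s4, nat_lit 11), (nat_lit 3, t11_11_23_s3, nat_lit 11), (nat_lit 10, t11_11_23_s0, nat_lit 11), (nat_lit 19, t11_11_23_s6, nat_lit 20), (nat_lit 7, t11_11_23_s4, nat_lit 20), (nat_lit 4, t11_11_23_s5, nat_lit 20), (nat_lit 17, t11_11_23_s2, nat_lit 20), (nat_lit 8, t11_11_23_s0, nat_lit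 20), (nat_lit 15, t11_11_23_s6, nat_lit 18), (nat_lit 12, t11_11_23_s4, nat_lit 18), (nat_lit 14, t11_11_23_s3, nat_lit 18), (nat_lit 22, t11_11_23_s2, nat_lit 18), (nat_lit 1, t11_11_23_s1, nat_lit 18), (nat_lit 13, t11_11_23_s1, nat_lit 3), (nat_lit 6, t11_11_23_s4, nat_lit 10), (nat_lit 5, t11_11_23_s0, nat_lit 10), (nat_lit 16, t11_11_23_s4, nat_lit 19), (nat_lit 2, t11_11_23_s2, nat_lit 19), (nat_lit 9, t11_11_23_s4, nat_lit 4), (nat_lit 21, t11_11_23_s3, nat_lit 22)]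
noncomputable def t11_11_23_lev1 : Core.Lev := Core.mkLev m23_n m23_w m23_mask m23_L m23_maskL m23_idc (nat_lit 1) [t11_11_23_s6, t11_11_23_s4, t11_11_23_s5, t11_11_23_s3, t11_11_23_s2, t11_11_23_s1] [(nat_lit 11, t11_11_23_s1, nat_lit 1), (nat_lit 20, t11_11_23_s6, nat_lit 11), (nat_lit 18, t11_11_23_s4, nat_lit 11), (nat_lit 3, t11_11_23_s3, nat_lit 11), (nat_lit 19, t11_11_23_s6, nat_lit 20), (nat_lit 7, t11_11_23_s4, nat_lit 20), (nat_lit 4, t11_11_23_s5, nat_lit 20), (nat_lit 17, t11_11_23_s2, nat_lit 20), (nat_lit 10, t11_11_23_s1, nat_lit 20), (nat_lit 15, t11_11_23_s6, nat_lit 18), (nat_lit 12, t11_11_23_s4, nat_lit 18), (nat_lit 14, t11_11_23_s3, nat_lit 18), (nat_lit 22, t11_11_23_s2, nat_lit 18), (nat_lit 13, t11_11_23_s1, nat_lit 3), (nat_lit 16, t11_11_23_s4, nat_lit 19), (nat_lit 2, t11_11_23_s2, nat_lit 19), (nat_lit 6, t11_11_23_s5, nat_lit 7),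 (nat_lit 5, t11_11_23_s1, nat_lit 7), (nat_lit 9, t11_11_23_s4, nat_lit 4), (nat_lit 8, t11_11_23_s1, nat_lit 15), (nat_lit 21, t11_11_23_s3, nat_lit 22)]
noncomputable def t11_11_23_lev2 : Core.Lev := Core.mkLev m23_n m23_w m23_mask m23_L m23_maskL m23_idc (nat_lit 2) [t11_11_23_s6, t11_11_23_s4, t11_11_23_s5, t11_11_23_s3, t11_11_23_s2] [(nat_lit 21, t11_11_23_s2, nat_lit 2), (nat_lit 8, t11_11_23_s6, nat_lit 21), (nat_lit 4, t11_11_23_s4, nat_lit 21), (nat_lit 7, t11_11_23_s5, nat_lit 21), (nat_lit 6, t11_11_23_s2, nat_lit 21), (nat_lit 9, t11_11_23_s6, nat_lit 8), (nat_lit 15, t11_11_23_s5, nat_lit 8), (nat_lit 5, t11_11_23_s3, nat_lit 8), (nat_lit 12, t11_11_23_s2, nat_lit 8), (nat_lit 11, t11_11_23_s5, nat_lit 4), (nat_lit 19, t11_11_23_s3, nat_lit 4), (nat_lit 22, t11_11_23_s4, nat_lit 7), (nat_lit 18, t11_11_23_s6, nat_lit 6), (nat_lit 13, t11_11_23_s4,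 nat_lit 6), (nat_lit 16, t11_11_23_s5, nat_lit 15), (nat_lit 17, t11_11_23_s6, nat_lit 5), (nat_lit 14, t11_11_23_s4, nat_lit 5), (nat_lit 10, t11_11_23_s3, nat_lit 5), (nat_lit 20, t11_11_23_s6, nat_lit 11), (nat_lit 3, t11_11_23_s3, nat_lit 11)]
noncomputable def t11_11_23_lev3 : Core.Lev := Core.mkLev m23_n m23_w m23_mask m23_L m23_maskL m23_idc (nat_lit 3) [t11_11_23_s6, t11_11_23_s4, t11_11_23_s5, t11_11_23_s3] [(nat_lit 20, t11_11_23_s3, nat_lit 3), (nat_lit 19, t11_11_23_s6, nat_lit 20), (nat_lit 7, t11_11_23_s4, nat_lit 20), (nat_lit 4, t11_11_23_s5, nat_lit 20), (nat_lit 11, t11_11_23_s6, nat_lit 19), (nat_lit 16, t11_11_23_s4, nat_lit 19), (nat_lit 12, t11_11_23_s6, nat_lit 7), (nat_lit 22, t11_11_23_s4, nat_lit 7), (nat_lit 6, t11_11_23_s5, nat_lit 7), (nat_lit 9, t11_11_23_s4, nat_lit 4), (nat_lit 18, t11_11_23_s4, nat_lit 11), (nat_lit 15, t11_11_23_s4,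 nat_lit 16), (nat_lit 8, t11_11_23_s5, nat_lit 16), (nat_lit 10, t11_11_23_s6, nat_lit 12), (nat_lit 17, t11_11_23_s3, nat_lit 12), (nat_lit 13, t11_11_23_s6, nat_lit 22), (nat_lit 21, t11_11_23_s3, nat_lit 22), (nat_lit 14, t11_11_23_s3, nat_lit 18), (nat_lit 5, t11_11_23_s3, nat_lit 8)]
noncomputable def t11_11_23_lev4 : Core.Lev := Core.mkLev m23_n m23_w m23_mask m23_L m23_maskL m23_idc (nat_lit 4) [t11_11_23_s6, t11_11_23_s4, t11_11_23_s5] [(nat_lit 9, t11_11_23_s4, nat_lit 4), (nat_lit 11, t11_11_23_s5, nat_lit 4), (nat_lit 21, t11_11_23_s6, nat_lit 9), (nat_lit 13, t11_11_23_s5, nat_lit 9), (nat_lit 20, t11_11_23_s6, nat_lit 11), (nat_lit 18, t11_11_23_s4, nat_lit 11), (nat_lit 8, t11_11_23_s6, nat_lit 21), (nat_lit 7, t11_11_23_s5, nat_lit 21), (nat_lit 16, t11_11_23_s6, nat_lit 13), (nat_lit 10, t11_11_23_s4, nat_lit 13), (nat_lit 12, t11_11_23_s5, nat_lit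 13), (nat_lit 19, t11_11_23_s6, nat_lit 20), (nat_lit 15, t11_11_23_s6, nat_lit 18), (nat_lit 22, t11_11_23_s4, nat_lit 7), (nat_lit 6, t11_11_23_s5, nat_lit 7)]
noncomputable def t11_11_23_lev5 : Core.Lev := Core.mkLev m23_n m23_w m23_mask m23_L m23_maskL m23_idc (nat_lit 5) [t11_11_23_s6] [(nat_lit 17, t11_11_23_s6, nat_lit 5), (nat_lit 14, t11_11_23_s6, nat_lit 17)]
noncomputable def t11_11_23_levels : List Core.Lev := [t11_11_23_lev0, t11_11_23_lev1, t11_11_23_lev2, t11_11_23_lev3, t11_11_23_lev4, t11_11_23_lev5]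
theorem t11_11_23_ok : Core.checkAll m23_n m23_w m23_mask m23_L m23_maskL m23_idc [t11_11_23_X, t11_11_23_Y] t11_11_23_prog t11_11_23_levels = true := by decide +kernel
theorem t11_11_23_ord : Core.orderC t11_11_23_levels = 10200960 := by decide +kernel
theorem t11_11_23_tr : tripleOK 11 11 23 t11_11_23_X t11_11_23_Y = true := by decide +kernel
theorem wit_11_11_23 : WitP 11 11 23 := wit_of (by norm_num) (by norm_num) (by norm_num) t11_11_23_ok t11_11_23_ord t11_11_23_tr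

def t11_23_23_X : Nat := nat_lit 0xbaeb61a206a327129dc07b4412492a
def t11_23_23_Y : Nat := nat_lit 0xb924751a95b346082181146654b96f
def t11_23_23_prog : List (Nat × Nat × Nat) := [(nat_lit 1, nat_lit 1, nat_lit 0), (nat_lit 1, nat_lit 1, nat_lit 0), (nat_lit 0, nat_lit 3, nat_lit 2), (nat_lit 0, nat_lit 0, nat_lit 4), (nat_lit 0, nat_lit 0, nat_lit 4), (nat_lit 0, nat_lit 0, nat_lit 5), (nat_lit 0, nat_lit 5, nat_lit 5), (nat_lit 0, nat_lit 0, nat_lit 5), (nat_lit 0, nat_lit 0, nat_lit 7), (nat_lit 0, nat_lit 0, nat_lit 7), (nat_lit 0, nat_lit 0, nat_lit 4), (nat_lit 0, nat_lit 11, nat_lit 12), (nat_lit 0, nat_lit 0, nat_lit 13), (nat_lit 0, nat_lit 0, nat_lit 13), (nat_lit 0, nat_lit 0, nat_lit 15), (nat_lit 0, nat_lit 0, nat_lit 15), (nat_lit 0, nat_lit 0, nat_lit 16), (nat_lit 0, nat_lit 0, nat_lit 18), (nat_lit 0, nat_lit 0, nat_lit 18), (nat_lit 0, nat_lit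 0, nat_lit 19), (nat_lit 0, nat_lit 18, nat_lit 0), (nat_lit 1, nat_lit 10, nat_lit 0), (nat_lit 1, nat_lit 1, nat_lit 0), (nat_lit 0, nat_lit 12, nat_lit 2), (nat_lit 0, nat_lit 0, nat_lit 13), (nat_lit 0, nat_lit 3, nat_lit 3), (nat_lit 0, nat_lit 15, nat_lit 15), (nat_lit 0, nat_lit 0, nat_lit 6), (nat_lit 0, nat_lit 0, nat_lit 17), (nat_lit 0, nat_lit 0, nat_lit 18), (nat_lit 0, nat_lit 0, nat_lit 9), (nat_lit 0, nat_lit 0, nat_lit 10), (nat_lit 0, nat_lit 0, nat_lit 21), (nat_lit 0, nat_lit 0, nat_lit 12), (nat_lit 0, nat_lit 0, nat_lit 23), (nat_lit 0, nat_lit 12, nat_lit 0), (nat_lit 0, nat_lit 11, nat_lit 15), (nat_lit 0, nat_lit 0, nat_lit 26), (nat_lit 0, nat_lit 0, nat_lit 27), (nat_lit 0, nat_lit 0, nat_lit 18), (nat_lit 0, nat_lit 0, nat_lit 29), (nat_lit 0, nat_lit 0, nat_lit 20), (nat_lit 0, nat_lit 0, nat_lit 21), (nat_lit 0, nat_lit 0, nat_lit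 32), (nat_lit 0, nat_lit 18, nat_lit 21), (nat_lit 0, nat_lit 0, nat_lit 1), (nat_lit 1, nat_lit 10, nat_lit 0), (nat_lit 1, nat_lit 1, nat_lit 0), (nat_lit 0, nat_lit 2, nat_lit 2), (nat_lit 0, nat_lit 0, nat_lit 3), (nat_lit 0, nat_lit 0, nat_lit 14), (nat_lit 0, nat_lit 0, nat_lit 5), (nat_lit 0, nat_lit 0, nat_lit 16), (nat_lit 0, nat_lit 0, nat_lit 7), (nat_lit 0, nat_lit 0, nat_lit 8), (nat_lit 0, nat_lit 7, nat_lit 8), (nat_lit 0, nat_lit 0, nat_lit 8), (nat_lit 0, nat_lit 0, nat_lit 9), (nat_lit 0, nat_lit 0, nat_lit 3), (nat_lit 0, nat_lit 23, nat_lit 13), (nat_lit 0, nat_lit 0, nat_lit 24), (nat_lit 0, nat_lit 0, nat_lit 15), (nat_lit 0, nat_lit 0, nat_lit 26), (nat_lit 0, nat_lit 0, nat_lit 27), (nat_lit 0, nat_lit 0, nat_lit 18), (nat_lit 0, nat_lit 0, nat_lit 19), (nat_lit 0, nat_lit 0, nat_lit 20), (nat_lit 0, nat_lit 19, nat_lit 19), (nat_lit 0,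 nat_lit 0, nat_lit 21), (nat_lit 0, nat_lit 0, nat_lit 2), (nat_lit 0, nat_lit 34, nat_lit 34), (nat_lit 0, nat_lit 0, nat_lit 25), (nat_lit 0, nat_lit 0, nat_lit 26), (nat_lit 0, nat_lit 0, nat_lit 37), (nat_lit 0, nat_lit 0, nat_lit 38), (nat_lit 0, nat_lit 0, nat_lit 39), (nat_lit 0, nat_lit 0, nat_lit 40), (nat_lit 0, nat_lit 0, nat_lit 41), (nat_lit 0, nat_lit 0, nat_lit 42), (nat_lit 0, nat_lit 0, nat_lit 33), (nat_lit 0, nat_lit 33, nat_lit 33), (nat_lit 0, nat_lit 0, nat_lit 33), (nat_lit 0, nat_lit 0, nat_lit 2), (nat_lit 1, nat_lit 13, nat_lit 0), (nat_lit 1, nat_lit 1, nat_lit 0), (nat_lit 1, nat_lit 26, nat_lit 0), (nat_lit 0, nat_lit 3, nat_lit 3), (nat_lit 0, nat_lit 0, nat_lit 17), (nat_lit 0, nat_lit 0, nat_lit 18), (nat_lit 0, nat_lit 0, nat_lit 19), (nat_lit 0, nat_lit 0, nat_lit 7), (nat_lit 0, nat_lit 0, nat_lit 8), (nat_lit 0, nat_lit 0,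 nat_lit 9), (nat_lit 0, nat_lit 0, nat_lit 10), (nat_lit 0, nat_lit 10, nat_lit 8), (nat_lit 0, nat_lit 0, nat_lit 11), (nat_lit 0, nat_lit 0, nat_lit 11), (nat_lit 0, nat_lit 0, nat_lit 3), (nat_lit 0, nat_lit 39, nat_lit 15), (nat_lit 0, nat_lit 0, nat_lit 16), (nat_lit 0, nat_lit 0, nat_lit 41), (nat_lit 0, nat_lit 0, nat_lit 18), (nat_lit 0, nat_lit 0, nat_lit 19), (nat_lit 0, nat_lit 0, nat_lit 44), (nat_lit 0, nat_lit 0, nat_lit 34), (nat_lit 0, nat_lit 0, nat_lit 46), (nat_lit 0, nat_lit 0, nat_lit 36), (nat_lit 0, nat_lit 22, nat_lit 0), (nat_lit 0, nat_lit 38, nat_lit 49), (nat_lit 0, nat_lit 0, nat_lit 26), (nat_lit 0, nat_lit 0, nat_lit 40), (nat_lit 0, nat_lit 0, nat_lit 41), (nat_lit 0, nat_lit 0, nat_lit 42), (nat_lit 0, nat_lit 0, nat_lit 43), (nat_lit 0, nat_lit 0, nat_lit 44), (nat_lit 0, nat_lit 0, nat_lit 56), (nat_lit 0, nat_lit 0, nat_lit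 33), (nat_lit 0, nat_lit 0, nat_lit 34), (nat_lit 0, nat_lit 0, nat_lit 35), (nat_lit 0, nat_lit 23, nat_lit 0), (nat_lit 1, nat_lit 22, nat_lit 0), (nat_lit 0, nat_lit 23, nat_lit 23), (nat_lit 0, nat_lit 0, nat_lit 2), (nat_lit 0, nat_lit 0, nat_lit 25), (nat_lit 0, nat_lit 0, nat_lit 16), (nat_lit 0, nat_lit 0, nat_lit 17), (nat_lit 0, nat_lit 0, nat_lit 28), (nat_lit 0, nat_lit 0, nat_lit 29), (nat_lit 0, nat_lit 7, nat_lit 0)]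
def t11_23_23_s0 : Nat := nat_lit 0xbaeb61a206a327129dc07b4412492a
def t11_23_23_s1 : Nat := nat_lit 0xb89cd245f6818684d1650d5933c940
def t11_23_23_s2 : Nat := nat_lit 0xb8994229c7942a8196cd8a5f359820
def t11_23_23_s3 : Nat := nat_lit 0xbac86b392c9a9032d4f16c1f2a0820
def t11_23_23_s4 : Nat := nat_lit 0xba1474922b3398d85676a3cb218820
def t11_23_23_s5 : Nat := nat_lit 0xbcd69958b5a44c4829ed621c718820
def t11_23_23_s6 : Nat := nat_lit 0xbc12ba18ad946c79b11553dc418820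
noncomputable def t11_23_23_lev0 : Core.Lev := Core.mkLev m23_n m23_w m23_mask m23_L m23_maskL m23_idc (nat_lit 0) [t11_23_23_s6, t11_23_23_s4, t11_23_23_s5, t11_23_23_s3, t11_23_23_s2, t11_23_23_s1, t11_23_23_s0] [(nat_lit 10, t11_23_23_s0, nat_lit 0), (nat_lit 12, t11_23_23_s6, nat_lit 10), (nat_lit 21, t11_23_23_s4, nat_lit 10), (nat_lit 5, t11_23_23_s2, nat_lit 10), (nat_lit 20, t11_23_23_s1, nat_lit 10), (nat_lit 7, t11_23_23_s0, nat_lit 10), (nat_lit 13, t11_23_23_s4, nat_lit 12), (nat_lit 4, t11_23_23_s5, nat_lit 12), (nat_lit 3, t11_23_23_s3, nat_lit 12), (nat_lit 8, t11_23_23_s2, nat_lit 12), (nat_lit 17, t11_23_23_s0, nat_lit 12), (nat_lit 9, t11_23_23_s6, nat_lit 21), (nat_lit 11, t11_23_23_s5, nat_lit 21), (nat_lit 14, t11_23_23_s1, nat_lit 21), (nat_lit 15, t11_23_23_s3, nat_lit 5), (nat_lit 2, t11_23_23_s0, nat_lit 5), (nat_lit 6, t11_23_23_s3,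 nat_lit 20), (nat_lit 22, t11_23_23_s0, nat_lit 20), (nat_lit 1, t11_23_23_s1, nat_lit 7), (nat_lit 19, t11_23_23_s0, nat_lit 13), (nat_lit 18, t11_23_23_s4, nat_lit 4), (nat_lit 16, t11_23_23_s0, nat_lit 17)]
noncomputable def t11_23_23_lev1 : Core.Lev := Core.mkLev m23_n m23_w m23_mask m23_L m23_maskL m23_idc (nat_lit 1) [t11_23_23_s6, t11_23_23_s4, t11_23_23_s5, t11_23_23_s3, t11_23_23_s2, t11_23_23_s1] [(nat_lit 10, t11_23_23_s1, nat_lit 1), (nat_lit 12, t11_23_23_s6, nat_lit 10), (nat_lit 21, t11_23_23_s4, nat_lit 10), (nat_lit 5, t11_23_23_s2, nat_lit 10), (nat_lit 20, t11_23_23_s1, nat_lit 10), (nat_lit 7, t11_23_23_s6, nat_lit 12), (nat_lit 13, t11_23_23_s4, nat_lit 12), (nat_lit 4, t11_23_23_s5, nat_lit 12), (nat_lit 3, t11_23_23_s3, nat_lit 12), (nat_lit 8, t11_23_23_s2, nat_lit 12), (nat_lit 9, t11_23_23_s6, nat_lit 21), (nat_lit 11, t11_23_23_s5,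 nat_lit 21), (nat_lit 14, t11_23_23_s1, nat_lit 21), (nat_lit 15, t11_23_23_s3, nat_lit 5), (nat_lit 6, t11_23_23_s3, nat_lit 20), (nat_lit 17, t11_23_23_s2, nat_lit 7), (nat_lit 22, t11_23_23_s6, nat_lit 13), (nat_lit 18, t11_23_23_s4, nat_lit 4), (nat_lit 19, t11_23_23_s2, nat_lit 4), (nat_lit 16, t11_23_23_s4, nat_lit 11), (nat_lit 2, t11_23_23_s2, nat_lit 22)]
noncomputable def t11_23_23_lev2 : Core.Lev := Core.mkLev m23_n m23_w m23_mask m23_L m23_maskL m23_idc (nat_lit 2) [t11_23_23_s6, t11_23_23_s4, t11_23_23_s5, t11_23_23_s3, t11_23_23_s2] [(nat_lit 6, t11_23_23_s2, nat_lit 2), (nat_lit 15, t11_23_23_s6, nat_lit 6), (nat_lit 8, t11_23_23_s5, nat_lit 6), (nat_lit 16, t11_23_23_s3, nat_lit 6), (nat_lit 9, t11_23_23_s2, nat_lit 6), (nat_lit 18, t11_23_23_s6, nat_lit 15), (nat_lit 20, t11_23_23_s5, nat_lit 15), (nat_lit 19, t11_23_23_s3, nat_lit 15), (nat_lit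 21, t11_23_23_s6, nat_lit 8), (nat_lit 22, t11_23_23_s4, nat_lit 8), (nat_lit 13, t11_23_23_s5, nat_lit 8), (nat_lit 17, t11_23_23_s3, nat_lit 8), (nat_lit 11, t11_23_23_s4, nat_lit 16), (nat_lit 12, t11_23_23_s3, nat_lit 16), (nat_lit 7, t11_23_23_s2, nat_lit 16), (nat_lit 4, t11_23_23_s4, nat_lit 18), (nat_lit 14, t11_23_23_s3, nat_lit 18), (nat_lit 10, t11_23_23_s2, nat_lit 18), (nat_lit 5, t11_23_23_s6, nat_lit 17), (nat_lit 3, t11_23_23_s2, nat_lit 11)]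
noncomputable def t11_23_23_lev3 : Core.Lev := Core.mkLev m23_n m23_w m23_mask m23_L m23_maskL m23_idc (nat_lit 3) [t11_23_23_s6, t11_23_23_s4, t11_23_23_s5, t11_23_23_s3] [(nat_lit 20, t11_23_23_s3, nat_lit 3), (nat_lit 11, t11_23_23_s6, nat_lit 20), (nat_lit 7, t11_23_23_s4, nat_lit 20), (nat_lit 9, t11_23_23_s5, nat_lit 20), (nat_lit 6, t11_23_23_s3, nat_lit 20), (nat_lit 19, t11_23_23_s6, nat_lit 11), (nat_lit 16, t11_23_23_s4, nat_lit 11), (nat_lit 5, t11_23_23_s3, nat_lit 11), (nat_lit 10, t11_23_23_s6, nat_lit 7), (nat_lit 12, t11_23_23_s5, nat_lit 7), (nat_lit 13, t11_23_23_s3, nat_lit 7), (nat_lit 8, t11_23_23_s6, nat_lit 9), (nat_lit 15, t11_23_23_s5, nat_lit 9), (nat_lit 18, t11_23_23_s5, nat_lit 19), (nat_lit 22, t11_23_23_s3, nat_lit 19), (nat_lit 21, t11_23_23_s5, nat_lit 16), (nat_lit 14, t11_23_23_s6, nat_lit 5), (nat_lit 4, t11_23_23_s5, nat_lit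 12), (nat_lit 17, t11_23_23_s3, nat_lit 8)]
noncomputable def t11_23_23_lev4 : Core.Lev := Core.mkLev m23_n m23_w m23_mask m23_L m23_maskL m23_idc (nat_lit 4) [t11_23_23_s6, t11_23_23_s4, t11_23_23_s5] [(nat_lit 18, t11_23_23_s4, nat_lit 4), (nat_lit 7, t11_23_23_s5, nat_lit 4), (nat_lit 6, t11_23_23_s6, nat_lit 18), (nat_lit 22, t11_23_23_s5, nat_lit 18), (nat_lit 10, t11_23_23_s6, nat_lit 7), (nat_lit 20, t11_23_23_s4, nat_lit 7), (nat_lit 12, t11_23_23_s5, nat_lit 7), (nat_lit 15, t11_23_23_s6, nat_lit 6), (nat_lit 8, t11_23_23_s5, nat_lit 6), (nat_lit 16, t11_23_23_s6, nat_lit 22), (nat_lit 19, t11_23_23_s5, nat_lit 22), (nat_lit 21, t11_23_23_s4, nat_lit 10), (nat_lit 11, t11_23_23_s6, nat_lit 20), (nat_lit 9, t11_23_23_s5, nat_lit 20), (nat_lit 13, t11_23_23_s4, nat_lit 12)]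
noncomputable def t11_23_23_lev5 : Core.Lev := Core.mkLev m23_n m23_w m23_mask m23_L m23_maskL m23_idc (nat_lit 5) [t11_23_23_s6] [(nat_lit 14, t11_23_23_s6, nat_lit 5), (nat_lit 17, t11_23_23_s6, nat_lit 14)]
noncomputable def t11_23_23_levels : List Core.Lev := [t11_23_23_lev0, t11_23_23_lev1, t11_23_23_lev2, t11_23_23_lev3, t11_23_23_lev4, t11_23_23_lev5]
theorem t11_23_23_ok : Core.checkAll m23_n m23_w m23_mask m23_L m23_maskL m23_idc [t11_23_23_X, t11_23_23_Y] t11_23_23_prog t11_23_23_levels = true := by decide +kernel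
theorem t11_23_23_ord : Core.orderC t11_23_23_levels = 10200960 := by decide +kernel
theorem t11_23_23_tr : tripleOK 11 23 23 t11_23_23_X t11_23_23_Y = true := by decide +kernel
theorem wit_11_23_23 : WitP 11 23 23 := wit_of (by norm_num) (by norm_num) (by norm_num) t11_23_23_ok t11_23_23_ord t11_23_23_tr

def t23_23_23_X : Nat := nat_lit 0xbd1861c4965040e409a55c927ace0f
def t23_23_23_Y : Nat := nat_lit 0xbc52f3054b20296ac9a59b04343a07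
def t23_23_23_prog : List (Nat × Nat × Nat) := [(nat_lit 1, nat_lit 1, nat_lit 0), (nat_lit 1, nat_lit 1, nat_lit 0), (nat_lit 0, nat_lit 3, nat_lit 2), (nat_lit 0, nat_lit 0, nat_lit 4), (nat_lit 0, nat_lit 0, nat_lit 4), (nat_lit 0, nat_lit 0, nat_lit 5), (nat_lit 0, nat_lit 4, nat_lit 5), (nat_lit 0, nat_lit 0, nat_lit 6), (nat_lit 0, nat_lit 0, nat_lit 7), (nat_lit 0, nat_lit 0, nat_lit 3), (nat_lit 0, nat_lit 10, nat_lit 11), (nat_lit 0, nat_lit 0, nat_lit 12), (nat_lit 0, nat_lit 0, nat_lit 12), (nat_lit 0, nat_lit 0, nat_lit 14), (nat_lit 0, nat_lit 0, nat_lit 14), (nat_lit 0, nat_lit 0, nat_lit 15), (nat_lit 0, nat_lit 0, nat_lit 17), (nat_lit 0, nat_lit 0, nat_lit 17), (nat_lit 0, nat_lit 0, nat_lit 18), (nat_lit 0, nat_lit 18, nat_lit 17), (nat_lit 0, nat_lit 0, nat_lit 1), (nat_lit 1, nat_lit 11, nat_lit 0), (nat_lit 1, nat_lit 1, nat_lit 0), (nat_lit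 0, nat_lit 13, nat_lit 2), (nat_lit 0, nat_lit 0, nat_lit 14), (nat_lit 0, nat_lit 0, nat_lit 15), (nat_lit 0, nat_lit 0, nat_lit 16), (nat_lit 0, nat_lit 5, nat_lit 4), (nat_lit 0, nat_lit 0, nat_lit 5), (nat_lit 0, nat_lit 0, nat_lit 2), (nat_lit 0, nat_lit 20, nat_lit 20), (nat_lit 0, nat_lit 0, nat_lit 10), (nat_lit 0, nat_lit 0, nat_lit 22), (nat_lit 0, nat_lit 0, nat_lit 23), (nat_lit 0, nat_lit 0, nat_lit 13), (nat_lit 0, nat_lit 0, nat_lit 14), (nat_lit 0, nat_lit 0, nat_lit 26), (nat_lit 0, nat_lit 0, nat_lit 16), (nat_lit 0, nat_lit 0, nat_lit 28), (nat_lit 0, nat_lit 10, nat_lit 17), (nat_lit 0, nat_lit 0, nat_lit 18), (nat_lit 0, nat_lit 0, nat_lit 19), (nat_lit 0, nat_lit 0, nat_lit 3), (nat_lit 1, nat_lit 13, nat_lit 0), (nat_lit 1, nat_lit 1, nat_lit 0), (nat_lit 0, nat_lit 15, nat_lit 2), (nat_lit 0, nat_lit 0, nat_lit 16), (nat_lit 0, nat_lit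 0, nat_lit 4), (nat_lit 0, nat_lit 0, nat_lit 18), (nat_lit 0, nat_lit 0, nat_lit 19), (nat_lit 0, nat_lit 0, nat_lit 7), (nat_lit 0, nat_lit 0, nat_lit 21), (nat_lit 0, nat_lit 0, nat_lit 9), (nat_lit 0, nat_lit 0, nat_lit 10), (nat_lit 0, nat_lit 0, nat_lit 24), (nat_lit 0, nat_lit 11, nat_lit 10), (nat_lit 0, nat_lit 0, nat_lit 12), (nat_lit 0, nat_lit 0, nat_lit 2), (nat_lit 0, nat_lit 15, nat_lit 15), (nat_lit 0, nat_lit 0, nat_lit 16), (nat_lit 0, nat_lit 0, nat_lit 30), (nat_lit 0, nat_lit 0, nat_lit 18), (nat_lit 0, nat_lit 0, nat_lit 32), (nat_lit 0, nat_lit 0, nat_lit 20), (nat_lit 0, nat_lit 0, nat_lit 21), (nat_lit 0, nat_lit 9, nat_lit 20), (nat_lit 0, nat_lit 0, nat_lit 21), (nat_lit 0, nat_lit 0, nat_lit 22), (nat_lit 0, nat_lit 0, nat_lit 3), (nat_lit 0, nat_lit 18, nat_lit 26), (nat_lit 0, nat_lit 0, nat_lit 27), (nat_lit 0, nat_lit 26, nat_lit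 27), (nat_lit 0, nat_lit 0, nat_lit 1), (nat_lit 0, nat_lit 43, nat_lit 43), (nat_lit 0, nat_lit 0, nat_lit 31), (nat_lit 0, nat_lit 0, nat_lit 32), (nat_lit 0, nat_lit 0, nat_lit 46), (nat_lit 0, nat_lit 0, nat_lit 47), (nat_lit 0, nat_lit 0, nat_lit 48), (nat_lit 0, nat_lit 0, nat_lit 49), (nat_lit 0, nat_lit 0, nat_lit 50), (nat_lit 0, nat_lit 0, nat_lit 51), (nat_lit 0, nat_lit 0, nat_lit 39), (nat_lit 0, nat_lit 11, nat_lit 39), (nat_lit 0, nat_lit 0, nat_lit 39), (nat_lit 0, nat_lit 0, nat_lit 2), (nat_lit 1, nat_lit 28, nat_lit 0), (nat_lit 1, nat_lit 18, nat_lit 0), (nat_lit 1, nat_lit 2, nat_lit 0), (nat_lit 0, nat_lit 16, nat_lit 3), (nat_lit 0, nat_lit 0, nat_lit 17), (nat_lit 0, nat_lit 0, nat_lit 33), (nat_lit 0, nat_lit 0, nat_lit 6), (nat_lit 0, nat_lit 0, nat_lit 24), (nat_lit 0, nat_lit 0, nat_lit 25), (nat_lit 0, nat_lit 0, nat_lit 9), (nat_lit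 0, nat_lit 0, nat_lit 38), (nat_lit 0, nat_lit 9, nat_lit 10), (nat_lit 0, nat_lit 0, nat_lit 1), (nat_lit 0, nat_lit 13, nat_lit 30), (nat_lit 0, nat_lit 0, nat_lit 14), (nat_lit 0, nat_lit 0, nat_lit 15), (nat_lit 0, nat_lit 0, nat_lit 29), (nat_lit 0, nat_lit 0, nat_lit 17), (nat_lit 0, nat_lit 0, nat_lit 31), (nat_lit 0, nat_lit 0, nat_lit 47), (nat_lit 0, nat_lit 0, nat_lit 33), (nat_lit 0, nat_lit 20, nat_lit 20), (nat_lit 0, nat_lit 0, nat_lit 20), (nat_lit 0, nat_lit 0, nat_lit 2), (nat_lit 0, nat_lit 10, nat_lit 41), (nat_lit 0, nat_lit 0, nat_lit 42), (nat_lit 0, nat_lit 23, nat_lit 24), (nat_lit 0, nat_lit 0, nat_lit 1), (nat_lit 0, nat_lit 56, nat_lit 41), (nat_lit 0, nat_lit 0, nat_lit 57), (nat_lit 0, nat_lit 0, nat_lit 58), (nat_lit 0, nat_lit 0, nat_lit 59), (nat_lit 0, nat_lit 0, nat_lit 60), (nat_lit 0, nat_lit 0, nat_lit 33), (nat_lit 0, nat_lit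 0, nat_lit 62), (nat_lit 0, nat_lit 0, nat_lit 48), (nat_lit 0, nat_lit 0, nat_lit 53), (nat_lit 0, nat_lit 0, nat_lit 50), (nat_lit 0, nat_lit 0, nat_lit 66), (nat_lit 0, nat_lit 16, nat_lit 38), (nat_lit 0, nat_lit 0, nat_lit 1), (nat_lit 1, nat_lit 28, nat_lit 0), (nat_lit 1, nat_lit 18, nat_lit 0), (nat_lit 1, nat_lit 15, nat_lit 0), (nat_lit 0, nat_lit 3, nat_lit 3), (nat_lit 0, nat_lit 0, nat_lit 4), (nat_lit 0, nat_lit 0, nat_lit 33), (nat_lit 0, nat_lit 0, nat_lit 34), (nat_lit 0, nat_lit 0, nat_lit 20), (nat_lit 0, nat_lit 0, nat_lit 8), (nat_lit 0, nat_lit 0, nat_lit 22), (nat_lit 0, nat_lit 0, nat_lit 10), (nat_lit 0, nat_lit 9, nat_lit 10), (nat_lit 0, nat_lit 0, nat_lit 9), (nat_lit 0, nat_lit 0, nat_lit 2)]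
def t23_23_23_s0 : Nat := nat_lit 0xbd1861c4965040e409a55c927ace0f
def t23_23_23_s1 : Nat := nat_lit 0xbaed1acdd219da50bc8c3245442a00
def t23_23_23_s2 : Nat := nat_lit 0xbba463bcb62350a145941c173aa420
def t23_23_23_s3 : Nat := nat_lit 0xba0b31a60c3b64fa54ca8bacb20820
def t23_23_23_s4 : Nat := nat_lit 0xbc255651c4395a979a6a5a23618820
def t23_23_23_s5 : Nat := nat_lit 0xbd5f04a1c6b166c911ab5522718820
def t23_23_23_s6 : Nat := nat_lit 0xbc12ba18ad946c79b11553dc418820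
noncomputable def t23_23_23_lev0 : Core.Lev := Core.mkLev m23_n m23_w m23_mask m23_L m23_maskL m23_idc (nat_lit 0) [t23_23_23_s6, t23_23_23_s4, t23_23_23_s5, t23_23_23_s3, t23_23_23_s2, t23_23_23_s1, t23_23_23_s0] [(nat_lit 15, t23_23_23_s0, nat_lit 0), (nat_lit 18, t23_23_23_s6, nat_lit 15), (nat_lit 7, t23_23_23_s4, nat_lit 15), (nat_lit 22, t23_23_23_s5, nat_lit 15), (nat_lit 4, t23_23_23_s2, nat_lit 15), (nat_lit 3, t23_23_23_s1, nat_lit 15), (nat_lit 10, t23_23_23_s0, nat_lit 15), (nat_lit 6, t23_23_23_s6, nat_lit 18), (nat_lit 20, t23_23_23_s4, nat_lit 18), (nat_lit 8, t23_23_23_s5, nat_lit 18), (nat_lit 9, t23_23_23_s3, nat_lit 18), (nat_lit 19, t23_23_23_s1, nat_lit 18), (nat_lit 17, t23_23_23_s0, nat_lit 18), (nat_lit 11, t23_23_23_s4, nat_lit 7), (nat_lit 16, t23_23_23_s6, nat_lit 22), (nat_lit 21, t23_23_23_s5, nat_lit 22), (nat_lit 14, t23_23_23_s2,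 nat_lit 22), (nat_lit 12, t23_23_23_s6, nat_lit 10), (nat_lit 2, t23_23_23_s0, nat_lit 10), (nat_lit 5, t23_23_23_s0, nat_lit 8), (nat_lit 13, t23_23_23_s5, nat_lit 9), (nat_lit 1, t23_23_23_s1, nat_lit 11)]
noncomputable def t23_23_23_lev1 : Core.Lev := Core.mkLev m23_n m23_w m23_mask m23_L m23_maskL m23_idc (nat_lit 1) [t23_23_23_s6, t23_23_23_s4, t23_23_23_s5, t23_23_23_s3, t23_23_23_s2, t23_23_23_s1] [(nat_lit 16, t23_23_23_s1, nat_lit 1), (nat_lit 13, t23_23_23_s6, nat_lit 16), (nat_lit 4, t23_23_23_s4, nat_lit 16), (nat_lit 6, t23_23_23_s5, nat_lit 16), (nat_lit 12, t23_23_23_s3, nat_lit 16), (nat_lit 22, t23_23_23_s2, nat_lit 16), (nat_lit 18, t23_23_23_s1, nat_lit 16), (nat_lit 19, t23_23_23_s5, nat_lit 13), (nat_lit 8, t23_23_23_s2, nat_lit 13), (nat_lit 7, t23_23_23_s5, nat_lit 4), (nat_lit 11, t23_23_23_s3, nat_lit 4), (nat_lit 20, t23_23_23_s1, nat_lit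 4), (nat_lit 15, t23_23_23_s6, nat_lit 6), (nat_lit 14, t23_23_23_s3, nat_lit 6), (nat_lit 9, t23_23_23_s1, nat_lit 6), (nat_lit 10, t23_23_23_s2, nat_lit 12), (nat_lit 5, t23_23_23_s1, nat_lit 12), (nat_lit 21, t23_23_23_s5, nat_lit 22), (nat_lit 3, t23_23_23_s3, nat_lit 19), (nat_lit 17, t23_23_23_s3, nat_lit 7), (nat_lit 2, t23_23_23_s2, nat_lit 11)]
noncomputable def t23_23_23_lev2 : Core.Lev := Core.mkLev m23_n m23_w m23_mask m23_L m23_maskL m23_idc (nat_lit 2) [t23_23_23_s6, t23_23_23_s4, t23_23_23_s5, t23_23_23_s3, t23_23_23_s2] [(nat_lit 9, t23_23_23_s2, nat_lit 2), (nat_lit 8, t23_23_23_s6, nat_lit 9), (nat_lit 19, t23_23_23_s4, nat_lit 9), (nat_lit 13, t23_23_23_s5, nat_lit 9), (nat_lit 6, t23_23_23_s3, nat_lit 9), (nat_lit 12, t23_23_23_s2, nat_lit 9), (nat_lit 21, t23_23_23_s6, nat_lit 8), (nat_lit 10, t23_23_23_s4, nat_lit 8), (nat_lit 11, t23_23_23_s5,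 nat_lit 8), (nat_lit 20, t23_23_23_s2, nat_lit 8), (nat_lit 3, t23_23_23_s3, nat_lit 19), (nat_lit 7, t23_23_23_s2, nat_lit 19), (nat_lit 22, t23_23_23_s6, nat_lit 13), (nat_lit 18, t23_23_23_s3, nat_lit 13), (nat_lit 15, t23_23_23_s6, nat_lit 6), (nat_lit 14, t23_23_23_s3, nat_lit 6), (nat_lit 16, t23_23_23_s2, nat_lit 6), (nat_lit 5, t23_23_23_s3, nat_lit 21), (nat_lit 4, t23_23_23_s5, nat_lit 10), (nat_lit 17, t23_23_23_s2, nat_lit 10)]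
noncomputable def t23_23_23_lev3 : Core.Lev := Core.mkLev m23_n m23_w m23_mask m23_L m23_maskL m23_idc (nat_lit 3) [t23_23_23_s6, t23_23_23_s4, t23_23_23_s5, t23_23_23_s3] [(nat_lit 4, t23_23_23_s3, nat_lit 3), (nat_lit 22, t23_23_23_s4, nat_lit 4), (nat_lit 7, t23_23_23_s5, nat_lit 4), (nat_lit 11, t23_23_23_s3, nat_lit 4), (nat_lit 16, t23_23_23_s6, nat_lit 22), (nat_lit 21, t23_23_23_s5, nat_lit 22), (nat_lit 8, t23_23_23_s3, nat_lit 22), (nat_lit 10, t23_23_23_s6, nat_lit 7), (nat_lit 17, t23_23_23_s3, nat_lit 7), (nat_lit 19, t23_23_23_s6, nat_lit 11), (nat_lit 15, t23_23_23_s4, nat_lit 11), (nat_lit 18, t23_23_23_s5, nat_lit 11), (nat_lit 20, t23_23_23_s3, nat_lit 11), (nat_lit 13, t23_23_23_s6, nat_lit 16), (nat_lit 6, t23_23_23_s5, nat_lit 16), (nat_lit 12, t23_23_23_s3, nat_lit 16), (nat_lit 9, t23_23_23_s6, nat_lit 21), (nat_lit 5, t23_23_23_s3, nat_lit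 21), (nat_lit 14, t23_23_23_s4, nat_lit 17)]
noncomputable def t23_23_23_lev4 : Core.Lev := Core.mkLev m23_n m23_w m23_mask m23_L m23_maskL m23_idc (nat_lit 4) [t23_23_23_s6, t23_23_23_s4, t23_23_23_s5] [(nat_lit 22, t23_23_23_s4, nat_lit 4), (nat_lit 7, t23_23_23_s5, nat_lit 4), (nat_lit 16, t23_23_23_s6, nat_lit 22), (nat_lit 21, t23_23_23_s5, nat_lit 22), (nat_lit 10, t23_23_23_s6, nat_lit 7), (nat_lit 11, t23_23_23_s4, nat_lit 7), (nat_lit 13, t23_23_23_s6, nat_lit 16), (nat_lit 6, t23_23_23_s5, nat_lit 16), (nat_lit 9, t23_23_23_s6, nat_lit 21), (nat_lit 18, t23_23_23_s4, nat_lit 21), (nat_lit 15, t23_23_23_s5, nat_lit 21), (nat_lit 12, t23_23_23_s6, nat_lit 10), (nat_lit 19, t23_23_23_s6, nat_lit 11), (nat_lit 8, t23_23_23_s4, nat_lit 6), (nat_lit 20, t23_23_23_s5, nat_lit 6)]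
noncomputable def t23_23_23_lev5 : Core.Lev := Core.mkLev m23_n m23_w m23_mask m23_L m23_maskL m23_idc (nat_lit 5) [t23_23_23_s6] [(nat_lit 14, t23_23_23_s6, nat_lit 5), (nat_lit 17, t23_23_23_s6, nat_lit 14)]
noncomputable def t23_23_23_levels : List Core.Lev := [t23_23_23_lev0, t23_23_23_lev1, t23_23_23_lev2, t23_23_23_lev3, t23_23_23_lev4, t23_23_23_lev5]
theorem t23_23_23_ok : Core.checkAll m23_n m23_w m23_mask m23_L m23_maskL m23_idc [t23_23_23_X, t23_23_23_Y] t23_23_23_prog t23_23_23_levels = true := by decide +kernel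
theorem t23_23_23_ord : Core.orderC t23_23_23_levels = 10200960 := by decide +kernel
theorem t23_23_23_tr : tripleOK 23 23 23 t23_23_23_X t23_23_23_Y = true := by decide +kernel
theorem wit_23_23_23 : WitP 23 23 23 := wit_of (by norm_num) (by norm_num) (by norm_num) t23_23_23_ok t23_23_23_ord t23_23_23_tr

end Cfsg.Agent.Lib.M23Triples.Cert3
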